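import Cfsg.Agent.Lib.Walter.JR.Setting
import Cfsg.Agent.Lib.Walter.Consumers
import Cfsg.Agent.Lib.Char.ReeOrder.Final
import Cfsg.Agent.Lib.Char.ReeOrder.Local
import Cfsg.Agent.Lib.Lead.JankoRee.Main

/-!
# `ReeJOneStatement` from `E = L` and the order theorem

A group of `IsJR` type has a frame; `JR.Statement` gives `E = L`, so `C(t) ≅ Z₂ × PSL₂(q)` and
`ReeOrder.order_or_j1` applies (`jr_order`).
-/

set_option autoImplicit false
set_option linter.unusedSectionVars false
set_option linter.style.haveILetI false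

namespace Cfsg.Agent.Walter.JR

open Subgroup Cfsg.Agent.Char.ReeThree Cfsg.Agent.Char.ReeOrder Cfsg.Agent.Small Cfsg.Agent.Solv.AbelianTwo

universe u

theorem mult_zmod_two_cases : ∀ a : Multiplicative (ZMod 2), a = 1 ∨ a = Multiplicative.ofAdd 1 := by decide

theorem mult_zmod_two_sq : (1 : Multiplicative (ZMod 2)) = Multiplicative.ofAdd 1 * Multiplicative.ofAdd 1 := by decide

theorem mult_zmod_two_ne : ¬ (Multiplicative.ofAdd 1 : Multiplicative (ZMod 2)) = 1 := by decide

theorem ringEquiv_eq_one {F : Type} [Field F] [Fintype F] {p : ℕ} [Fact p.Prime] (hF : Fintype.card F = p)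
    (σ : F ≃+* F) : σ = 1 := by
  haveI : CharP F p := charP_of_card_eq_prime hF
  have e : (σ.toRingHom).comp (ZMod.castHom dvd_rfl F) = ZMod.castHom dvd_rfl F := RingHom.ext_zmod _ _
  have hsurj : Function.Surjective (ZMod.castHom (dvd_refl p) F) :=
    (ZMod.castHom_bijective F hF).surjective
  refine RingEquiv.ext fun x => ?_
  obtain ⟨a, rfl⟩ := hsurj x
  exact RingHom.congr_fun e a

/-- In a group of `IsJR` shape with `E = L` in its frames: one class of involutions, `E = N`, and the order. -/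
theorem jr_order {K : Type u} [Group K] [Finite K] [IsSimpleGroup K] (hab : Ab2 K)
    {t : K} {E N : Subgroup K} {F : Type} [Field F] [Fintype F] (ht : orderOf t = 2)
    (hE : Cfsg.IsInternalDirectProduct (zpowers t) E (centralizer ({t} : Set K))) (hNE : N ≤ E)
    (hconjN : ∀ e ∈ E, ∀ n ∈ N, e * n * e⁻¹ ∈ N) (hFo : Odd (Fintype.card F)) (hF5 : 5 ≤ Fintype.card F)
    (iso : N ≃* Matrix.ProjectiveSpecialLinearGroup (Fin 2) F) (hCE : E ⊓ centralizer (N : Set K) = ⊥)
    (hS : ∀ (F' : Type) [Field F'] [Fintype F'] (C : Frame K F'), C.e = 1) :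
    (∀ x : K, orderOf x = 2 → IsConj t x) ∧ E = N ∧
      ((∃ m : ℕ, 1 ≤ m ∧ Fintype.card F = 3 ^ (2 * m + 1) ∧
          Nat.card K = (3 ^ (2 * m + 1)) ^ 3 * ((3 ^ (2 * m + 1)) ^ 3 + 1) * (3 ^ (2 * m + 1) - 1)) ∨
        ((Fintype.card F = 4 ∨ Fintype.card F = 5) ∧ Cfsg.IsJ1 K)) := by
  classical
  haveI : Fact (Nat.Prime 2) := ⟨Nat.prime_two⟩
  obtain ⟨T, hT8, hcyc⟩ :=
    cyc_jr ⟨inferInstance, hab, t, E, N, F, _, _, ht, hE, hNE, hconjN, hFo, hF5, ⟨iso⟩, hCE⟩
  haveI : Finite (Matrix.ProjectiveSpecialLinearGroup (Fin 2) F) := Finite.of_surjective _ PSL2.pr_surjective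
  -- all involutions are conjugate
  have hconj : ∀ x : K, orderOf x = 2 → IsConj t x := by
    have inT : ∀ x : K, orderOf x = 2 → ∃ g : K, g * x * g⁻¹ ∈ (T : Subgroup K) ∧ g * x * g⁻¹ ≠ 1 := by
      intro x hx
      obtain ⟨Q, hQ⟩ := (IsPGroup.of_card (n := 1) (by rw [Nat.card_zpowers, hx, pow_one]) :
        IsPGroup 2 (zpowers x)).exists_le_sylow
      obtain ⟨g, hg⟩ := MulAction.exists_smul_eq K Q T
      refine ⟨g, ?_, fun e => ?_⟩
      · rw [← hg, Sylow.coe_subgroup_smul]
        exact ⟨x, hQ (mem_zpowers x), rfl⟩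
      · rw [conj_eq_one_iff.1 e, orderOf_one] at hx
        omega
    intro x hx
    obtain ⟨g, hg, hg1⟩ := inT t ht
    obtain ⟨g', hg', hg1'⟩ := inT x hx
    obtain ⟨h, -, -, hh⟩ := hcyc.turn
    obtain ⟨i, hi⟩ := hh _ hg hg1 _ hg' hg1'
    exact isConj_iff.2 ⟨g'⁻¹ * h ^ i * g, by
      calc g'⁻¹ * h ^ i * g * t * (g'⁻¹ * h ^ i * g)⁻¹ = g'⁻¹ * (h ^ i * (g * t * g⁻¹) * (h ^ i)⁻¹) * g' := by group
        _ = x := by rw [hi]; group⟩
  have hna : ¬ IsMulCommutative K := fun hc => by
    refine S0810.psl_not_solvable (F := F) (by omega) (Group.isSolvable_of_comm fun a b => ?_)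
    exact iso.symm.injective (by rw [map_mul, map_mul]; exact Subtype.ext (hc.is_comm.comm _ _))
  -- `E / N` has odd order and `q ≡ 3, 5 (mod 8)`
  obtain ⟨hidx, h35⟩ : Odd (N.relIndex E) ∧ (Fintype.card F % 8 = 3 ∨ Fintype.card F % 8 = 5) := by
    have hne : centralizer ({t} : Set K) ≠ ⊤ := by
      intro h
      have hc : t ∈ center K := mem_center_iff.2 fun g => mem_centralizer_singleton_iff.1 (h ▸ mem_top g)
      rcases (inferInstance : (center K).Normal).eq_bot_or_eq_top with h' | h'
      · rw [h', mem_bot] at hc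
        rw [hc, orderOf_one] at ht
        omega
      · exact hna ⟨⟨fun a b => mem_center_iff.1 (h' ▸ mem_top b : b ∈ center K) a⟩⟩
    obtain ⟨Q, hQ⟩ := (IsPGroup.of_card (n := 1) (by rw [Nat.card_zpowers, ht, pow_one]) :
      IsPGroup 2 (zpowers t)).exists_le_sylow
    let D : Lead.JankoRee.RCtx K F :=
      { hG := hna, hab := hab, t := t, ht := ht, hne := hne, E := E, hE := hE, hFo := hFo, hF3 := by omega
        N := N, N_le := hNE, N_conj := hconjN, iso := iso
        faithful := fun e he h => by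
          have h' : e ∈ E ⊓ centralizer (N : Set K) := ⟨he, mem_centralizer_iff.2 fun n hn => (h n hn).symm⟩
          rwa [hCE, mem_bot] at h'
        S := Q, t_mem := hQ (mem_zpowers t) }
    exact ⟨D.N_index_odd, D.h35⟩
  let S : Split K := ⟨t, E, ht, hE⟩
  set L : Subgroup S.K := N.subgroupOf E with hL
  haveI : L.Normal := ⟨fun n hn e => mem_subgroupOf.2 (hconjN e e.2 n (mem_subgroupOf.1 hn))⟩
  let iL : L ≃* Matrix.ProjectiveSpecialLinearGroup (Fin 2) F := (subgroupOfEquivOfLe hNE).trans iso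
  have hCL : ∀ g : S.K, (∀ m ∈ L, Commute g m) → g = 1 := by
    intro g hg
    have hm : (g : K) ∈ E ⊓ centralizer (N : Set K) := ⟨g.2, mem_centralizer_iff.2 fun n hn =>
      (congrArg Subtype.val (hg ⟨n, hNE hn⟩ (mem_subgroupOf.2 hn)).eq).symm⟩
    rw [hCE, mem_bot] at hm
    exact Subtype.ext hm
  have hLtop : L = ⊤ := by
    rw [← Subgroup.index_eq_one]
    by_cases hq5 : 5 < Fintype.card F
    · obtain ⟨C, -, hCe⟩ := exists_frame S L iL hidx hCL h35 hq5 hconj hab
      rw [← hCe]
      exact hS F C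
    · rw [Subgroup.index_eq_one, eq_top_iff]
      intro g _
      have h2 : (2 : F) ≠ 0 := SL2C.not_two_dvd_iff.1 (by omega)
      haveI : Fact (Nat.Prime 5) := ⟨by norm_num⟩
      obtain ⟨A, σ, hg⟩ := exists_pure h2 L iL hidx g
      rw [ringEquiv_eq_one (show Fintype.card F = 5 by omega) σ, map_one, mul_one, PSL2.conjP_toGL,
        ← Classical.CyclicNormalizer.act_emb L iL] at hg
      rw [Classical.CyclicNormalizer.act_inj L iL hCL hg]
      exact Classical.CyclicNormalizer.emb_mem L iL _
  let eK : S.K ≃* Matrix.ProjectiveSpecialLinearGroup (Fin 2) F :=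
    (Subgroup.topEquiv.symm.trans (MulEquiv.subgroupCongr hLtop.symm)).trans iL
  -- the centraliser
  have hC : Nonempty (centralizer ({t} : Set K) ≃*
      Multiplicative (ZMod 2) × Matrix.ProjectiveSpecialLinearGroup (Fin 2) F) := by
    let ψ : centralizer ({t} : Set K) →* Multiplicative (ZMod 2) :=
      MonoidHom.mk' (fun c => if (c : K) ∈ E then 1 else Multiplicative.ofAdd 1) fun a b => by
        have ha := S.split a.2
        have hb := S.split b.2
        have key : ∀ x : S.C, (x : K) ∈ E ↔ S.sign x = 1 := fun x => by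
          constructor
          · intro h; exact if_pos h
          · intro h
            by_contra hx
            change (if (x : K) ∈ S.K then (1 : ℂˣ) else -1) = 1 at h
            rw [if_neg (show (x : K) ∉ S.K from hx)] at h
            have := congrArg Units.val h
            norm_num at this
        have hmul := map_mul S.sign a b
        by_cases h1 : (a : K) ∈ E <;> by_cases h2 : (b : K) ∈ E
        · rw [if_pos h1, if_pos h2, if_pos (show ((a * b : centralizer ({t} : Set K)) : K) ∈ E from mul_mem h1 h2),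
            one_mul]
        · rw [if_pos h1, if_neg h2, if_neg (fun h => h2 (by simpa using mul_mem (inv_mem h1) h)), one_mul]
        · rw [if_neg h1, if_pos h2, if_neg (fun h => h1 (by simpa using mul_mem h (inv_mem h2))), mul_one]
        · have hab' : ((a * b : centralizer ({t} : Set K)) : K) ∈ E := by
            have h := mul_mem (ha.resolve_left h1) (hb.resolve_left h2)
            rwa [show S.t * (a : K) * (S.t * b) = S.t * ((a : K) * S.t) * b by group, S.mem_C.1 a.2,
              ← mul_assoc S.t S.t, S.sq_t, one_mul] at h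
          rw [if_neg h1, if_neg h2, if_pos hab']
          exact mult_zmod_two_sq
    refine ⟨MulEquiv.ofBijective (ψ.prod (eK.toMonoidHom.comp S.proj)) ⟨?_, ?_⟩⟩
    · rw [injective_iff_map_eq_one]
      intro c hc
      have h1 : ψ c = 1 := congrArg Prod.fst hc
      have hcE : (c : K) ∈ E := by
        by_contra hn
        change (if (c : K) ∈ E then (1 : Multiplicative (ZMod 2)) else Multiplicative.ofAdd 1) = 1 at h1
        rw [if_neg hn] at h1
        exact absurd h1 mult_zmod_two_ne
      have h2 : S.proj c = 1 := eK.injective ((congrArg Prod.snd hc).trans (map_one eK).symm)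
      have h3 := congrArg Subtype.val h2
      simp only [Split.proj, MonoidHom.coe_mk, OneHom.coe_mk] at h3
      rw [dif_pos hcE] at h3
      exact Subtype.ext h3
    · rintro ⟨z, p⟩
      set k := eK.symm p with hk
      rcases mult_zmod_two_cases z with rfl | rfl
      · refine ⟨⟨k, S.K_le k.2⟩, Prod.ext (if_pos k.2) ?_⟩
        show eK (S.proj _) = p
        simp only [Split.proj, MonoidHom.coe_mk, OneHom.coe_mk]
        rw [dif_pos (show (k : K) ∈ S.K from k.2)]
        exact eK.apply_symm_apply p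
      · have hn : t * (k : K) ∉ E := S.not_both k.2
        refine ⟨⟨t * k, mul_mem (show t ∈ centralizer ({t} : Set K) from S.t_mem_C) (S.K_le k.2)⟩,
          Prod.ext (if_neg hn) ?_⟩
        show eK (S.proj _) = p
        simp only [Split.proj, MonoidHom.coe_mk, OneHom.coe_mk]
        rw [dif_neg (show (t * (k : K)) ∉ S.K from hn)]
        rw [show (⟨S.t * (t * (k : K)), _⟩ : S.K) = k from Subtype.ext (show S.t * (t * (k : K)) = k by
          rw [← mul_assoc]; exact (congrArg (· * (k : K)) S.sq_t).trans (one_mul _))]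
        exact eK.apply_symm_apply p
  exact ⟨hconj, le_antisymm (fun g hg => mem_subgroupOf.1 (show (⟨g, hg⟩ : S.K) ∈ L by rw [hLtop]; exact mem_top _))
    hNE, order_or_j1 localFpf (fun P => fun a b => (hab P).is_comm.comm a b) (by omega) t ht hC⟩

theorem reeJOne_of (hW : SimpleStatement.{u}) (hS : Statement.{u}) : ReeJOneStatement.{u} := by
  classical
  intro K _ _ hK
  obtain ⟨hs, hab, t, E, N, F, iF, iT, ht, hE, hNE, hconjN, hFo, hF5, ⟨iso⟩, hCE⟩ := hK
  haveI := hs
  obtain ⟨-, -, ⟨m, hm, -, hcard⟩ | ⟨-, hJ⟩⟩ := jr_order hab ht hE hNE hconjN hFo hF5 iso hCE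
    fun F' _ _ C => hS K F' C fun M _ _ _ hM hMab _ => hW M hM hMab
  · exact Or.inl ⟨hs, m, hm, hcard⟩
  · exact Or.inr hJ

/-- S0506 and S0993 wait only for these two inputs. -/
theorem reeJOne_of_halves (hW : SimpleStatement.{u}) (hm : MainStatement.{u}) (hr : ResidualStatement.{u}) :
    ReeJOneStatement.{u} :=
  reeJOne_of hW (statement_of hm hr)

end Cfsg.Agent.Walter.JR
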