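import Cfsg.Agent.Lib.Walter.JR.Setting
import Cfsg.Agent.Lib.Char.ReeOrder.LocalPsl
import Cfsg.Agent.Lib.Char.ReeOrder.LocalRankTwo
import Cfsg.Agent.Lib.Small.PSLn.Out

/-!
# Elementary facts about a `Frame`

`Φ` is abelian; `L` has a four group `⟨s, u₀⟩` and a rotation of it, all fixed by `Φ`; the structure of `C(t)` and
`C(V)`; `N(S)` centralises `Φ`; a rotation `ρ` of `V` and an involution `u` commuting with `Φ`.
-/

set_option autoImplicit false
set_option linter.unusedSectionVars false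
set_option linter.style.haveILetI false

namespace Cfsg.Agent.Walter.JR

open Subgroup Cfsg.Agent.Char.ReeThree Cfsg.Agent.Char.ReeOrder Cfsg.Agent.Small Cfsg.Agent.Solv.AbelianTwo

universe u

namespace Frame

variable {G : Type u} [Group G] [Finite G] {F : Type} [Field F] [Fintype F] (C : Frame G F)

include C in
theorem two_ne : (2 : F) ≠ 0 := SL2C.not_two_dvd_iff.1 (by have := C.D.q8; omega)

/-- The element of `G` with the given matrix. -/
noncomputable def elt (A : Matrix.SpecialLinearGroup (Fin 2) F) : G := C.embL (C.iso.symm (PSL2.pr A))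

theorem embL_inj : Function.Injective C.embL := C.S.K.subtype_injective.comp C.L.subtype_injective

theorem embL_mem_K (x : C.L) : C.embL x ∈ C.S.K := (x : C.S.K).2

theorem embL_t (x : C.L) : C.embL x * C.S.t = C.S.t * C.embL x := C.S.comm_t (C.embL_mem_K x)

theorem s_eq : C.s = C.embL C.D.s := rfl

theorem mem_PhiG {f : G} : f ∈ C.PhiG ↔ ∃ h : f ∈ C.S.K, (⟨f, h⟩ : C.S.K) ∈ C.Phi := by
  constructor
  · rintro ⟨y, hy, rfl⟩; exact ⟨y.2, hy⟩
  · rintro ⟨h, hy⟩; exact ⟨⟨f, h⟩, hy, rfl⟩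

theorem Phi_K {f : G} (hf : f ∈ C.PhiG) : f ∈ C.S.K := (C.mem_PhiG.1 hf).1

theorem Phi_t {f : G} (hf : f ∈ C.PhiG) : f * C.S.t = C.S.t * f := C.S.comm_t (C.Phi_K hf)

/-- Conjugation of `L` by `Φ` in coordinates. -/
theorem conj_embL (f : C.Phi) (x : C.L) :
    ((f : C.S.K) : G) * C.embL x * ((f : C.S.K) : G)⁻¹ =
      C.embL (C.iso.symm (PSL2.fieldP (C.alpha f) (C.iso x))) := by
  rw [← C.equiv, C.iso.symm_apply_apply]
  rfl

theorem Phi_comm {f g : G} (hf : f ∈ C.PhiG) (hg : g ∈ C.PhiG) : f * g = g * f := by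
  obtain ⟨a, ha, rfl⟩ := hf
  obtain ⟨b, hb, rfl⟩ := hg
  obtain ⟨p, hp⟩ := CharP.exists F
  haveI := Fact.mk (CharP.char_is_prime F p)
  obtain ⟨n, -, hn⟩ := FiniteField.card F p
  obtain ⟨ψ⟩ := PSLn.fieldAut_equiv hn
  have h : (⟨a, ha⟩ * ⟨b, hb⟩ : C.Phi) = ⟨b, hb⟩ * ⟨a, ha⟩ :=
    C.alpha_inj (ψ.injective (by simp only [map_mul]; exact mul_comm _ _))
  exact congrArg (fun z : C.Phi => ((z : C.S.K) : G)) h

theorem Phi_odd {f : G} (hf : f ∈ C.PhiG) : Odd (orderOf f) := by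
  refine odd_order_of_mem ?_ hf
  rw [Subgroup.card_map_of_injective C.S.K.subtype_injective]
  exact C.odd

theorem card_PhiG : Nat.card C.PhiG = C.e := Subgroup.card_map_of_injective C.S.K.subtype_injective

theorem L_inter_Phi {x : C.L} (hx : C.embL x ∈ C.PhiG) : x = 1 := by
  obtain ⟨h, hy⟩ := C.mem_PhiG.1 hx
  exact Subtype.ext (Subgroup.disjoint_def.1 C.compl.disjoint x.2 (by
    have e : (⟨C.embL x, h⟩ : C.S.K) = (x : C.S.K) := Subtype.ext rfl
    exact e ▸ hy))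

theorem elt_mul (A B : Matrix.SpecialLinearGroup (Fin 2) F) : C.elt A * C.elt B = C.elt (A * B) := by
  simp [elt]

theorem elt_one : C.elt 1 = 1 := by simp [elt]

theorem elt_wS : C.elt PSL2.wS = C.s := by
  rw [elt, ← C.D_s, C.iso.symm_apply_apply]; rfl

theorem elt_fix {A : Matrix.SpecialLinearGroup (Fin 2) F} (h : ∀ (σ : F ≃+* F) i j, σ (A.1 i j) = A.1 i j) {f : G}
    (hf : f ∈ C.PhiG) : f * C.elt A = C.elt A * f := by
  obtain ⟨a, ha, rfl⟩ := hf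
  have e := C.conj_embL ⟨a, ha⟩ (C.iso.symm (PSL2.pr A))
  rw [C.iso.apply_symm_apply, Solv.Partition.AutPSL.fieldP_fix (h _)] at e
  exact mul_inv_eq_iff_eq_mul.1 e

theorem s_fix {f : G} (hf : f ∈ C.PhiG) : f * C.s = C.s * f := by
  rw [← C.elt_wS]
  refine C.elt_fix (fun σ i j => ?_) hf
  fin_cases i <;> fin_cases j <;> simp

theorem s_t : C.s * C.S.t = C.S.t * C.s := C.embL_t C.D.s

theorem sq_s : C.s * C.s = 1 := by rw [C.s_eq, ← map_mul, C.D.s_sq, map_one]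

theorem s_ne : C.s ≠ 1 := fun h => by
  have h1 : orderOf C.s = 2 := by rw [C.s_eq, orderOf_injective _ C.embL_inj, C.D.hs]
  rw [h, orderOf_one] at h1
  omega

theorem t_ne : C.S.t ≠ 1 := fun h => by
  have h1 := C.S.ht
  rw [h, orderOf_one] at h1
  omega

/-- A four group of `L` and a rotation of it, fixed by `Φ`. -/
theorem exists_klein : ∃ u0 th : C.L,
    u0 * C.D.s = C.D.s * u0 ∧ u0 * u0 = 1 ∧ u0 ∉ C.D.W ∧ th ^ 3 = 1 ∧ th * C.D.s * th⁻¹ = u0 ∧
      th * u0 * th⁻¹ = C.D.s * u0 ∧ ∀ f ∈ C.PhiG, f * C.embL u0 = C.embL u0 * f ∧ f * C.embL th = C.embL th * f := by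
  have h2 := C.two_ne
  obtain ⟨p, hp⟩ := CharP.exists F
  haveI := Fact.mk (CharP.char_is_prime F p)
  obtain ⟨a, c, hac⟩ := CharP.sq_add_sq F p (-1)
  push_cast at hac
  let A : Matrix.SpecialLinearGroup (Fin 2) F := ⟨!![(a : F), (c : F); (c : F), -(a : F)], by
    rw [Matrix.det_fin_two_of]; linear_combination -hac⟩
  let T : Matrix.SpecialLinearGroup (Fin 2) F :=
    ⟨!![(-1 - (a : F) - c) / 2, (-1 - (c : F) + a) / 2; (1 - (c : F) + a) / 2, (-1 + (a : F) + c) / 2], by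
      rw [Matrix.det_fin_two_of]
      field_simp
      linear_combination -2 * hac⟩
  have hs : C.D.s = C.iso.symm (PSL2.pr PSL2.wS) := by rw [← C.D_s, C.iso.symm_apply_apply]
  have hpm : ∀ X Y : Matrix.SpecialLinearGroup (Fin 2) F, X.1 = -Y.1 → PSL2.pr X = PSL2.pr Y := fun X Y h =>
    (PSL2.pr_eq_iff X Y).2 ⟨-1, by ring, by rw [h, neg_one_smul]⟩
  have e1 : PSL2.pr A * PSL2.pr PSL2.wS = PSL2.pr PSL2.wS * PSL2.pr A := by
    rw [← map_mul, ← map_mul]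
    refine hpm _ _ ?_
    rw [PSL2.val_mul, PSL2.val_mul]
    simp only [A, PSL2.wS_val, Matrix.mul_fin_two]
    ext i j; fin_cases i <;> fin_cases j <;> simp
  have e2 : PSL2.pr A * PSL2.pr A = 1 := by
    rw [← map_mul, ← map_one PSL2.pr]
    refine hpm _ _ ?_
    rw [PSL2.val_mul]
    simp only [A, Matrix.mul_fin_two]
    ext i j; fin_cases i <;> fin_cases j <;> simp <;> first | ring1 | linear_combination hac
  have e3 : PSL2.pr T * PSL2.pr PSL2.wS = PSL2.pr A * PSL2.pr T := by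
    rw [← map_mul, ← map_mul]
    congr 1
    apply Subtype.ext
    rw [PSL2.val_mul, PSL2.val_mul]
    simp only [A, T, PSL2.wS_val, Matrix.mul_fin_two]
    ext i j
    fin_cases i <;> fin_cases j <;> simp <;> field_simp <;> first | ring1 | linear_combination hac | linear_combination -hac
  have e4 : PSL2.pr T * PSL2.pr A = PSL2.pr PSL2.wS * PSL2.pr A * PSL2.pr T := by
    rw [← map_mul, ← map_mul, ← map_mul]
    congr 1
    apply Subtype.ext
    rw [PSL2.val_mul, PSL2.val_mul, PSL2.val_mul]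
    simp only [A, T, PSL2.wS_val, Matrix.mul_fin_two]
    ext i j
    fin_cases i <;> fin_cases j <;> simp <;> field_simp <;> ring1
  have e5 : PSL2.pr T ^ 3 = 1 := by
    rw [← map_pow, ← map_one PSL2.pr]
    congr 1
    apply Subtype.ext
    have hsq := SL2C.sq_eq T
    have ht : T.1.trace = -1 := by simp [T, Matrix.trace_fin_two]; field_simp; ring
    rw [ht, neg_one_smul] at hsq
    rw [pow_succ, pow_two, PSL2.val_mul, PSL2.val_mul, hsq, sub_mul, neg_mul, hsq, one_mul]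
    simp
  refine ⟨C.iso.symm (PSL2.pr A), C.iso.symm (PSL2.pr T), ?_, ?_, ?_, ?_, ?_, ?_, fun f hf => ⟨?_, ?_⟩⟩
  · rw [hs, ← map_mul C.iso.symm, ← map_mul C.iso.symm, e1]
  · rw [← map_mul, e2, map_one]
  · intro hW
    have hAne : PSL2.pr A ≠ PSL2.pr PSL2.wS := fun h => by
      obtain ⟨ε, hε, h⟩ := (PSL2.pr_eq_iff _ _).1 h
      have a0 : (a : F) = 0 := by simpa [A] using congrFun (congrFun h 0) 0
      have c1 : (c : F) = ε := by simpa [A] using congrFun (congrFun h 0) 1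
      have c2 : (c : F) = -ε := by simpa [A] using congrFun (congrFun h 1) 0
      have c0 : (c : F) = 0 := by
        rcases mul_eq_zero.1 (show (2 : F) * c = 0 by linear_combination c1 + c2) with h | h
        · exact absurd h h2
        · exact h
      rw [a0, c0] at hac
      simp at hac
    have hAne1 : PSL2.pr A ≠ 1 := fun h => by
      rw [h, mul_one] at e4
      have : PSL2.pr PSL2.wS * 1 * PSL2.pr T = PSL2.pr T := by rw [← e4]
      rw [mul_one, mul_eq_right] at this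
      have h' := congrArg C.iso.symm this
      rw [← hs, map_one] at h'
      have := C.D.hs
      rw [h', orderOf_one] at this
      omega
    have hsq : C.iso.symm (PSL2.pr A) * C.iso.symm (PSL2.pr A) = 1 := by rw [← map_mul, e2, map_one]
    rcases hW with hW | hW
    · exact hAne1 (C.iso.symm.injective ((Char.ReeOrder.eq_one_of_inv_eq (C.D.B_odd hW)
        (inv_eq_of_mul_eq_one_left hsq)).trans (map_one _).symm))
    · have h1 : (C.D.s * C.iso.symm (PSL2.pr A)) * (C.D.s * C.iso.symm (PSL2.pr A)) = 1 := by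
        rw [hs, ← map_mul, ← map_mul, show PSL2.pr PSL2.wS * PSL2.pr A * (PSL2.pr PSL2.wS * PSL2.pr A) =
          PSL2.pr PSL2.wS * (PSL2.pr A * PSL2.pr PSL2.wS) * PSL2.pr A by group, e1, ← map_one C.iso.symm]
        congr 1
        have hw2 : PSL2.pr PSL2.wS * PSL2.pr PSL2.wS = (1 : Matrix.ProjectiveSpecialLinearGroup (Fin 2) F) := by
          have := congrArg C.iso C.D.s_sq
          rwa [map_mul, C.D_s, map_one] at this
        rw [← mul_assoc, hw2, one_mul, e2]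
      have h2' := Char.ReeOrder.eq_one_of_inv_eq (C.D.B_odd hW) (inv_eq_of_mul_eq_one_left h1)
      refine hAne (C.iso.symm.injective ?_)
      rw [← hs, eq_comm, ← mul_one C.D.s, ← h2', ← mul_assoc, C.D.s_sq, one_mul]
  · rw [← map_pow, e5, map_one]
  · rw [hs, ← map_mul, ← map_inv, ← map_mul, e3, mul_inv_cancel_right]
  · rw [hs, ← map_mul, ← map_inv, ← map_mul, e4, mul_inv_cancel_right, map_mul]
  · refine C.elt_fix (fun σ i j => ?_) hf
    fin_cases i <;> fin_cases j <;> simp [A]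
  · refine C.elt_fix (fun σ i j => ?_) hf
    fin_cases i <;> fin_cases j <;> simp [T, map_ofNat]

/-- An involution of `C_L(s)` outside the torus, fixed by `Φ`. -/
noncomputable def u0 : G := C.embL C.exists_klein.choose

/-- A rotation of `⟨s, u₀⟩`, fixed by `Φ`. -/
noncomputable def th : G := C.embL C.exists_klein.choose_spec.choose

theorem u0_s : C.u0 * C.s = C.s * C.u0 := by
  rw [u0, C.s_eq, ← map_mul, C.exists_klein.choose_spec.choose_spec.1, map_mul]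

theorem u0_sq : C.u0 * C.u0 = 1 := by
  rw [u0, ← map_mul, C.exists_klein.choose_spec.choose_spec.2.1, map_one]

theorem u0_t : C.u0 * C.S.t = C.S.t * C.u0 := C.embL_t _

theorem th_t : C.th * C.S.t = C.S.t * C.th := C.embL_t _

theorem th3 : C.th ^ 3 = 1 := by
  rw [th, ← map_pow, C.exists_klein.choose_spec.choose_spec.2.2.2.1, map_one]

theorem th_s : C.th * C.s * C.th⁻¹ = C.u0 := by
  rw [th, C.s_eq, ← map_inv, ← map_mul, ← map_mul, C.exists_klein.choose_spec.choose_spec.2.2.2.2.1, u0]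

theorem th_u0 : C.th * C.u0 * C.th⁻¹ = C.s * C.u0 := by
  rw [th, u0, C.s_eq, ← map_inv, ← map_mul, ← map_mul, ← map_mul, C.exists_klein.choose_spec.choose_spec.2.2.2.2.2.1]

theorem u0_fix {f : G} (hf : f ∈ C.PhiG) : f * C.u0 = C.u0 * f :=
  (C.exists_klein.choose_spec.choose_spec.2.2.2.2.2.2 f hf).1

theorem th_fix {f : G} (hf : f ∈ C.PhiG) : f * C.th = C.th * f :=
  (C.exists_klein.choose_spec.choose_spec.2.2.2.2.2.2 f hf).2

theorem u0_inv {x : G} (hx : x ∈ C.BG) : C.u0 * x * C.u0⁻¹ = x⁻¹ := by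
  obtain ⟨y, hy, rfl⟩ := hx
  rw [u0, ← map_inv, ← map_mul, ← map_mul,
    (C.D.outside C.exists_klein.choose_spec.choose_spec.1 C.exists_klein.choose_spec.choose_spec.2.2.1).2 y hy,
    map_inv]

theorem u0_ne : C.u0 ≠ 1 := fun h => C.s_ne (by
  have := C.th_s
  rw [h, conj_eq_one_iff] at this
  exact this)

/-! ### `B` -/

theorem BG_t {x : G} (hx : x ∈ C.BG) : x * C.S.t = C.S.t * x := by
  obtain ⟨y, -, rfl⟩ := hx
  exact C.embL_t y

theorem BG_s {x : G} (hx : x ∈ C.BG) : x * C.s = C.s * x := by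
  obtain ⟨y, hy, rfl⟩ := hx
  rw [C.s_eq, ← map_mul, ← map_mul, C.D.B_s y hy]

theorem BG_comm {x y : G} (hx : x ∈ C.BG) (hy : y ∈ C.BG) : x * y = y * x := by
  obtain ⟨a, ha, rfl⟩ := hx
  obtain ⟨b, hb, rfl⟩ := hy
  rw [← map_mul, ← map_mul, C.D.B_comm a ha b hb]

theorem card_BG : Nat.card C.BG = C.D.b := by rw [Subgroup.card_map_of_injective C.embL_inj, C.D.card_B]

theorem BG_odd {x : G} (hx : x ∈ C.BG) : Odd (orderOf x) := odd_order_of_mem (C.card_BG ▸ C.D.b_odd) hx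

theorem conj_mem_BG {f x : G} (hf : f ∈ C.PhiG) (hx : x ∈ C.BG) : f * x * f⁻¹ ∈ C.BG := by
  have hfs := C.s_fix hf
  obtain ⟨a, ha, rfl⟩ := hf
  obtain ⟨y, hy, rfl⟩ := hx
  have e := C.conj_embL ⟨a, ha⟩ y
  set z := C.iso.symm (PSL2.fieldP (C.alpha ⟨a, ha⟩) (C.iso y))
  refine ⟨z, C.D.odd_cent_s (C.embL_inj ?_) ?_, e.symm⟩
  · rw [map_mul, map_mul, ← C.s_eq, ← e]
    change (a : G) * C.embL y * (a : G)⁻¹ * C.s = C.s * ((a : G) * C.embL y * (a : G)⁻¹)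
    have h1 : Commute (C.embL y) C.s := C.BG_s ⟨y, hy, rfl⟩
    have h2 : Commute (a : G) C.s := hfs
    exact ((h2.mul_left h1).mul_left h2.inv_left).eq
  · rw [← orderOf_injective C.embL C.embL_inj, ← e,
      show ((a : G) * C.embL y * (a : G)⁻¹) = MulAut.conj (a : G) (C.embL y) from rfl, MulEquiv.orderOf_eq,
      orderOf_injective C.embL C.embL_inj]
    exact C.D.B_odd hy

theorem B_inter_Phi {x : G} (hx : x ∈ C.BG) (hf : x ∈ C.PhiG) : x = 1 := by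
  obtain ⟨y, -, rfl⟩ := hx
  rw [C.L_inter_Phi hf, map_one]

/-- `C_B(f) ∋ x` for `x` mapped to its inverse is trivial. -/
theorem Phi_no_inv {f x : G} (hf : f ∈ C.PhiG) (hx : x ∈ C.BG) (h : f * x * f⁻¹ = x⁻¹) : x = 1 := by
  have h2 : f ^ 2 * x = x * f ^ 2 := by
    rw [← mul_inv_eq_iff_eq_mul, pow_two, show f * f * x * (f * f)⁻¹ = f * (f * x * f⁻¹) * f⁻¹ by group, h,
      show f * x⁻¹ * f⁻¹ = (f * x * f⁻¹)⁻¹ by group, h, inv_inv]
  rw [comm_of_sq (C.Phi_odd hf) h2, mul_inv_cancel_right] at h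
  exact eq_one_of_inv_eq (C.BG_odd hx) h.symm

/-! ### `C(t)` -/

/-- `C(t) = ⟨t⟩ × L Φ`. -/
theorem cent_t {x : G} (hx : x * C.S.t = C.S.t * x) :
    ∃ v : G, (v = 1 ∨ v = C.S.t) ∧ ∃ l : C.L, ∃ f ∈ C.PhiG, x = v * C.embL l * f := by
  have key : ∀ k : C.S.K, ∃ l : C.L, ∃ f ∈ C.PhiG, (k : G) = C.embL l * f := fun k => by
    have hk : k ∈ ((C.L ⊔ C.Phi : Subgroup C.S.K) : Set C.S.K) := by rw [C.compl.sup_eq_top]; trivial
    haveI := C.hL
    rw [Subgroup.normal_mul] at hk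
    obtain ⟨l, hl, f, hf, rfl⟩ := Set.mem_mul.1 hk
    exact ⟨⟨l, hl⟩, f, ⟨f, hf, rfl⟩, rfl⟩
  rcases C.S.split (C.S.mem_C.2 hx) with h | h
  · obtain ⟨l, f, hf, e⟩ := key ⟨x, h⟩
    exact ⟨1, Or.inl rfl, l, f, hf, by rw [one_mul]; exact e⟩
  · obtain ⟨l, f, hf, e⟩ := key ⟨_, h⟩
    refine ⟨C.S.t, Or.inr rfl, l, f, hf, ?_⟩
    rw [mul_assoc, ← show C.S.t * x = C.embL l * f from e, ← mul_assoc, C.S.sq_t, one_mul]

/-! ### `V` -/

theorem t_mem_V : C.S.t ∈ C.V := mem_sup_left (mem_zpowers _)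

theorem s_mem_V : C.s ∈ C.V := mem_sup_right (mem_zpowers _)

theorem ts_mem_V : C.S.t * C.s ∈ C.V := mul_mem C.t_mem_V C.s_mem_V

theorem mem_V {x : G} : x ∈ C.V ↔ x = 1 ∨ x = C.S.t ∨ x = C.s ∨ x = C.S.t * C.s := by
  refine ⟨fun hx => ?_, fun h => by
    rcases h with rfl | rfl | rfl | rfl
    exacts [one_mem _, C.t_mem_V, C.s_mem_V, C.ts_mem_V]⟩
  have e1 : C.s * C.S.t = C.S.t * C.s := C.s_t
  have e2 : ∀ y, C.S.t * (C.S.t * y) = y := fun y => by rw [← mul_assoc, C.S.sq_t, one_mul]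
  have e3 : ∀ y, C.s * (C.s * y) = y := fun y => by rw [← mul_assoc, C.sq_s, one_mul]
  have e4 : ∀ y, C.s * (C.S.t * y) = C.S.t * (C.s * y) := fun y => by rw [← mul_assoc, e1, mul_assoc]
  have e5 : C.s⁻¹ = C.s := inv_eq_of_mul_eq_one_left C.sq_s
  let M : Subgroup G :=
    { carrier := {x | x = 1 ∨ x = C.S.t ∨ x = C.s ∨ x = C.S.t * C.s}
      one_mem' := Or.inl rfl
      mul_mem' := by
        intro x y hx hy
        rcases hx with rfl | rfl | rfl | rfl <;> rcases hy with rfl | rfl | rfl | rfl <;>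
          simp [e1, e2, e4, C.S.sq_t, C.sq_s, mul_assoc]
      inv_mem' := by
        intro x hx
        rcases hx with rfl | rfl | rfl | rfl <;> simp [e1, e5, C.S.inv_t] }
  exact (sup_le (zpowers_le.2 (show C.S.t ∈ M from Or.inr (Or.inl rfl)))
    (zpowers_le.2 (show C.s ∈ M from Or.inr (Or.inr (Or.inl rfl)))) : C.V ≤ M) hx

theorem V_sq {v : G} (hv : v ∈ C.V) : v * v = 1 := by
  rcases C.mem_V.1 hv with rfl | rfl | rfl | rfl
  · exact one_mul 1
  · exact C.S.sq_t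
  · exact C.sq_s
  · rw [mul_assoc, ← mul_assoc C.s, C.s_t, mul_assoc C.S.t C.s, C.sq_s, mul_one, C.S.sq_t]

/-- An element commuting with `t` and `s` commutes with `V`. -/
theorem V_comm_of {x v : G} (ht : x * C.S.t = C.S.t * x) (hs : x * C.s = C.s * x) (hv : v ∈ C.V) :
    Commute x v := by
  rcases C.mem_V.1 hv with rfl | rfl | rfl | rfl
  exacts [Commute.one_right x, ht, hs, Commute.mul_right ht hs]

theorem V_BG {v x : G} (hv : v ∈ C.V) (hx : x ∈ C.BG) : Commute x v := C.V_comm_of (C.BG_t hx) (C.BG_s hx) hv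

theorem V_Phi {v f : G} (hv : v ∈ C.V) (hf : f ∈ C.PhiG) : Commute f v := C.V_comm_of (C.Phi_t hf) (C.s_fix hf) hv

theorem V_u0 {v : G} (hv : v ∈ C.V) : Commute C.u0 v := C.V_comm_of C.u0_t C.u0_s hv

/-! ### `C(V)` -/

/-- `B Φ`. -/
abbrev BP : Subgroup G := C.BG ⊔ C.PhiG

theorem mem_BP {x : G} : x ∈ C.BP ↔ ∃ β ∈ C.BG, ∃ f ∈ C.PhiG, x = β * f := by
  refine ⟨fun hx => ?_, ?_⟩
  · have hle : C.PhiG ≤ normalizer (C.BG : Set G) := fun f hf =>
      mem_normalizer_of_map _ fun y hy => C.conj_mem_BG hf hy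
    rw [← SetLike.mem_coe, Subgroup.coe_mul_of_right_le_normalizer_left C.BG C.PhiG hle] at hx
    obtain ⟨β, hβ, f, hf, rfl⟩ := Set.mem_mul.1 hx
    exact ⟨β, hβ, f, hf, rfl⟩
  · rintro ⟨β, hβ, f, hf, rfl⟩
    exact mul_mem (mem_sup_left hβ) (mem_sup_right hf)

theorem BP_odd {x : G} (hx : x ∈ C.BP) : Odd (orderOf x) := by
  obtain ⟨β, hβ, f, hf, rfl⟩ := C.mem_BP.1 hx
  have key : ∀ n : ℕ, ∃ γ ∈ C.BG, (β * f) ^ n = γ * f ^ n := by
    intro n
    induction n with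
    | zero => exact ⟨1, one_mem _, by simp⟩
    | succ n ih =>
      obtain ⟨γ, hγ, e⟩ := ih
      exact ⟨γ * (f ^ n * β * (f ^ n)⁻¹), mul_mem hγ (C.conj_mem_BG (pow_mem hf n) hβ),
        by rw [pow_succ, e, pow_succ]; group⟩
  obtain ⟨γ, hγ, e⟩ := key (orderOf f)
  rw [pow_orderOf_eq_one, mul_one] at e
  refine ((C.Phi_odd hf).mul (C.BG_odd hγ)).of_dvd_nat (orderOf_dvd_of_pow_eq_one ?_)
  rw [pow_mul, e, pow_orderOf_eq_one]

theorem BP_t {x : G} (hx : x ∈ C.BP) : x * C.S.t = C.S.t * x := by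
  obtain ⟨β, hβ, f, hf, rfl⟩ := C.mem_BP.1 hx
  exact (Commute.mul_left (C.BG_t hβ) (C.Phi_t hf)).eq

theorem BP_s {x : G} (hx : x ∈ C.BP) : x * C.s = C.s * x := by
  obtain ⟨β, hβ, f, hf, rfl⟩ := C.mem_BP.1 hx
  exact (Commute.mul_left (C.BG_s hβ) (C.s_fix hf)).eq

theorem u0_BP {x : G} (hx : x ∈ C.BP) : C.u0 * x * C.u0⁻¹ ∈ C.BP := by
  obtain ⟨β, hβ, f, hf, rfl⟩ := C.mem_BP.1 hx
  rw [show C.u0 * (β * f) * C.u0⁻¹ = C.u0 * β * C.u0⁻¹ * (C.u0 * f * C.u0⁻¹) by group, C.u0_inv hβ, ← C.u0_fix hf,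
    mul_inv_cancel_right]
  exact mul_mem (mem_sup_left (inv_mem hβ)) (mem_sup_right hf)

/-- `C(V) = (V × B) Φ ⟨u₀⟩`. -/
theorem cent_V {x : G} (hxt : x * C.S.t = C.S.t * x) (hxs : x * C.s = C.s * x) :
    ∃ v ∈ C.V, ∃ β ∈ C.BG, ∃ f ∈ C.PhiG, x = v * β * f ∨ x = C.u0 * v * β * f := by
  obtain ⟨v, hv, l, f, hf, rfl⟩ := C.cent_t hxt
  have hvV : v ∈ C.V := by rcases hv with rfl | rfl; exacts [one_mem _, C.t_mem_V]
  have hls : l * C.D.s = C.D.s * l := by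
    apply C.embL_inj
    rw [map_mul, map_mul, ← C.s_eq]
    have h1 : Commute v C.s := (C.V_comm_of C.s_t rfl hvV).symm
    have h2 : Commute f C.s := C.s_fix hf
    have h3 := (h1.inv_left.mul_left (show Commute (v * C.embL l * f) C.s from hxs)).mul_left h2.inv_left
    rwa [show v⁻¹ * (v * C.embL l * f) * f⁻¹ = C.embL l by group] at h3
  have split : ∀ k : C.L, k ∈ C.D.W → ∃ w ∈ C.V, ∃ β ∈ C.BG, C.embL k = w * β := by
    rintro k (hk | hk)
    · exact ⟨1, one_mem _, C.embL k, ⟨k, hk, rfl⟩, (one_mul _).symm⟩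
    · exact ⟨C.s, C.s_mem_V, _, ⟨_, hk, rfl⟩, by rw [map_mul, ← C.s_eq, ← mul_assoc, C.sq_s, one_mul]⟩
  by_cases hW : l ∈ C.D.W
  · obtain ⟨w, hw, β, hβ, e⟩ := split l hW
    exact ⟨v * w, mul_mem hvV hw, β, hβ, f, hf, Or.inl (by rw [e]; group)⟩
  · obtain ⟨u', th', hu1, hu2, hu3, -⟩ := C.exists_klein.choose_spec.choose_spec
    have hidx : C.exists_klein.choose * l ∈ C.D.W := by
      have hsub : (C.D.W.subgroupOf (centralizer ({C.D.s} : Set C.L))).index = 2 := by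
        have h := (C.D.W.subgroupOf (centralizer ({C.D.s} : Set C.L))).card_mul_index
        rw [Nat.card_congr (subgroupOfEquivOfLe C.D.W_le).toEquiv, C.D.card_W, C.D.card_cent] at h
        have := C.D.b_odd.pos
        exact Nat.eq_of_mul_eq_mul_left (by omega : 0 < 2 * C.D.b) (by linarith)
      let a : centralizer ({C.D.s} : Set C.L) := ⟨_, mem_centralizer_singleton_iff.2 C.exists_klein.choose_spec.choose_spec.1⟩
      let b : centralizer ({C.D.s} : Set C.L) := ⟨l, mem_centralizer_singleton_iff.2 hls⟩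
      exact mem_subgroupOf.1 ((Subgroup.mul_mem_iff_of_index_two hsub (a := a) (b := b)).2
        (iff_of_false (fun h => C.exists_klein.choose_spec.choose_spec.2.2.1 (mem_subgroupOf.1 h))
          (fun h => hW (mem_subgroupOf.1 h))))
    obtain ⟨w, hw, β, hβ, e⟩ := split _ hidx
    refine ⟨v * w, mul_mem hvV hw, β, hβ, f, hf, Or.inr ?_⟩
    have el : C.embL l = C.u0 * (w * β) := by
      rw [← e, map_mul, show C.embL C.exists_klein.choose = C.u0 from rfl, ← mul_assoc, C.u0_sq, one_mul]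
    rw [el, show v * (C.u0 * (w * β)) * f = (v * C.u0) * w * β * f by group, ← (C.V_u0 hvV).eq]
    group

theorem odd_cent_V {x : G} (hxt : x * C.S.t = C.S.t * x) (hxs : x * C.s = C.s * x) (ho : Odd (orderOf x)) :
    x ∈ C.BP := by
  obtain ⟨k, hk⟩ := sq_pow ho
  rw [hk]
  refine pow_mem ?_ k
  obtain ⟨v, hv, β, hβ, f, hf, h⟩ := C.cent_V hxt hxs
  have hy : β * f ∈ C.BP := mul_mem (mem_sup_left hβ) (mem_sup_right hf)
  have hvy : Commute v (β * f) := ((C.V_BG hv hβ).mul_left (C.V_Phi hv hf)).symm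
  rcases h with e | e
  · rw [e, mul_assoc v β f, hvy.mul_pow, pow_two v, C.V_sq hv, one_mul]
    exact pow_mem hy 2
  · have e' : x ^ 2 = C.u0 * (β * f) * C.u0⁻¹ * (v * v) * (β * f) := by
      rw [inv_eq_of_mul_eq_one_left C.u0_sq, e, pow_two,
        show C.u0 * v * β * f * (C.u0 * v * β * f) = C.u0 * (v * (β * f)) * (C.u0 * v) * (β * f) by group, hvy.eq,
        (C.V_u0 hv).eq, show C.u0 * (β * f * v) * (v * C.u0) * (β * f) =
          C.u0 * (β * f) * (v * v) * C.u0 * (β * f) by group, C.V_sq hv]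
      group
    rw [e', C.V_sq hv, mul_one]
    exact mul_mem (C.u0_BP hy) hy

/-- The elements of `B Φ` inverted by `u₀` lie in `B`. -/
theorem mem_BG_of_inv {x : G} (hx : x ∈ C.BP) (h : C.u0 * x * C.u0⁻¹ = x⁻¹) : x ∈ C.BG := by
  obtain ⟨β, hβ, f, hf, rfl⟩ := C.mem_BP.1 hx
  rw [show C.u0 * (β * f) * C.u0⁻¹ = C.u0 * β * C.u0⁻¹ * (C.u0 * f * C.u0⁻¹) by group, C.u0_inv hβ, ← C.u0_fix hf,
    mul_inv_cancel_right, mul_inv_rev] at h
  have h3 : f * f ∈ C.BG := by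
    have e' : β⁻¹ * f * β = f⁻¹ := by rw [h]; group
    have e'' : β⁻¹ * (f * β * f⁻¹) = (f * f)⁻¹ := by
      calc β⁻¹ * (f * β * f⁻¹) = β⁻¹ * f * β * f⁻¹ := by group
        _ = _ := by rw [e']; group
    have := mul_mem (inv_mem hβ) (C.conj_mem_BG hf hβ)
    rw [e''] at this
    simpa using inv_mem this
  have hf1 : f ^ 2 = 1 := by rw [pow_two]; exact C.B_inter_Phi h3 (mul_mem hf hf)
  obtain ⟨k, hk⟩ := sq_pow (C.Phi_odd hf)
  rw [show f = 1 by rw [hk, hf1, one_pow], mul_one]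
  exact hβ

/-! ### The Sylow subgroup `S` and its normaliser -/

/-- `⟨t, s, u₀⟩`. -/
noncomputable def Syl : Subgroup G where
  carrier := {x | ∃ v ∈ C.V, x = v ∨ x = v * C.u0}
  one_mem' := ⟨1, one_mem _, Or.inl rfl⟩
  mul_mem' := by
    rintro x y ⟨v, hv, hx⟩ ⟨w, hw, hy⟩
    have hc := (C.V_u0 hw).eq
    rcases hx with hx | hx <;> rcases hy with hy | hy <;> rw [hx, hy]
    · exact ⟨v * w, mul_mem hv hw, Or.inl rfl⟩
    · exact ⟨v * w, mul_mem hv hw, Or.inr (by group)⟩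
    · exact ⟨v * w, mul_mem hv hw, Or.inr (by rw [mul_assoc v, hc]; group)⟩
    · exact ⟨v * w, mul_mem hv hw, Or.inl (by
        rw [show v * C.u0 * (w * C.u0) = v * (C.u0 * w) * C.u0 by group, hc,
          show v * (w * C.u0) * C.u0 = v * w * (C.u0 * C.u0) by group, C.u0_sq, mul_one])⟩
  inv_mem' := by
    rintro x ⟨v, hv, hx | hx⟩ <;> rw [hx]
    · exact ⟨v⁻¹, inv_mem hv, Or.inl rfl⟩
    · refine ⟨v⁻¹, inv_mem hv, Or.inr ?_⟩
      rw [mul_inv_rev, inv_eq_of_mul_eq_one_left C.u0_sq, (C.V_u0 (inv_mem hv)).eq]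

theorem mem_Syl {x : G} : x ∈ C.Syl ↔ ∃ v ∈ C.V, x = v ∨ x = v * C.u0 := Iff.rfl

theorem V_le_Syl : C.V ≤ C.Syl := fun v hv => ⟨v, hv, Or.inl rfl⟩

theorem u0_mem_Syl : C.u0 ∈ C.Syl := ⟨1, one_mem _, Or.inr (one_mul _).symm⟩

theorem Syl_sq {x : G} (hx : x ∈ C.Syl) : x * x = 1 := by
  obtain ⟨v, hv, rfl | rfl⟩ := hx
  · exact C.V_sq hv
  · rw [show v * C.u0 * (v * C.u0) = v * (C.u0 * v) * C.u0 by group, (C.V_u0 hv).eq,
      show v * (v * C.u0) * C.u0 = v * v * (C.u0 * C.u0) by group, C.V_sq hv, C.u0_sq, mul_one]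

theorem Syl_Phi {x f : G} (hx : x ∈ C.Syl) (hf : f ∈ C.PhiG) : Commute f x := by
  obtain ⟨v, hv, rfl | rfl⟩ := hx
  · exact C.V_Phi hv hf
  · exact (C.V_Phi hv hf).mul_right (C.u0_fix hf)

theorem odd_cent_Syl {x : G} (ht : x * C.S.t = C.S.t * x) (hs : x * C.s = C.s * x) (hu : x * C.u0 = C.u0 * x)
    (ho : Odd (orderOf x)) : x ∈ C.PhiG := by
  obtain ⟨β, hβ, f, hf, rfl⟩ := C.mem_BP.1 (C.odd_cent_V ht hs ho)
  have hu' : C.u0 * (β * f) * C.u0⁻¹ = β * f := by rw [← hu, mul_inv_cancel_right]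
  rw [show C.u0 * (β * f) * C.u0⁻¹ = C.u0 * β * C.u0⁻¹ * (C.u0 * f * C.u0⁻¹) by group, C.u0_inv hβ, ← C.u0_fix hf,
    mul_inv_cancel_right, mul_left_inj] at hu'
  rw [eq_one_of_inv_eq (C.BG_odd hβ) hu', one_mul]
  exact hf

theorem cent_Syl {x : G} (ht : x * C.S.t = C.S.t * x) (hs : x * C.s = C.s * x) (hu : x * C.u0 = C.u0 * x) :
    ∃ a ∈ C.Syl, ∃ f ∈ C.PhiG, x = a * f := by
  obtain ⟨v, hv, β, hβ, f, hf, h⟩ := C.cent_V ht hs
  have hb : Commute C.u0 (v⁻¹ * (v * β * f) * f⁻¹) ∨ Commute C.u0 ((C.u0 * v)⁻¹ * (C.u0 * v * β * f) * f⁻¹) := by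
    have c1 : Commute C.u0 x := hu.symm
    rcases h with e | e
    · exact Or.inl (((C.V_u0 hv).inv_right.mul_right (e ▸ c1)).mul_right (show Commute C.u0 f from (C.u0_fix hf).symm).inv_right)
    · exact Or.inr (((((Commute.refl C.u0).mul_right (C.V_u0 hv)).inv_right).mul_right (e ▸ c1)).mul_right
        (show Commute C.u0 f from (C.u0_fix hf).symm).inv_right)
  have hβ1 : β = 1 := by
    have hc : Commute C.u0 β := by
      rcases hb with hb | hb <;> simpa [mul_assoc] using hb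
    have := C.u0_inv hβ
    rw [hc.eq, mul_inv_cancel_right] at this
    exact eq_one_of_inv_eq (C.BG_odd hβ) this.symm
  subst hβ1
  rcases h with e | e
  · exact ⟨v, C.V_le_Syl hv, f, hf, by rw [e, mul_one]⟩
  · exact ⟨C.u0 * v, mul_mem C.u0_mem_Syl (C.V_le_Syl hv), f, hf, by rw [e, mul_one]⟩

/-- `S` is a maximal two-subgroup. -/
theorem Syl_max {T : Subgroup G} (hT : IsPGroup 2 T) (hle : C.Syl ≤ T) : T = C.Syl := by
  refine le_antisymm (fun x hx => ?_) hle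
  have hc := fun y (hy : y ∈ C.Syl) => Solv.AbelianTwo.commute_of_mem C.hab hT hx (hle hy)
  obtain ⟨a, ha, f, hf, rfl⟩ := C.cent_Syl (hc _ (C.V_le_Syl C.t_mem_V)).eq (hc _ (C.V_le_Syl C.s_mem_V)).eq
    (hc _ C.u0_mem_Syl).eq
  obtain ⟨k, hk⟩ := hT ⟨_, hx⟩
  have hk' : (a * f) ^ 2 ^ (k + 1) = 1 := by
    rw [pow_succ, pow_mul, show (a * f) ^ 2 ^ k = 1 from congrArg Subtype.val hk, one_pow]
  rw [(C.Syl_Phi ha hf).symm.mul_pow, pow_succ', pow_mul a, pow_two a, C.Syl_sq ha, one_pow, one_mul,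
    ← pow_succ'] at hk'
  obtain ⟨j, -, hj⟩ := (Nat.dvd_prime_pow Nat.prime_two).1 (orderOf_dvd_of_pow_eq_one hk')
  have ho := C.Phi_odd hf
  rw [hj] at ho
  rcases j with _ | j
  · rw [pow_zero, orderOf_eq_one_iff] at hj
    rw [hj, mul_one]; exact ha
  · exact absurd ho (Nat.not_odd_iff_even.2 ⟨2 ^ j, by rw [pow_succ]; ring⟩)

/-- `S` as a Sylow subgroup. -/
noncomputable def sylow : Sylow 2 G where
  toSubgroup := C.Syl
  isPGroup' := fun x => ⟨1, Subtype.ext (by rw [Subgroup.coe_pow, pow_one, pow_two]; exact C.Syl_sq x.2)⟩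
  is_maximal' := fun h hle => C.Syl_max h hle

/-- `N(S)`. -/
abbrev NS : Subgroup G := normalizer (C.Syl : Set G)

theorem NS_Phi {n f : G} (hn : n ∈ C.NS) (hf : f ∈ C.PhiG) : n * f * n⁻¹ ∈ C.PhiG := by
  have hc : ∀ a ∈ C.Syl, Commute (n * f * n⁻¹) a := fun a ha => by
    obtain ⟨hi⟩ : n⁻¹ * a * n ∈ C.Syl ∧ True := ⟨by
      have := (mem_normalizer_iff.1 (inv_mem hn) a).1 ha
      rwa [inv_inv] at this, trivial⟩
    have h1 := (C.Syl_Phi hi hf).eq
    calc n * f * n⁻¹ * a = n * (f * (n⁻¹ * a * n)) * n⁻¹ := by group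
      _ = n * ((n⁻¹ * a * n) * f) * n⁻¹ := by rw [h1]
      _ = a * (n * f * n⁻¹) := by group
  refine C.odd_cent_Syl (hc _ (C.V_le_Syl C.t_mem_V)).eq (hc _ (C.V_le_Syl C.s_mem_V)).eq (hc _ C.u0_mem_Syl).eq ?_
  rw [show n * f * n⁻¹ = MulAut.conj n f from rfl, MulEquiv.orderOf_eq]
  exact C.Phi_odd hf

/-- An element of `C(t)` normalising `Φ` centralises it. -/
theorem cent_t_Phi {x f : G} (hx : x * C.S.t = C.S.t * x) (hf : f ∈ C.PhiG) (h : x * f * x⁻¹ ∈ C.PhiG) :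
    x * f = f * x := by
  obtain ⟨v, hv, l, f', hf', rfl⟩ := C.cent_t hx
  have hvK : Commute v (C.embL l * f * (C.embL l)⁻¹) := by
    have hm : C.embL l * f * (C.embL l)⁻¹ ∈ C.S.K :=
      mul_mem (mul_mem (C.embL_mem_K l) (C.Phi_K hf)) (inv_mem (C.embL_mem_K l))
    rcases hv with rfl | rfl
    · exact Commute.one_left _
    · exact (C.S.comm_t hm).symm
  have e1 : v * C.embL l * f' * f * (v * C.embL l * f')⁻¹ = C.embL l * f * (C.embL l)⁻¹ := by
    rw [show v * C.embL l * f' * f * (v * C.embL l * f')⁻¹ = v * (C.embL l * (f' * f * f'⁻¹) * (C.embL l)⁻¹) * v⁻¹ by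
      group, C.Phi_comm hf' hf, mul_inv_cancel_right, hvK.eq, mul_inv_cancel_right]
  rw [e1] at h
  obtain ⟨a, ha, rfl⟩ := hf
  have e2 := C.conj_embL ⟨a, ha⟩ l⁻¹
  set z := C.iso.symm (PSL2.fieldP (C.alpha ⟨a, ha⟩) (C.iso l⁻¹))
  have hz : C.embL (l * z) = C.embL l * (a : G) * (C.embL l)⁻¹ * (a : G)⁻¹ := by
    rw [map_mul, ← e2, map_inv]; group
  have h' : C.embL (l * z) ∈ C.PhiG := by
    rw [hz]
    exact mul_mem h (inv_mem ⟨a, ha, rfl⟩)
  have h1 := C.L_inter_Phi h'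
  rw [← mul_inv_eq_iff_eq_mul]
  refine e1.trans ?_
  have h3 : C.embL l * (a : G) * (C.embL l)⁻¹ * (a : G)⁻¹ = 1 := by
    rw [← hz, h1, map_one]
  exact mul_inv_eq_one.1 h3

theorem th_NS : C.th ∈ C.NS := mem_normalizer_of_map _ fun a ha => by
  have hu : C.th * C.u0 * C.th⁻¹ ∈ C.Syl := by rw [C.th_u0]; exact ⟨C.s, C.s_mem_V, Or.inr rfl⟩
  have hV : ∀ v ∈ C.V, C.th * v * C.th⁻¹ ∈ C.Syl := by
    have ht : C.th * C.S.t * C.th⁻¹ ∈ C.Syl := by rw [C.th_t, mul_inv_cancel_right]; exact C.V_le_Syl C.t_mem_V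
    have hs : C.th * C.s * C.th⁻¹ ∈ C.Syl := by rw [C.th_s]; exact C.u0_mem_Syl
    intro v hv
    rcases C.mem_V.1 hv with rfl | rfl | rfl | rfl
    · simp [one_mem]
    · exact ht
    · exact hs
    · rw [show C.th * (C.S.t * C.s) * C.th⁻¹ = C.th * C.S.t * C.th⁻¹ * (C.th * C.s * C.th⁻¹) by group]
      exact mul_mem ht hs
  obtain ⟨v, hv, rfl | rfl⟩ := ha
  · exact hV _ hv
  · rw [show C.th * (v * C.u0) * C.th⁻¹ = C.th * v * C.th⁻¹ * (C.th * C.u0 * C.th⁻¹) by group]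
    exact mul_mem (hV v hv) hu

theorem exists_NS {x y : G} (hx : x ∈ C.Syl) (hy : y ∈ C.Syl) (hx1 : x ≠ 1) (hy1 : y ≠ 1) :
    ∃ n ∈ C.NS, n * x * n⁻¹ = y := by
  haveI := Fact.mk Nat.prime_two
  have ord : ∀ z ∈ C.Syl, z ≠ 1 → orderOf z = 2 := fun z hz hz1 =>
    orderOf_eq_prime (by rw [pow_two]; exact C.Syl_sq hz) hz1
  obtain ⟨g, hg⟩ := isConj_iff.1 ((C.hconj x (ord x hx hx1)).symm.trans (C.hconj y (ord y hy hy1)))
  haveI : IsMulCommutative (C.sylow : Subgroup G) := C.hab C.sylow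
  obtain ⟨n, hn, he⟩ := C.sylow.conj_eq_normalizer_conj_of_mem x g⁻¹ hx (by rw [inv_inv, hg]; exact hy)
  rw [inv_inv, hg] at he
  exact ⟨n⁻¹, inv_mem hn, by rw [inv_inv, ← he]⟩

/-- `N(S)` centralises `Φ`. -/
theorem NS_fix {n f : G} (hn : n ∈ C.NS) (hf : f ∈ C.PhiG) : n * f = f * n := by
  classical
  let H : Subgroup G := C.NS ⊓ centralizer (C.PhiG : Set G)
  have stab : ∀ m ∈ C.NS, m * C.S.t = C.S.t * m → m ∈ H := fun m hm hmt =>
    ⟨hm, mem_centralizer_iff.2 fun f hf => (C.cent_t_Phi hmt hf (C.NS_Phi hm hf)).symm⟩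
  have hnorm : ∀ m ∈ C.NS, ∀ h ∈ H, m * h * m⁻¹ ∈ H := fun m hm h hh =>
    Subgroup.mem_inf.2 ⟨mul_mem (mul_mem hm (Subgroup.mem_inf.1 hh).1) (inv_mem hm), mem_centralizer_iff.2 fun f hf => by
      have h1 := C.NS_Phi (inv_mem hm) hf
      rw [inv_inv] at h1
      have h2 := mem_centralizer_iff.1 (Subgroup.mem_inf.1 hh).2 _ h1
      calc f * (m * h * m⁻¹) = m * ((m⁻¹ * f * m) * h) * m⁻¹ := by group
        _ = m * (h * (m⁻¹ * f * m)) * m⁻¹ := by rw [h2]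
        _ = m * h * m⁻¹ * f := by group⟩
  have hth : C.th ∈ H := stab _ C.th_NS C.th_t
  let O : Set G := {z | ∃ h ∈ H, h * C.S.t * h⁻¹ = z}
  have Oconj : ∀ h ∈ H, ∀ z ∈ O, h * z * h⁻¹ ∈ O := by
    rintro h hh _ ⟨k, hk, rfl⟩
    exact ⟨h * k, mul_mem hh hk, by group⟩
  suffices hall : n * C.S.t * n⁻¹ ∈ O by
    obtain ⟨h, hh, e⟩ := hall
    have h1 : h⁻¹ * n ∈ H := stab _ (mul_mem (inv_mem hh.1) hn) (by
      calc h⁻¹ * n * C.S.t = h⁻¹ * (n * C.S.t * n⁻¹) * n := by group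
        _ = C.S.t * (h⁻¹ * n) := by rw [← e]; group)
    have h2 := mul_mem hh h1
    rw [mul_inv_cancel_left] at h2
    exact (mem_centralizer_iff.1 h2.2 f hf).symm
  -- the triples
  let T1 : Finset G := {C.s, C.u0, C.s * C.u0}
  let T2 : Finset G := {C.S.t * C.s, C.S.t * C.u0, C.S.t * (C.s * C.u0)}
  have c1 : C.th * (C.s * C.u0) * C.th⁻¹ = C.s := by
    rw [show C.th * (C.s * C.u0) * C.th⁻¹ = C.th * C.s * C.th⁻¹ * (C.th * C.u0 * C.th⁻¹) by group, C.th_s, C.th_u0,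
      ← mul_assoc, C.u0_s, mul_assoc, C.u0_sq, mul_one]
  have ct : ∀ z, C.th * (C.S.t * z) * C.th⁻¹ = C.S.t * (C.th * z * C.th⁻¹) := fun z => by
    rw [← mul_assoc, C.th_t]; group
  have orb1 : ∀ z ∈ T1, z ∈ O → ∀ w ∈ T1, w ∈ O := by
    intro z hz hzO w hw
    have s1 := fun y (hy : y ∈ O) => Oconj _ hth y hy
    simp only [T1, Finset.mem_insert, Finset.mem_singleton] at hz hw
    have all : C.s ∈ O ∧ C.u0 ∈ O ∧ C.s * C.u0 ∈ O := by
      rcases hz with rfl | rfl | rfl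
      · have a := s1 _ hzO; rw [C.th_s] at a
        have b := s1 _ a; rw [C.th_u0] at b
        exact ⟨hzO, a, b⟩
      · have b := s1 _ hzO; rw [C.th_u0] at b
        have c := s1 _ b; rw [c1] at c
        exact ⟨c, hzO, b⟩
      · have c := s1 _ hzO; rw [c1] at c
        have a := s1 _ c; rw [C.th_s] at a
        exact ⟨c, a, hzO⟩
    rcases hw with rfl | rfl | rfl
    exacts [all.1, all.2.1, all.2.2]
  have orb2 : ∀ z ∈ T2, z ∈ O → ∀ w ∈ T2, w ∈ O := by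
    intro z hz hzO w hw
    have s1 := fun y (hy : y ∈ O) => Oconj _ hth y hy
    simp only [T2, Finset.mem_insert, Finset.mem_singleton] at hz hw
    have all : C.S.t * C.s ∈ O ∧ C.S.t * C.u0 ∈ O ∧ C.S.t * (C.s * C.u0) ∈ O := by
      rcases hz with rfl | rfl | rfl
      · have a := s1 _ hzO; rw [ct, C.th_s] at a
        have b := s1 _ a; rw [ct, C.th_u0] at b
        exact ⟨hzO, a, b⟩
      · have b := s1 _ hzO; rw [ct, C.th_u0] at b
        have c := s1 _ b; rw [ct, c1] at c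
        exact ⟨c, hzO, b⟩
      · have c := s1 _ hzO; rw [ct, c1] at c
        have a := s1 _ c; rw [ct, C.th_s] at a
        exact ⟨c, a, hzO⟩
    rcases hw with rfl | rfl | rfl
    exacts [all.1, all.2.1, all.2.2]
  have seven : ∀ z ∈ C.Syl, z ≠ 1 → z = C.S.t ∨ z ∈ T1 ∨ z ∈ T2 := by
    rintro z ⟨v, hv, rfl | rfl⟩ hz
    · rcases C.mem_V.1 hv with rfl | rfl | rfl | rfl
      · exact absurd rfl hz
      · exact Or.inl rfl
      · exact Or.inr (Or.inl (by simp [T1]))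
      · exact Or.inr (Or.inr (by simp [T2]))
    · rcases C.mem_V.1 hv with rfl | rfl | rfl | rfl
      · exact Or.inr (Or.inl (by simp [T1]))
      · exact Or.inr (Or.inr (by simp [T2]))
      · exact Or.inr (Or.inl (by simp [T1]))
      · exact Or.inr (Or.inr (by simp [T2, mul_assoc]))
  have tO : C.S.t ∈ O := ⟨1, one_mem _, by simp⟩
  have Omem : ∀ z ∈ O, z ∈ C.Syl ∧ z ≠ 1 := by
    rintro _ ⟨h, hh, rfl⟩
    exact ⟨(mem_normalizer_iff.1 hh.1 _).1 (C.V_le_Syl C.t_mem_V), fun e => C.t_ne (conj_eq_one_iff.1 e)⟩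
  have hnt : n * C.S.t * n⁻¹ ∈ C.Syl := (mem_normalizer_iff.1 hn _).1 (C.V_le_Syl C.t_mem_V)
  have hnt1 : n * C.S.t * n⁻¹ ≠ 1 := fun e => C.t_ne (conj_eq_one_iff.1 e)
  -- a triple inside the orbit
  obtain ⟨T, hT, hTcard, T', hTT', hT'card⟩ : ∃ T : Finset G, (∀ z ∈ T, z ∈ O) ∧ T.card = 4 ∧
      ∃ T' : Finset G, (∀ z ∈ C.Syl, z ≠ 1 → z ∈ O ∨ z ∈ T') ∧ T'.card ≤ 3 := by
    have card3 : ∀ a b c : G, ({a, b, c} : Finset G).card ≤ 3 := fun a b c =>
      (Finset.card_insert_le _ _).trans (Nat.succ_le_succ Finset.card_le_two)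
    have hsu : C.s ≠ C.u0 := fun e => by
      have h := C.th_s
      rw [← e] at h
      have h' := C.th_u0
      rw [← e, h, C.sq_s] at h'
      exact C.s_ne h'
    have hd : ∀ a b c d : G, a ≠ b → a ≠ c → a ≠ d → b ≠ c → b ≠ d → c ≠ d →
        ({a, b, c, d} : Finset G).card = 4 := fun a b c d h1 h2 h3 h4 h5 h6 => by
      simp [h1, h2, h3, h4, h5, h6]
    have nK : ∀ x : C.L, C.S.t ≠ C.embL x := fun x e => C.S.t_not_mem (e ▸ C.embL_mem_K x)
    have d1 : C.s * C.u0 ≠ C.s := fun e => C.u0_ne (mul_eq_left.1 e)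
    have d2 : C.s * C.u0 ≠ C.u0 := fun e => C.s_ne (mul_eq_right.1 e)
    have d3 : C.S.t * C.s ≠ C.S.t := fun e => C.s_ne (mul_eq_left.1 e)
    have d4 : C.S.t * C.u0 ≠ C.S.t := fun e => C.u0_ne (mul_eq_left.1 e)
    have d5 : C.S.t * (C.s * C.u0) ≠ C.S.t := fun e => by
      have := mul_eq_left.1 e
      exact hsu (by rw [← mul_one C.s, ← this, ← mul_assoc, C.sq_s, one_mul])
    by_cases h1 : ∃ z ∈ T1, z ∈ O
    · obtain ⟨z, hz, hzO⟩ := h1
      refine ⟨{C.S.t, C.s, C.u0, C.s * C.u0}, ?_, hd _ _ _ _ (nK C.D.s) ?_ ?_ hsu d1.symm d2.symm, T2, ?_, card3 _ _ _⟩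
      · intro w hw
        simp only [Finset.mem_insert, Finset.mem_singleton] at hw
        rcases hw with rfl | hw
        · exact tO
        · exact orb1 z hz hzO w (by simpa [T1] using hw)
      · exact nK C.exists_klein.choose
      · rw [C.s_eq, show C.u0 = C.embL C.exists_klein.choose from rfl, ← map_mul]; exact nK _
      · intro w hw hw1
        rcases seven w hw hw1 with rfl | h | h
        exacts [Or.inl tO, Or.inl (orb1 z hz hzO w h), Or.inr h]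
    · by_cases h2 : ∃ z ∈ T2, z ∈ O
      · obtain ⟨z, hz, hzO⟩ := h2
        refine ⟨{C.S.t, C.S.t * C.s, C.S.t * C.u0, C.S.t * (C.s * C.u0)}, ?_,
          hd _ _ _ _ d3.symm d4.symm d5.symm (fun e => hsu (mul_left_cancel e)) (fun e => d1 (mul_left_cancel e).symm)
            (fun e => d2 (mul_left_cancel e).symm), T1, ?_, card3 _ _ _⟩
        · intro w hw
          simp only [Finset.mem_insert, Finset.mem_singleton] at hw
          rcases hw with rfl | hw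
          · exact tO
          · exact orb2 z hz hzO w (by simpa [T2] using hw)
        · intro w hw hw1
          rcases seven w hw hw1 with rfl | h | h
          exacts [Or.inl tO, Or.inr h, Or.inl (orb2 z hz hzO w h)]
      · exfalso
        -- `H` fixes `t`, hence every involution of `S`, but `θ` moves `s`
        push Not at h1 h2
        have hOt : ∀ z ∈ O, z = C.S.t := fun z hz => by
          obtain ⟨a, b⟩ := Omem z hz
          rcases seven z a b with h | h | h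
          exacts [h, absurd hz (h1 z h), absurd hz (h2 z h)]
        obtain ⟨m, hm, hms⟩ := C.exists_NS (C.V_le_Syl C.t_mem_V) (C.V_le_Syl C.s_mem_V) C.t_ne C.s_ne
        have hh := hnorm _ (inv_mem hm) _ hth
        rw [inv_inv] at hh
        have hz := hOt _ ⟨_, hh, rfl⟩
        have : C.th * C.s * C.th⁻¹ = C.s := by
          rw [← hms]
          calc C.th * (m * C.S.t * m⁻¹) * C.th⁻¹ = m * ((m⁻¹ * C.th * m) * C.S.t * (m⁻¹ * C.th * m)⁻¹) * m⁻¹ := by group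
            _ = _ := by rw [hz]
        rw [C.th_s] at this
        have h' := C.th_u0
        rw [this, C.th_s, this, C.sq_s] at h'
        exact C.s_ne h'
  rcases hTT' _ hnt hnt1 with h | h
  · exact h
  by_contra hnO
  -- the conjugate of four points of the orbit would lie in `T'`
  have hsub : T.image (fun z => n * z * n⁻¹) ⊆ T' := by
    intro w hw
    obtain ⟨z, hz, rfl⟩ := Finset.mem_image.1 hw
    obtain ⟨hzS, hz1⟩ := Omem z (hT z hz)
    refine (hTT' _ ((mem_normalizer_iff.1 hn z).1 hzS) fun e => hz1 (conj_eq_one_iff.1 e)).resolve_left fun hzO => hnO ?_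
    obtain ⟨k, hk, rfl⟩ := hT z hz
    have e : n * C.S.t * n⁻¹ = (n * k * n⁻¹)⁻¹ * (n * (k * C.S.t * k⁻¹) * n⁻¹) * ((n * k * n⁻¹)⁻¹)⁻¹ := by group
    rw [e]
    exact Oconj _ (inv_mem (hnorm n hn k hk)) _ hzO
  have := Finset.card_le_card hsub
  rw [Finset.card_image_of_injective _ fun a b h => mul_left_cancel (mul_right_cancel h), hTcard] at this
  omega

/-- Elements of `Φ` conjugate in `G` are equal. -/
theorem Phi_conj {f f' g : G} (hf : f ∈ C.PhiG) (hf' : f' ∈ C.PhiG) (h : g * f * g⁻¹ = f') : f = f' := by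
  haveI := Fact.mk Nat.prime_two
  have hS : ∀ {a}, a ∈ C.PhiG → C.Syl ≤ centralizer ({a} : Set G) := fun ha x hx =>
    mem_centralizer_singleton_iff.2 (C.Syl_Phi hx ha).symm.eq
  set X := centralizer ({f'} : Set G) with hX
  let P : Sylow 2 X := (C.sylow.subtype (hS hf'))
  have hle : C.Syl.map (MulAut.conj g).toMonoidHom ≤ X := by
    rintro _ ⟨x, hx, rfl⟩
    rw [hX, mem_centralizer_singleton_iff, ← h]
    show g * x * g⁻¹ * (g * f * g⁻¹) = g * f * g⁻¹ * (g * x * g⁻¹)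
    rw [show g * x * g⁻¹ * (g * f * g⁻¹) = g * (x * f) * g⁻¹ by group, (C.Syl_Phi hx hf).symm.eq]; group
  obtain ⟨T, hT⟩ := (((C.sylow.2.map (MulAut.conj g).toMonoidHom)).of_equiv (subgroupOfEquivOfLe hle).symm).exists_le_sylow
  obtain ⟨c, hc⟩ := MulAction.exists_smul_eq X T P
  have hn : (c : G) * g ∈ C.NS := mem_normalizer_of_map _ fun x hx => by
    have h1 : (⟨g * x * g⁻¹, hle ⟨x, hx, rfl⟩⟩ : X) ∈ (T : Subgroup X) := hT (mem_subgroupOf.2 ⟨x, hx, rfl⟩)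
    have h2 : c * ⟨g * x * g⁻¹, hle ⟨x, hx, rfl⟩⟩ * c⁻¹ ∈ (P : Subgroup X) := by
      rw [← hc, Sylow.coe_subgroup_smul]; exact ⟨_, h1, rfl⟩
    rw [show (c : G) * g * x * ((c : G) * g)⁻¹ = c * (g * x * g⁻¹) * (c : G)⁻¹ by group]
    exact mem_subgroupOf.1 h2
  have e := C.NS_fix hn hf
  rw [mul_assoc (c : G), show g * f = f' * g by rw [← h]; group, ← mul_assoc,
    mem_centralizer_singleton_iff.1 c.2, mul_assoc] at e
  exact (mul_right_cancel e).symm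

/-! ### The rotation -/

/-- A rotation of `V` and an involution of `S` outside `V` commuting with it, both centralising `Φ`. -/
structure Rot where
  rho : G
  u : G
  rho3 : rho ^ 3 = 1
  rho_t : rho * C.S.t * rho⁻¹ = C.s
  rho_s : rho * C.s * rho⁻¹ = C.S.t * C.s
  uS : u ∈ C.Syl
  uV : u ∉ C.V
  ur : u * rho = rho * u
  rho_fix : ∀ f ∈ C.PhiG, f * rho = rho * f

theorem exists_rot : Nonempty C.Rot := by
  obtain ⟨n, hn, hns⟩ := C.exists_NS (C.V_le_Syl C.s_mem_V) (C.V_le_Syl C.t_mem_V) C.s_ne C.t_ne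
  have e1 : C.th * (C.s * C.u0) * C.th⁻¹ = C.s := by
    rw [show C.th * (C.s * C.u0) * C.th⁻¹ = C.th * C.s * C.th⁻¹ * (C.th * C.u0 * C.th⁻¹) by group, C.th_s, C.th_u0,
      ← mul_assoc, C.u0_s, mul_assoc, C.u0_sq, mul_one]
  have ct : ∀ z, C.th * (C.S.t * z) * C.th⁻¹ = C.S.t * (C.th * z * C.th⁻¹) := fun z => by
    rw [← mul_assoc, C.th_t]; group
  obtain ⟨i, hi⟩ : ∃ i : ℕ, C.th ^ i * (n * C.u0 * n⁻¹) * (C.th ^ i)⁻¹ = C.s ∨
      C.th ^ i * (n * C.u0 * n⁻¹) * (C.th ^ i)⁻¹ = C.S.t * C.s := by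
    have p2 : ∀ z, C.th ^ 2 * z * (C.th ^ 2)⁻¹ = C.th * (C.th * z * C.th⁻¹) * C.th⁻¹ := fun z => by
      rw [pow_two]; group
    obtain ⟨v, hv, h | h⟩ := (mem_normalizer_iff.1 hn C.u0).1 C.u0_mem_Syl <;>
      rcases C.mem_V.1 hv with rfl | rfl | rfl | rfl <;> rw [h]
    · exact absurd (conj_eq_one_iff.1 h) C.u0_ne
    · exfalso
      have e : C.u0 = C.s := mul_left_cancel (mul_right_cancel (h.trans hns.symm))
      have h' := C.th_u0
      rw [e, C.th_s, e, C.sq_s] at h'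
      exact C.s_ne h'
    · exact ⟨0, Or.inl (by simp)⟩
    · exact ⟨0, Or.inr (by simp)⟩
    · exact ⟨2, Or.inl (by rw [one_mul, p2, C.th_u0, e1])⟩
    · exact ⟨2, Or.inr (by rw [p2, ct, C.th_u0, ct, e1])⟩
    · exact ⟨1, Or.inl (by rw [pow_one, e1])⟩
    · exact ⟨1, Or.inr (by rw [pow_one, mul_assoc C.S.t, ct, e1])⟩
  set g := C.th ^ i * n with hgdef
  have hg : g ∈ C.NS := mul_mem (pow_mem C.th_NS i) hn
  have gfix : ∀ f ∈ C.PhiG, f * g = g * f := fun f hf => (C.NS_fix hg hf).symm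
  have hgs : g * C.s * g⁻¹ = C.S.t := by
    rw [hgdef, show C.th ^ i * n * C.s * (C.th ^ i * n)⁻¹ = C.th ^ i * (n * C.s * n⁻¹) * (C.th ^ i)⁻¹ by group, hns,
      ((show Commute C.th C.S.t from C.th_t).pow_left i).eq, mul_inv_cancel_right]
  have hgu : g * C.u0 * g⁻¹ = C.th ^ i * (n * C.u0 * n⁻¹) * (C.th ^ i)⁻¹ := by rw [hgdef]; group
  rw [← hgu] at hi
  set r0 := g * C.th * g⁻¹ with hr0
  set w := g * C.S.t * g⁻¹ with hw
  have hr03 : r0 ^ 3 = 1 := by rw [hr0, conj_pow, C.th3]; group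
  have hr0t : r0 * C.S.t * r0⁻¹ = g * C.u0 * g⁻¹ := by
    rw [hr0, ← hgs, show g * C.th * g⁻¹ * (g * C.s * g⁻¹) * (g * C.th * g⁻¹)⁻¹ = g * (C.th * C.s * C.th⁻¹) * g⁻¹ by
      group, C.th_s]
  have hr0u : r0 * (g * C.u0 * g⁻¹) * r0⁻¹ = C.S.t * (g * C.u0 * g⁻¹) := by
    rw [hr0, show g * C.th * g⁻¹ * (g * C.u0 * g⁻¹) * (g * C.th * g⁻¹)⁻¹ = g * (C.th * C.u0 * C.th⁻¹) * g⁻¹ by group,
      C.th_u0, ← hgs]
    group
  have hwS : w ∈ C.Syl := (mem_normalizer_iff.1 hg _).1 (C.V_le_Syl C.t_mem_V)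
  have hwr : w * r0 = r0 * w := by
    rw [hw, hr0, show g * C.S.t * g⁻¹ * (g * C.th * g⁻¹) = g * (C.S.t * C.th) * g⁻¹ by group, ← C.th_t]; group
  have hwV : w ∉ C.V := by
    intro h
    have hu0K : C.u0 ∈ C.S.K := C.embL_mem_K _
    have hsK : C.s ∈ C.S.K := C.embL_mem_K _
    have back : ∀ x : G, g * C.S.t * g⁻¹ = x → C.S.t = g⁻¹ * x * g := fun x e => by rw [← e]; group
    rcases C.mem_V.1 h with e | e | e | e
    · exact C.t_ne (conj_eq_one_iff.1 e)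
    · refine C.S.t_not_mem ?_
      rw [show C.S.t = C.s from mul_left_cancel (mul_right_cancel (e.trans hgs.symm))]; exact hsK
    all_goals
      refine C.S.t_not_mem ?_
      rcases hi with hi | hi
    · rw [back _ e, ← hi]; simpa [mul_assoc] using hu0K
    · rw [back _ e, show C.s = C.S.t * (g * C.u0 * g⁻¹) by rw [hi, ← mul_assoc, C.S.sq_t, one_mul], ← hgs]
      simpa [mul_assoc] using mul_mem hsK hu0K
    · rw [back _ e, ← hi, ← hgs]
      simpa [mul_assoc] using mul_mem hsK hu0K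
    · rw [back _ e, ← hi]; simpa [mul_assoc] using hu0K
  have hfix : ∀ f ∈ C.PhiG, f * r0 = r0 * f := fun f hf =>
    (((show Commute f g from gfix f hf).mul_right (C.th_fix hf)).mul_right (show Commute f g from gfix f hf).inv_right).eq
  rcases hi with h | h
  · rw [h] at hr0t hr0u
    exact ⟨⟨r0, w, hr03, hr0t, hr0u, hwS, hwV, hwr, hfix⟩⟩
  · rw [h] at hr0t hr0u
    have hy' : r0 * (C.S.t * C.s) * r0⁻¹ = C.s := by rw [hr0u, ← mul_assoc, C.S.sq_t, one_mul]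
    have hs' : r0 * C.s * r0⁻¹ = C.S.t := by
      calc r0 * C.s * r0⁻¹ = r0 * (C.S.t * (C.S.t * C.s)) * r0⁻¹ := by rw [← mul_assoc C.S.t, C.S.sq_t, one_mul]
        _ = r0 * C.S.t * r0⁻¹ * (r0 * (C.S.t * C.s) * r0⁻¹) := by group
        _ = C.S.t * C.s * C.s := by rw [hr0t, hy']
        _ = C.S.t := by rw [mul_assoc, C.sq_s, mul_one]
    refine ⟨⟨r0⁻¹, w, by rw [inv_pow, hr03, inv_one], ?_, ?_, hwS, hwV, (Commute.inv_right hwr).eq,
      fun f hf => (Commute.inv_right (hfix f hf)).eq⟩⟩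
    · rw [inv_inv]
      conv_lhs => rw [← hs']
      group
    · rw [inv_inv]
      conv_lhs => rw [← hy']
      group

namespace Rot

variable {C} (R : C.Rot)

theorem rho_ts : R.rho * (C.S.t * C.s) * R.rho⁻¹ = C.S.t := by
  rw [show R.rho * (C.S.t * C.s) * R.rho⁻¹ = R.rho * C.S.t * R.rho⁻¹ * (R.rho * C.s * R.rho⁻¹) by group, R.rho_t,
    R.rho_s, ← mul_assoc, C.s_t, mul_assoc, C.sq_s, mul_one]

theorem u_inv {β : G} (hβ : β ∈ C.BG) : R.u * β * R.u⁻¹ = β⁻¹ := by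
  obtain ⟨v, hv, h | h⟩ := R.uS
  · exact absurd (h ▸ hv) R.uV
  · rw [h, show v * C.u0 * β * (v * C.u0)⁻¹ = v * (C.u0 * β * C.u0⁻¹) * v⁻¹ by group, C.u0_inv hβ,
      ← ((C.V_BG hv hβ).inv_left).eq, mul_inv_cancel_right]

/-- Conjugation by `ρ` preserves `B`. -/
theorem rho_B {β : G} (hβ : β ∈ C.BG) : R.rho * β * R.rho⁻¹ ∈ C.BG := by
  set x := R.rho * β * R.rho⁻¹ with hx
  have hV : ∀ v ∈ C.V, x * (R.rho * v * R.rho⁻¹) = R.rho * v * R.rho⁻¹ * x := fun v hv => by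
    rw [hx, show R.rho * β * R.rho⁻¹ * (R.rho * v * R.rho⁻¹) = R.rho * (β * v) * R.rho⁻¹ by group,
      (C.V_BG hv hβ).eq]
    group
  have hxt := hV _ C.ts_mem_V
  rw [R.rho_ts] at hxt
  have hxs := hV _ C.t_mem_V
  rw [R.rho_t] at hxs
  have hP : x ∈ C.BP := C.odd_cent_V hxt hxs (by
    rw [hx, show R.rho * β * R.rho⁻¹ = MulAut.conj R.rho β from rfl, MulEquiv.orderOf_eq]; exact C.BG_odd hβ)
  refine C.mem_BG_of_inv hP ?_
  have hu : R.u * x * R.u⁻¹ = x⁻¹ := by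
    rw [hx, show R.u * (R.rho * β * R.rho⁻¹) * R.u⁻¹ = R.u * R.rho * β * (R.u * R.rho)⁻¹ by group, R.ur,
      show R.rho * R.u * β * (R.rho * R.u)⁻¹ = R.rho * (R.u * β * R.u⁻¹) * R.rho⁻¹ by group, R.u_inv hβ]
    group
  obtain ⟨v, hv, h | h⟩ := R.uS
  · exact absurd (h ▸ hv) R.uV
  · have hxv : Commute x v := C.V_comm_of hxt hxs hv
    have e : C.u0 * x * C.u0⁻¹ = v⁻¹ * (R.u * x * R.u⁻¹) * v := by rw [h]; group
    rw [e, hu, mul_assoc, hxv.inv_left.eq, inv_mul_cancel_left]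

end Rot

/-! ### Centralisers of elements of `B` -/

/-- `C(t) ∩ C(y) = V × B Φ_y`. -/
theorem cent_ty {y x : G} (hy : y ∈ C.BG) (hy1 : y ≠ 1) (hxt : x * C.S.t = C.S.t * x) (hxy : x * y = y * x) :
    ∃ v ∈ C.V, ∃ β ∈ C.BG, ∃ f ∈ C.PhiG, f * y = y * f ∧ x = v * β * f := by
  obtain ⟨v, hv, l, f, hf, rfl⟩ := C.cent_t hxt
  have hvV : v ∈ C.V := by rcases hv with rfl | rfl; exacts [one_mem _, C.t_mem_V]
  obtain ⟨y0, hy0, rfl⟩ := hy
  have hy0' : C.embL y0 ∈ C.BG := ⟨y0, hy0, rfl⟩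
  have hy01 : y0 ≠ 1 := fun e => hy1 (by rw [e, map_one])
  obtain ⟨y', hy', ey'⟩ := C.conj_mem_BG hf hy0'
  have ey'' : f * C.embL y0 * f⁻¹ = C.embL y' := ey'.symm
  have e : C.embL l * C.embL y' * (C.embL l)⁻¹ = C.embL y0 := by
    have h1 : v * C.embL l * f * C.embL y0 * (v * C.embL l * f)⁻¹ = C.embL y0 := by
      rw [hxy, mul_inv_cancel_right]
    rw [show v * C.embL l * f * C.embL y0 * (v * C.embL l * f)⁻¹ =
      v * (C.embL l * (f * C.embL y0 * f⁻¹) * (C.embL l)⁻¹) * v⁻¹ by group, ey''] at h1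
    rw [mul_inv_eq_iff_eq_mul, (C.V_BG hvV hy0').eq] at h1
    exact mul_left_cancel h1
  rw [← map_inv, ← map_mul, ← map_mul] at e
  have e' := C.embL_inj e
  have hy'1 : y' ≠ 1 := fun h => hy01 (by rw [← e', h, mul_one, mul_inv_cancel])
  have hc := C.D.cntB y' hy' hy'1 y0 hy0
  have hne : Nat.card {k : C.L // k * y' * k⁻¹ = y0} ≠ 0 := by
    haveI : Nonempty {k : C.L // k * y' * k⁻¹ = y0} := ⟨⟨l, e'⟩⟩
    exact Nat.card_pos.ne'
  split_ifs at hc with hcase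
  · rcases hcase with h | h
    · subst h
      rw [mul_inv_eq_iff_eq_mul] at e'
      obtain ⟨w, hw, β, hβ, el⟩ : ∃ w ∈ C.V, ∃ β ∈ C.BG, C.embL l = w * β := by
        rcases C.D.centB hy' hy'1 e' with hl | hl
        · exact ⟨1, one_mem _, C.embL l, ⟨l, hl, rfl⟩, (one_mul _).symm⟩
        · exact ⟨C.s, C.s_mem_V, _, ⟨_, hl, rfl⟩, by rw [map_mul, ← C.s_eq, ← mul_assoc, C.sq_s, one_mul]⟩
      exact ⟨v * w, mul_mem hvV hw, β, hβ, f, hf, mul_inv_eq_iff_eq_mul.1 ey'', by rw [el]; group⟩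
    · exfalso
      refine hy1 (C.Phi_no_inv hf hy0' ?_)
      show f * C.embL y0 * f⁻¹ = (C.embL y0)⁻¹
      rw [ey'', h, map_inv, inv_inv]
  · exact absurd hc hne

/-- `B` is cyclic. -/
theorem B_cyclic : IsCyclic C.BG := by
  have hw : (PSL2.wS : Matrix.SpecialLinearGroup (Fin 2) F).1.trace *
      (PSL2.wS : Matrix.SpecialLinearGroup (Fin 2) F).1.trace ≠ 4 := by
    have h4 := Char.ReeOrder.Psl.four_ne C.two_ne
    simpa [Matrix.trace_fin_two] using h4.symm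
  haveI := Char.ReeOrder.Psl.torusP_cyclic hw
  have hle : C.D.B ≤ (Char.ReeOrder.Psl.torusP (PSL2.wS : Matrix.SpecialLinearGroup (Fin 2) F)).comap
      C.iso.toMonoidHom := by
    intro x hx
    rw [Subgroup.mem_comap, MulEquiv.coe_toMonoidHom]
    obtain ⟨k, hk⟩ := sq_pow (C.D.B_odd hx)
    rw [hk, map_pow]
    refine pow_mem ?_ k
    obtain ⟨X, hX⟩ := PSL2.pr_surjective (C.iso x)
    have hc : PSL2.pr (X * PSL2.wS) = PSL2.pr (PSL2.wS * X) := by
      rw [map_mul, map_mul, hX, ← C.D_s, ← map_mul, ← map_mul, C.D.B_s x hx]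
    obtain ⟨ε, hε, he⟩ := (PSL2.pr_eq_iff _ _).1 hc
    refine ⟨X * X, ?_, by rw [map_mul, hX, map_pow, pow_two]⟩
    rw [SetLike.mem_coe, SL2C.mem_tor]
    rw [PSL2.val_mul, PSL2.val_mul] at he
    rw [PSL2.val_mul, mul_assoc X.1, he, mul_smul_comm, ← mul_assoc X.1, he, smul_mul_assoc, smul_smul, hε,
      one_smul, mul_assoc]
  haveI : IsCyclic C.D.B := by
    refine isCyclic_of_injective
      (((C.iso.toMonoidHom).comp C.D.B.subtype).codRestrict
        (Char.ReeOrder.Psl.torusP (PSL2.wS : Matrix.SpecialLinearGroup (Fin 2) F)) fun x => hle x.2) ?_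
    intro a b h
    exact Subtype.ext (C.iso.injective (congrArg Subtype.val h))
  exact isCyclic_of_surjective (C.D.B.equivMapOfInjective C.embL C.embL_inj).toMonoidHom
    (C.D.B.equivMapOfInjective C.embL C.embL_inj).surjective

end Frame

end Cfsg.Agent.Walter.JR
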