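import Mathlib
import Cfsg.Agent.Lib.Char.ReeOrder.ArithMain

/-!
# The arithmetic of a block belonging to a non-trivial character of `E/L`

`Q = 3 ^ n` and the constant `K = (Q² - 1)/(Q k)`, `k = Q² - Q + 1`, are known from the principal block. In each of the
configurations the first degree turns out to be one.
-/

set_option autoImplicit false
set_option maxHeartbeats 1000000

namespace Cfsg.Agent.Walter.JR.BlockArith

open Cfsg.Agent.Char.ReeOrder

/-- The first pairing. -/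
theorem main_block {Q x1 x2 x3 x4 : ℤ} {K : ℚ} (hQ : 11 ≤ Q) (hQ8 : Q % 8 = 3)
    (hK : K = ((Q : ℚ) ^ 2 - 1) / (Q * ((Q : ℚ) ^ 2 - Q + 1)))
    (n1 : x1 ≠ 0) (n2 : x2 ≠ 0) (n3 : x3 ≠ 0) (n4 : x4 ≠ 0) (n24 : x2 ≠ x4)
    (d1 : x1 + x2 + x3 + x4 = 0) (h8 : (8 : ℤ) ∣ x1 - 1)
    (hψ : -1 / (x2 : ℚ) + (Q : ℚ) ^ 2 / x4 + (1 - (Q : ℚ)) ^ 2 / (x2 - x4) = 0)
    (hY : K * (8 * Q) / (Q + 1) = 8 * ((Q : ℚ) - 1) ^ 2 / (x2 - x4))
    (p1 : 1 / (x1 : ℚ) + 1 / (x2 : ℚ) + (Q : ℚ) ^ 2 / x3 + (Q : ℚ) ^ 2 / x4 = K * (Q - 1)) : x1 = 1 := by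
  have q0 : (Q : ℚ) ≠ 0 := Int.cast_ne_zero.2 (by omega)
  have q1 : (Q : ℚ) + 1 ≠ 0 := by exact_mod_cast (show Q + 1 ≠ 0 by omega)
  have q1' : (Q : ℚ) - 1 ≠ 0 := by exact_mod_cast (show Q - 1 ≠ 0 by omega)
  have hk : 0 < Q ^ 2 - Q + 1 := by nlinarith
  have hk0 : (Q : ℚ) ^ 2 - Q + 1 ≠ 0 := by exact_mod_cast hk.ne'
  have m1 : (x1 : ℚ) ≠ 0 := Int.cast_ne_zero.2 n1
  have m2 : (x2 : ℚ) ≠ 0 := Int.cast_ne_zero.2 n2
  have m3 : (x3 : ℚ) ≠ 0 := Int.cast_ne_zero.2 n3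
  have m4 : (x4 : ℚ) ≠ 0 := Int.cast_ne_zero.2 n4
  have m24 : (x2 : ℚ) - x4 ≠ 0 := sub_ne_zero.2 (Int.cast_injective.ne n24)
  have e4 : (x4 : ℚ) = Q * x2 := by
    have := three_term (a := -1) (b := Q) (u := -(x2 : ℚ)) (v := x4) (neg_ne_zero.2 m2) m4
      (by intro e; exact m24 (by linear_combination -e)) (by
        rw [show -(x2 : ℚ) + x4 = -(x2 - x4) by ring, div_neg, div_neg, neg_one_sq]
        linear_combination hψ)
    linarith
  have e2 : (x2 : ℚ) = -((Q : ℚ) ^ 2 - Q + 1) := by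
    obtain ⟨kq, hkq⟩ : ∃ kq : ℚ, (Q : ℚ) ^ 2 - Q + 1 = kq := ⟨_, rfl⟩
    rw [hK, hkq, e4, show (x2 : ℚ) - Q * x2 = -((Q - 1) * x2) by ring] at hY
    rw [hkq] at hk0 ⊢
    field_simp at hY
    apply mul_left_cancel₀ q1
    apply mul_left_cancel₀ q1'
    linear_combination hY
  have z2 : x2 = -(Q ^ 2 - Q + 1) := by exact_mod_cast e2
  have z4 : x4 = -(Q * (Q ^ 2 - Q + 1)) := by
    have : x4 = Q * x2 := by exact_mod_cast e4
    rw [this, z2]; ring
  have z3 : x3 = Q ^ 3 + 1 - x1 := by rw [z2, z4] at d1; linarith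
  have quad : (x1 : ℚ) ^ 2 - (1 + Q * ((Q : ℚ) ^ 2 - Q + 1)) * x1 + Q * ((Q : ℚ) ^ 2 - Q + 1) = 0 := by
    obtain ⟨kq, hkq⟩ : ∃ kq : ℚ, (Q : ℚ) ^ 2 - Q + 1 = kq := ⟨_, rfl⟩
    rw [e4, e2, hK, hkq] at p1
    rw [hkq] at hk0
    field_simp at p1
    have e3 : (x3 : ℚ) = (Q : ℚ) ^ 3 + 1 - x1 := by exact_mod_cast z3
    rw [e3, ← hkq] at p1
    rw [← hkq] at hk0
    apply mul_left_cancel₀ (mul_ne_zero q1 hk0)
    linear_combination p1
  have quad' : (x1 - 1) * (x1 - Q * (Q ^ 2 - Q + 1)) = 0 := by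
    have h : ((x1 : ℚ) - 1) * ((x1 : ℚ) - Q * ((Q : ℚ) ^ 2 - Q + 1)) = 0 := by linear_combination quad
    exact_mod_cast h
  rcases mul_eq_zero.1 quad' with h | h
  · linarith
  · exfalso
    obtain ⟨c, rfl⟩ : ∃ c, Q = 8 * c + 3 := ⟨Q / 8, by omega⟩
    obtain ⟨d, hd⟩ := h8
    have : (8 : ℤ) ∣ 20 := ⟨d - (64 * c ^ 3 + 64 * c ^ 2 + 22 * c), by linear_combination hd - h⟩
    omega

theorem norm_bound {M x : ℤ} (h : M ∣ x - 1) (hx : x ≠ 1) : |M| - 1 ≤ |x| := by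
  have h1 : |M| ≤ |x - 1| := Int.le_of_dvd (abs_pos.2 (sub_ne_zero.2 hx)) ((abs_dvd M _).2 ((dvd_abs M _).2 h))
  have h2 : |x - 1| ≤ |x| + |(1 : ℤ)| := abs_sub _ _
  rw [abs_one] at h2
  linarith

/-- The second pairing. -/
theorem alt_block {Q h x1 x2 x3 x4 w y : ℤ} {K : ℚ} (hQh : Q = 2 * h + 1) (hh : 13 ≤ h) (hh4 : h % 4 = 1)
    (hK : K = ((Q : ℚ) ^ 2 - 1) / (Q * ((Q : ℚ) ^ 2 - Q + 1)))
    (n1 : x1 ≠ 0) (n2 : x2 ≠ 0) (nw : w ≠ 0) (ny : y ≠ 0)
    (c1 : 4 * (h + 1) ∣ x1 - 1) (c2 : 4 * (h + 1) ∣ x2 - 1) (cy : 4 * (h + 1) ∣ y - h)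
    (hY : K * (8 * Q) / (Q + 1) = 8 * ((Q : ℚ) - 1) ^ 2 / (-2 * w))
    (p1 : 1 / (x1 : ℚ) + 1 / (x2 : ℚ) + (Q : ℚ) ^ 2 / x3 + (Q : ℚ) ^ 2 / x4 = K * (Q - 1))
    (p2 : (Q : ℚ) ^ 2 / x3 + (Q : ℚ) ^ 2 / x4 + (h : ℚ) ^ 2 / w + (h : ℚ) ^ 2 / y = K * (3 * Q - 1) / (Q + 1)) :
    x1 = 1 ∨ x2 = 1 := by
  by_contra hne
  push Not at hne
  obtain ⟨ne1, ne2⟩ := hne
  set k : ℤ := Q ^ 2 - Q + 1 with hk
  have hk' : k = 4 * h ^ 2 + 2 * h + 1 := by rw [hk, hQh]; ring
  have hkpos : 0 < k := by nlinarith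
  have hQc : (Q : ℚ) = 2 * h + 1 := by exact_mod_cast hQh
  have q0 : (Q : ℚ) ≠ 0 := Int.cast_ne_zero.2 (by omega)
  have q1 : (Q : ℚ) + 1 ≠ 0 := by exact_mod_cast (show Q + 1 ≠ 0 by omega)
  have hh0 : (h : ℚ) ≠ 0 := Int.cast_ne_zero.2 (by omega)
  have hk0 : (Q : ℚ) ^ 2 - Q + 1 ≠ 0 := by exact_mod_cast hkpos.ne'
  have mw : (w : ℚ) ≠ 0 := Int.cast_ne_zero.2 nw
  have my : (y : ℚ) ≠ 0 := Int.cast_ne_zero.2 ny
  have m1 : (x1 : ℚ) ≠ 0 := Int.cast_ne_zero.2 n1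
  have m2 : (x2 : ℚ) ≠ 0 := Int.cast_ne_zero.2 n2
  have ew : (w : ℚ) = -(h : ℚ) * ((Q : ℚ) ^ 2 - Q + 1) := by
    obtain ⟨kq, hkq⟩ : ∃ kq : ℚ, (Q : ℚ) ^ 2 - Q + 1 = kq := ⟨_, rfl⟩
    rw [hK, hkq] at hY
    rw [hkq] at hk0 ⊢
    rw [hQc] at hY q0 q1
    field_simp at hY
    apply mul_left_cancel₀ hh0
    apply mul_left_cancel₀ q1
    linear_combination (1 / 4 : ℚ) * hY
  have key : ((x1 : ℚ) + x2) * ((Q : ℚ) ^ 2 - Q + 1) * y =
      (h * (4 * h - 5) * y + (h : ℚ) ^ 2 * ((Q : ℚ) ^ 2 - Q + 1)) * (x1 * x2) := by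
    have hs : 1 / (x1 : ℚ) + 1 / (x2 : ℚ) =
        h * (4 * h - 5) / ((Q : ℚ) ^ 2 - Q + 1) + (h : ℚ) ^ 2 / y := by
      have e : 1 / (x1 : ℚ) + 1 / (x2 : ℚ) =
          K * (Q - 1) - K * (3 * Q - 1) / (Q + 1) + (h : ℚ) ^ 2 / w + (h : ℚ) ^ 2 / y := by
        linear_combination p1 - p2
      rw [e, ew, hK]
      rw [hQc] at q0 q1 hk0 ⊢
      field_simp
      ring
    obtain ⟨kq, hkq⟩ : ∃ kq : ℚ, (Q : ℚ) ^ 2 - Q + 1 = kq := ⟨_, rfl⟩
    rw [hkq] at hk0 hs ⊢
    field_simp at hs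
    linear_combination hs
  have keyZ : (x1 + x2) * k * y = (h * (4 * h - 5) * y + h ^ 2 * k) * (x1 * x2) := by
    rw [hk]; exact_mod_cast key
  set U := h * (4 * h - 5) * y + h ^ 2 * k with hU
  have b1 : 4 * h + 3 ≤ |x1| := by
    have := norm_bound c1 ne1
    rw [abs_of_pos (show (0 : ℤ) < 4 * (h + 1) by omega)] at this
    linarith
  have b2 : 4 * h + 3 ≤ |x2| := by
    have := norm_bound c2 ne2
    rw [abs_of_pos (show (0 : ℤ) < 4 * (h + 1) by omega)] at this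
    linarith
  have hbound : (4 * h + 3) * |U| ≤ 2 * (k * |y|) := by
    have h1 : |x1 + x2| * (k * |y|) = |U| * (|x1| * |x2|) := by
      have := congrArg abs keyZ
      rw [abs_mul, abs_mul, abs_mul, abs_mul, abs_of_pos hkpos] at this
      linarith
    have h2 : |x1 + x2| ≤ |x1| + |x2| := abs_add_le _ _
    have h3 : (4 * h + 3) * (|x1| + |x2|) ≤ 2 * (|x1| * |x2|) := by
      nlinarith [mul_le_mul_of_nonneg_right b1 (abs_nonneg x2), mul_le_mul_of_nonneg_left b2 (abs_nonneg x1)]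
    have hp : 0 < |x1| * |x2| := mul_pos (abs_pos.2 n1) (abs_pos.2 n2)
    refine le_of_mul_le_mul_right ?_ hp
    calc (4 * h + 3) * |U| * (|x1| * |x2|) = (4 * h + 3) * (|x1 + x2| * (k * |y|)) := by rw [h1]; ring
      _ ≤ (4 * h + 3) * ((|x1| + |x2|) * (k * |y|)) := by gcongr
      _ = (4 * h + 3) * (|x1| + |x2|) * (k * |y|) := by ring
      _ ≤ 2 * (|x1| * |x2|) * (k * |y|) := by
        apply mul_le_mul_of_nonneg_right h3; positivity
      _ = 2 * (k * |y|) * (|x1| * |x2|) := by ring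
  obtain ⟨n, rfl⟩ : ∃ n, h = 4 * n + 1 := ⟨h / 4, by omega⟩
  obtain ⟨j, hj⟩ := cy
  have ey : y = (4 * n + 1) + 4 * (4 * n + 2) * j := by linear_combination hj
  rw [hk'] at hbound hU
  rw [hU, ey] at hbound
  rcases le_or_gt (-n) j with hj' | hj'
  · obtain ⟨i, hi, rfl⟩ : ∃ i : ℤ, 0 ≤ i ∧ j = -n + i := ⟨j + n, by omega, by ring⟩
    rcases abs_cases ((4 * n + 1) + 4 * (4 * n + 2) * (-n + i) : ℤ) with ⟨e, -⟩ | ⟨e, -⟩ <;>
      rw [e] at hbound <;>
      nlinarith [le_abs_self ((4 * n + 1) * (4 * (4 * n + 1) - 5) * ((4 * n + 1) + 4 * (4 * n + 2) * (-n + i)) +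
        (4 * n + 1) ^ 2 * (4 * (4 * n + 1) ^ 2 + 2 * (4 * n + 1) + 1)),
        mul_nonneg hi (show (0 : ℤ) ≤ n by omega), mul_nonneg (mul_nonneg hi (show (0 : ℤ) ≤ n by omega))
          (sq_nonneg n), pow_nonneg (show (0 : ℤ) ≤ n by omega) 4, pow_nonneg (show (0 : ℤ) ≤ n by omega) 3,
        mul_nonneg hi (sq_nonneg n)]
  · obtain ⟨i, hi, rfl⟩ : ∃ i : ℤ, 0 ≤ i ∧ j = -n - 1 - i := ⟨-n - 1 - j, by omega, by ring⟩
    rcases abs_cases ((4 * n + 1) + 4 * (4 * n + 2) * (-n - 1 - i) : ℤ) with ⟨e, -⟩ | ⟨e, -⟩ <;>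
      rw [e] at hbound <;>
      nlinarith [neg_abs_le ((4 * n + 1) * (4 * (4 * n + 1) - 5) * ((4 * n + 1) + 4 * (4 * n + 2) * (-n - 1 - i)) +
        (4 * n + 1) ^ 2 * (4 * (4 * n + 1) ^ 2 + 2 * (4 * n + 1) + 1)),
        mul_nonneg hi (show (0 : ℤ) ≤ n by omega), mul_nonneg (mul_nonneg hi (show (0 : ℤ) ≤ n by omega))
          (sq_nonneg n), pow_nonneg (show (0 : ℤ) ≤ n by omega) 4, pow_nonneg (show (0 : ℤ) ≤ n by omega) 3,
        mul_nonneg hi (sq_nonneg n)]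

/-- Three pairwise prime divisors with a small product. -/
theorem seven_core {Q u v M s T N : ℤ} (hQ : 27 ≤ Q) (hv : 0 < v) (hu : u = s - (Q - 1) * v)
    (hT : T = Q * s + (Q - 1) * v) (hN0 : 0 < N) (hN : N = Q ∨ (3 * N ≤ Q ∧ N ≤ v ∧ N ∣ T))
    (hcop : IsCoprime s v) (he : M * u * s * T = N * (Q ^ 2 - Q + 1)) :
    N = Q ∧ v = 1 ∧ u = -Q ∧ s = -1 := by
  set k := Q ^ 2 - Q + 1 with hk
  have hk0 : 0 < k := by nlinarith
  have hne : M * u * s * T ≠ 0 := by rw [he]; positivity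
  simp only [ne_eq, mul_eq_zero, not_or] at hne
  obtain ⟨⟨⟨hM0, hu0⟩, hs0⟩, hT0⟩ := hne
  have habs : |u| * |s| * |T| ≤ N * k := by
    have h1 : |M| * (|u| * |s| * |T|) = N * k := by
      rw [← abs_mul, ← abs_mul, ← abs_mul, show M * (u * s * T) = M * u * s * T by ring, he,
        abs_of_pos (by positivity)]
    nlinarith [Int.one_le_abs hM0, mul_nonneg (mul_nonneg (abs_nonneg u) (abs_nonneg s)) (abs_nonneg T)]
  have hNQ : N ≤ Q := by rcases hN with h | ⟨h, -, -⟩ <;> omega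
  -- the two equations
  have hid : Q * (M * s ^ 3 - N) = (Q - 1) ^ 2 * (M * s * (v * (s + v)) + N) := by
    rw [hu, hT, hk] at he
    linear_combination he
  obtain ⟨r, hr⟩ : (Q - 1) ^ 2 ∣ M * s ^ 3 - N :=
    (show IsCoprime ((Q - 1) ^ 2) Q from (show IsCoprime (Q - 1) Q from ⟨-1, 1, by ring⟩).pow_left).dvd_of_dvd_mul_left
      ⟨_, hid⟩
  have hr2 : M * s * (v * (s + v)) + N = Q * r := by
    apply mul_left_cancel₀ (pow_ne_zero 2 (show Q - 1 ≠ 0 by omega))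
    rw [← hid, hr]; ring
  by_cases hsp : s = -v
  · subst hsp
    have hv1 : v = 1 := by
      rcases Int.isUnit_iff.1 (hcop.isUnit_of_dvd' ⟨-1, by ring⟩ dvd_rfl) with h | h <;> omega
    subst hv1
    rw [show ((-1 : ℤ) + 1) = 0 by ring, mul_zero, mul_zero, zero_add] at hr2
    rcases hN with h | ⟨h, h', -⟩
    · exact ⟨h, rfl, by rw [hu]; ring, rfl⟩
    · exfalso
      obtain rfl : N = 1 := by omega
      nlinarith [show Q ∣ 1 from ⟨r, hr2⟩, Int.le_of_dvd one_pos (show Q ∣ 1 from ⟨r, hr2⟩)]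
  exfalso
  have hvs : v * (s + v) ≠ 0 := mul_ne_zero hv.ne' (fun h => hsp (by linarith))
  -- both have the sign of `r` and their quotient is small
  have hsmall : 0 < v * (s + v) ∧ ((Q - 1) ^ 2 - Q) * (v * (s + v)) ≤ 2 * Q * s ^ 2 := by
    have hr0 : r ≠ 0 := by
      intro h
      rw [h, mul_zero] at hr hr2
      have h1 : M * s * (v * (s + v) + s ^ 2) = 0 := by linear_combination hr + hr2
      have h2 : 0 < v * (s + v) + s ^ 2 := by nlinarith [sq_nonneg (2 * s + v), sq_pos_of_pos hv]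
      rcases mul_eq_zero.1 h1 with h3 | h3
      · exact (mul_ne_zero hM0 hs0) h3
      · omega
    have e1 : M * s * (v * (s + v)) = Q * r - N := by linarith
    have e2 : M * s * s ^ 2 = (Q - 1) ^ 2 * r + N := by linear_combination hr
    rcases lt_or_gt_of_ne hr0 with hneg | hpos
    · have hMs : M * s < 0 := by
        by_contra h
        push Not at h
        nlinarith [mul_nonneg h (sq_nonneg s)]
      refine ⟨?_, ?_⟩
      · by_contra h
        push Not at h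
        nlinarith [mul_nonneg_of_nonpos_of_nonpos hMs.le h]
      · have key : (M * s) * (2 * Q * s ^ 2) ≤ (M * s) * (((Q - 1) ^ 2 - Q) * (v * (s + v))) := by
          have : M * s * (((Q - 1) ^ 2 - Q) * (v * (s + v))) = ((Q - 1) ^ 2 - Q) * (Q * r - N) := by
            rw [← e1]; ring
          have h' : M * s * (2 * Q * s ^ 2) = 2 * Q * ((Q - 1) ^ 2 * r + N) := by rw [← e2]; ring
          rw [this, h']
          nlinarith [mul_nonneg (show (0 : ℤ) ≤ -r - 1 by omega) (sq_nonneg Q),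
            mul_nonneg (show (0 : ℤ) ≤ -r - 1 by omega) (mul_nonneg (show (0 : ℤ) ≤ Q by omega) (sq_nonneg (Q - 1))),
            mul_le_mul_of_nonneg_left hNQ (sq_nonneg (Q - 1))]
        nlinarith [key, hMs]
    · have hMs : 0 < M * s := by
        by_contra h
        push Not at h
        nlinarith [mul_nonpos_of_nonpos_of_nonneg h (sq_nonneg s)]
      refine ⟨?_, ?_⟩
      · by_contra h
        push Not at h
        have : Q * r - N ≤ 0 := e1 ▸ mul_nonpos_of_nonneg_of_nonpos hMs.le h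
        have hrN : r = 1 ∧ N = Q := ⟨by nlinarith, by nlinarith⟩
        rw [hrN.1, hrN.2, mul_one, sub_self] at e1
        exact mul_ne_zero (mul_ne_zero hM0 hs0) hvs e1
      · refine le_of_mul_le_mul_left ?_ hMs
        have : M * s * (((Q - 1) ^ 2 - Q) * (v * (s + v))) = ((Q - 1) ^ 2 - Q) * (Q * r - N) := by rw [← e1]; ring
        have h' : M * s * (2 * Q * s ^ 2) = 2 * Q * ((Q - 1) ^ 2 * r + N) := by rw [← e2]; ring
        rw [this, h']
        nlinarith [mul_nonneg (show (0 : ℤ) ≤ r by omega) (sq_nonneg Q),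
          mul_nonneg (show (0 : ℤ) ≤ r by omega) (mul_nonneg (show (0 : ℤ) ≤ Q by omega) (sq_nonneg (Q - 1))),
          mul_nonneg hN0.le (sq_nonneg (Q - 1))]
  obtain ⟨hpos, hsm⟩ := hsmall
  have hsv : 1 ≤ s + v := by
    by_contra h
    push Not at h
    nlinarith
  rcases lt_or_gt_of_ne hs0 with hs | hs
  · -- `s < 0`
    obtain ⟨σ, rfl⟩ : ∃ σ, s = -σ := ⟨-s, by ring⟩
    obtain ⟨d, hd, rfl⟩ : ∃ d, 1 ≤ d ∧ v = σ + d := ⟨v - σ, by omega, by ring⟩
    rw [show -σ + (σ + d) = d by ring] at hsm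
    have hσ : 1 ≤ σ := by omega
    have hd' : ((Q - 1) ^ 2 - Q) * d ≤ 2 * Q * σ := by
      refine le_of_mul_le_mul_left ?_ (show (0 : ℤ) < σ by omega)
      have : (0 : ℤ) ≤ ((Q - 1) ^ 2 - Q) * d * d :=
        mul_nonneg (mul_nonneg (by nlinarith) (by omega)) (by omega)
      linarith
    have hlow : (Q - 3) * d ≤ 2 * σ := by nlinarith
    have hua : |u| = Q * σ + (Q - 1) * d := by
      rw [hu, show -σ - (Q - 1) * (σ + d) = -(Q * σ + (Q - 1) * d) by ring, abs_neg,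
        abs_of_pos (add_pos_of_pos_of_nonneg (mul_pos (by omega) (by omega))
          (mul_nonneg (by omega) (by omega)))]
    rw [hua, abs_neg, abs_of_pos (show (0 : ℤ) < σ by omega)] at habs
    have hkQ : k < Q ^ 2 := by omega
    rcases hN with hNeq | ⟨hN3, hNv, hNT⟩
    · rw [hNeq] at habs he
      have hsmall' : σ * σ * |T| < Q ^ 2 := by
        refine lt_of_le_of_lt (le_of_mul_le_mul_left ?_ (show (0 : ℤ) < Q by omega)) hkQ
        have : (0 : ℤ) ≤ (Q - 1) * d * σ * |T| := by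
          have := abs_nonneg T
          have : (0 : ℤ) ≤ Q - 1 := by omega
          positivity
        linarith
      have hσQ : σ < Q := by
        by_contra h
        push Not at h
        have := mul_le_mul_of_nonneg_left (Int.one_le_abs hT0) (mul_self_nonneg σ)
        nlinarith [mul_le_mul h h (by omega) (by omega)]
      have hd3 : d ≤ 2 := by nlinarith
      have hTe : T = (Q - 1) * d - σ := by rw [hT]; ring
      rcases (show d = 1 ∨ d = 2 by omega) with rfl | rfl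
      · rw [mul_one] at hTe hlow
        have hT1 : 1 ≤ T := by omega
        rw [abs_of_pos (show 0 < T by omega)] at hsmall'
        rcases (show T = 1 ∨ (2 ≤ T ∧ T ≤ 5) ∨ 6 ≤ T by omega) with hT1 | ⟨h2, h5⟩ | h6
        · have hσ2 : σ = Q - 2 := by omega
          have hdvd : Q - 2 ∣ Q * k := ⟨-(M * u), by rw [← he, hσ2, hT1]; ring⟩
          have h6 : Q - 2 ∣ 6 := by
            have h2 : Q - 2 ∣ Q * k - 6 := ⟨Q ^ 2 + Q + 3, by rw [hk]; ring⟩
            simpa using dvd_sub hdvd h2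
          have := Int.le_of_dvd (by norm_num) h6
          omega
        · have h1 : (Q - 6) * (Q - 6) ≤ σ * σ := mul_le_mul (by omega) (by omega) (by omega) (by omega)
          have := mul_le_mul_of_nonneg_left h2 (mul_self_nonneg σ)
          nlinarith
        · have h1 : (Q - 3) * (Q - 3) ≤ (2 * σ) * (2 * σ) := mul_le_mul hlow hlow (by omega) (by omega)
          have := mul_le_mul_of_nonneg_left h6 (mul_self_nonneg σ)
          nlinarith
      · have h2 : 2 ≤ |T| := le_trans (by omega) (le_abs_self T)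
        have h1 : (Q - 3) * (Q - 3) ≤ σ * σ := mul_le_mul (by omega) (by omega) (by omega) (by omega)
        have := mul_le_mul_of_nonneg_left h2 (mul_self_nonneg σ)
        nlinarith
    · obtain ⟨T', rfl⟩ := hNT
      rw [abs_mul, abs_of_pos hN0] at habs
      have hT' : 1 ≤ |T'| := Int.one_le_abs (right_ne_zero_of_mul hT0)
      have h1 : (Q * σ + (Q - 1) * d) * σ ≤ k := by
        have h2 : 0 ≤ (Q * σ + (Q - 1) * d) * σ := by
          have : (0 : ℤ) ≤ Q - 1 := by omega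
          positivity
        refine le_trans (le_mul_of_one_le_right h2 hT') (le_of_mul_le_mul_left ?_ hN0)
        linarith
      have h2 : (0 : ℤ) ≤ (Q - 1) * d * σ := mul_nonneg (mul_nonneg (by omega) (by omega)) (by omega)
      have h3 : σ * σ < Q := by
        by_contra h
        push Not at h
        nlinarith [mul_le_mul_of_nonneg_left h (show (0 : ℤ) ≤ Q by omega)]
      have h4 : Q - 3 ≤ 2 * σ := by nlinarith
      nlinarith [mul_le_mul h4 h4 (by omega) (by omega)]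
  · -- `s > 0`
    have hlow : ((Q - 1) ^ 2 - Q) * v ≤ 2 * Q * s := by
      refine le_of_mul_le_mul_right ?_ hs
      have : (0 : ℤ) ≤ ((Q - 1) ^ 2 - Q) * (v * v) := mul_nonneg (by nlinarith) (mul_self_nonneg v)
      linarith
    have hlow' : (Q - 3) * v ≤ 2 * s := by nlinarith
    have hkQ : k < Q ^ 2 := by omega
    have hTge : Q * s ≤ |T| := by rw [hT]; exact le_trans (by nlinarith) (le_abs_self _)
    rw [abs_of_pos hs] at habs
    have h1 : |u| * s * (Q * s) ≤ N * k :=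
      le_trans (mul_le_mul_of_nonneg_left hTge (mul_nonneg (abs_nonneg u) hs.le)) habs
    rcases hN with hNeq | ⟨hN3, hNv, -⟩
    · rw [hNeq] at h1 he
      have h2 : |u| * (s * s) < Q ^ 2 := by
        refine lt_of_le_of_lt (le_of_mul_le_mul_left ?_ (show (0 : ℤ) < Q by omega)) hkQ
        linarith
      have hsQ : s < Q := by
        by_contra h
        push Not at h
        have := le_mul_of_one_le_left (mul_self_nonneg s) (Int.one_le_abs hu0)
        nlinarith [mul_le_mul h h (by omega) (by omega)]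
      have hv2 : v ≤ 2 := by nlinarith
      rw [abs_of_neg (show u < 0 by rcases (show v = 1 ∨ v = 2 by omega) with rfl | rfl <;> omega)] at h2
      rcases (show v = 1 ∨ v = 2 by omega) with rfl | rfl
      · rcases (show u = -1 ∨ (2 ≤ -u ∧ -u ≤ 5) ∨ 6 ≤ -u by omega) with hu1 | ⟨h3, h4⟩ | h3
        · have hsQ2 : s = Q - 2 := by omega
          have hdvd : Q - 2 ∣ Q * k := ⟨M * u * T, by rw [← he, hsQ2]; ring⟩
          have h6 : Q - 2 ∣ 6 := by
            have h2 : Q - 2 ∣ Q * k - 6 := ⟨Q ^ 2 + Q + 3, by rw [hk]; ring⟩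
            simpa using dvd_sub hdvd h2
          have := Int.le_of_dvd (by norm_num) h6
          omega
        · have h5 : (Q - 6) * (Q - 6) ≤ s * s := mul_le_mul (by omega) (by omega) (by omega) (by omega)
          have := mul_le_mul_of_nonneg_right h3 (mul_self_nonneg s)
          nlinarith
        · have h5 : (Q - 3) * (Q - 3) ≤ (2 * s) * (2 * s) := mul_le_mul (by omega) (by omega) (by omega) (by omega)
          have := mul_le_mul_of_nonneg_right h3 (mul_self_nonneg s)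
          nlinarith
      · have h5 : (Q - 3) * (Q - 3) ≤ s * s := mul_le_mul (by omega) (by omega) (by omega) (by omega)
        have := mul_le_mul_of_nonneg_right (show (2 : ℤ) ≤ -u by omega) (mul_self_nonneg s)
        nlinarith
    · have hslow : Q - 3 ≤ 2 * s := by nlinarith
      have h3 : s * s * Q ≤ v * k := by
        refine le_trans (le_mul_of_one_le_left (by positivity) (Int.one_le_abs hu0)) (le_trans (le_of_eq ?_)
          (le_trans h1 (mul_le_mul_of_nonneg_right hNv hk0.le)))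
        ring
      have h4 : (Q - 3) * (s * s * Q) ≤ 2 * s * k := by
        refine le_trans (mul_le_mul_of_nonneg_left h3 (by omega)) ?_
        rw [← mul_assoc]
        exact mul_le_mul_of_nonneg_right hlow' hk0.le
      have h5 : (Q - 3) * (s * Q) ≤ 2 * k := by
        refine le_of_mul_le_mul_left ?_ hs
        linarith
      nlinarith [mul_le_mul_of_nonneg_left hslow (show (0 : ℤ) ≤ (Q - 3) * Q from mul_nonneg (by omega) (by omega))]

/-- Two divisors of `k` at distance a multiple of `k - 1`. -/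
theorem pair_cases {k u s w : ℤ} (hk : 100 ≤ k) (hw : 1 ≤ w) (hsu : s - u = (k - 1) * w) (hd : u * s ∣ k) :
    w = 1 ∧ (u = 1 ∧ s = k ∨ u = -k ∧ s = -1) := by
  have hne : u * s ≠ 0 := fun h => by rw [h, zero_dvd_iff] at hd; omega
  have hu0 := left_ne_zero_of_mul hne
  have hs0 := right_ne_zero_of_mul hne
  have hle : |u| * |s| ≤ k := by
    rw [← abs_mul]
    exact Int.le_of_dvd (by omega) ((abs_dvd _ _).2 hd)
  have hbig : k - 1 ≤ |u| + |s| := by
    calc k - 1 ≤ (k - 1) * w := le_mul_of_one_le_right (by omega) hw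
      _ ≤ |s - u| := by rw [hsu]; exact le_abs_self _
      _ ≤ |s| + |u| := abs_sub _ _
      _ = _ := add_comm _ _
  have hone : |u| = 1 ∨ |s| = 1 := by
    by_contra h
    push Not at h
    have a1 : 2 ≤ |u| := by have := Int.one_le_abs hu0; omega
    have a2 : 2 ≤ |s| := by have := Int.one_le_abs hs0; omega
    nlinarith [mul_nonneg (sub_nonneg.2 a1) (sub_nonneg.2 a2)]
  have bnd : ∀ z : ℤ, z ∣ k → |z| ≤ k := fun z hz => Int.le_of_dvd (by omega) ((abs_dvd _ _).2 hz)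
  have hus : u ∣ k ∧ s ∣ k := ⟨(dvd_mul_right u s).trans hd, (dvd_mul_left s u).trans hd⟩
  have h2 : ¬ (k - 2 ∣ k) := fun h => by
    have h' : k - 2 ∣ 2 := by simpa using dvd_sub h (dvd_refl (k - 2))
    have := Int.le_of_dvd (by norm_num) h'
    omega
  have hcase : ∀ {z e : ℤ}, z ∣ k → (e = 1 ∨ e = -1) → z = e + (k - 1) * w → w = 1 := by
    intro z e hz he hze
    have h1 := le_trans (le_abs_self z) (bnd z hz)
    rcases he with rfl | rfl <;> nlinarith
  rcases hone with h | h <;> rcases abs_eq (by norm_num : (0 : ℤ) ≤ 1) |>.1 h with h' | h' <;> subst h'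
  · have := hcase hus.2 (Or.inl rfl) (by linarith)
    subst this
    exact ⟨rfl, Or.inl ⟨rfl, by linarith⟩⟩
  · have := hcase hus.2 (Or.inr rfl) (by linarith)
    subst this
    obtain rfl : s = k - 2 := by linarith
    exact absurd hus.2 h2
  · have := hcase (neg_dvd.2 hus.1) (Or.inr rfl) (by linarith : -u = -1 + (k - 1) * w)
    subst this
    obtain rfl : u = -(k - 2) := by linarith
    exact absurd (neg_dvd.1 hus.1) h2
  · have := hcase (neg_dvd.2 hus.1) (Or.inl rfl) (by linarith : -u = 1 + (k - 1) * w)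
    subst this
    exact ⟨rfl, Or.inr ⟨by linarith, rfl⟩⟩

/-- The configuration with seven rows: the first equation alone. -/
theorem seven_block {Q x A : ℤ} {n : ℕ} (hQ : Q = 3 ^ n) (hQ27 : 27 ≤ Q) (hQ8 : Q % 8 = 3)
    (hx : x ≠ 0) (hA : A ≠ 0) (hAx : A + x ≠ 0) (h8 : (8 : ℤ) ∣ x - 1) (hc : 2 * (Q + 1) ∣ A - Q * x)
    (he : (A - Q * x) ^ 2 * (Q * (Q ^ 2 - Q + 1)) = (Q + 1) * (Q - 1) ^ 2 * (A * x * (A + x))) : x = 1 := by
  set k := Q ^ 2 - Q + 1 with hk
  have hk100 : 100 ≤ k := by nlinarith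
  have h3Q : ∀ z : ℤ, ¬ (3 : ℤ) ∣ z → IsCoprime z Q := fun z hz => by
    rw [hQ]
    exact (((Int.prime_three).coprime_iff_not_dvd).2 hz).symm.pow_right
  have h3k : ¬ (3 : ℤ) ∣ k := fun ⟨c, hc⟩ => by
    obtain ⟨d, hd⟩ : (3 : ℤ) ∣ Q := by
      rw [hQ]; exact dvd_pow_self 3 fun h0 => by rw [h0, pow_zero] at hQ; omega
    obtain ⟨e, he⟩ : (3 : ℤ) ∣ Q ^ 2 := dvd_pow ⟨d, hd⟩ two_ne_zero
    rw [hk, he, hd] at hc
    omega
  have hkQ1 : IsCoprime (Q * k) (Q - 1) :=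
    (show IsCoprime Q (Q - 1) from ⟨1, -1, by ring⟩).mul_left ⟨1, -Q, by rw [hk]; ring⟩
  have hkQ2 : IsCoprime (Q * k) (Q + 1) := by
    refine (show IsCoprime Q (Q + 1) from ⟨-1, 1, by ring⟩).mul_left ?_
    have h3 : IsCoprime (3 : ℤ) (Q + 1) := (Int.prime_three.coprime_iff_not_dvd).2 fun ⟨c, hc⟩ => by
      obtain ⟨d, hd⟩ : (3 : ℤ) ∣ Q := by
        rw [hQ]; exact dvd_pow_self 3 fun h0 => by rw [h0, pow_zero] at hQ; omega
      omega
    obtain ⟨a, b, hab⟩ := h3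
    exact ⟨a, b - a * (Q - 2), by rw [hk]; linear_combination hab⟩
  -- `A - Q x` is a multiple of `Q² - 1`
  have hh : IsCoprime (2 * (Q + 1)) ((Q - 1) / 2) := by
    obtain ⟨c, hc⟩ : ∃ c, Q = 8 * c + 3 := ⟨Q / 8, by omega⟩
    rw [show (Q - 1) / 2 = 4 * c + 1 by omega, show 2 * (Q + 1) = 2 ^ 3 * (2 * c + 1) by rw [hc]; ring]
    exact (show IsCoprime (2 : ℤ) (4 * c + 1) from ⟨-2 * c, 1, by ring⟩).pow_left.mul_left ⟨2, -1, by ring⟩
  obtain ⟨w, hw⟩ : (Q ^ 2 - 1) ∣ A - Q * x := by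
    have h1 : (Q - 1) ∣ A - Q * x := by
      have h' : (Q - 1) ^ 2 ∣ (A - Q * x) ^ 2 :=
        (hkQ1.symm.pow_left).dvd_of_dvd_mul_right ⟨(Q + 1) * (A * x * (A + x)), by rw [he]; ring⟩
      exact (Int.pow_dvd_pow_iff two_ne_zero).1 h'
    have h2 : (Q - 1) / 2 ∣ A - Q * x := (Dvd.intro_left 2 (by omega) : (Q - 1) / 2 ∣ Q - 1).trans h1
    obtain ⟨c, hc'⟩ := hh.mul_dvd hc h2
    obtain ⟨d, hd⟩ : ∃ d, Q - 1 = 2 * d := ⟨(Q - 1) / 2, by omega⟩
    refine ⟨c, hc'.trans ?_⟩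
    rw [show (Q - 1) / 2 = d by omega, show Q ^ 2 - 1 = 2 * (Q + 1) * d by linear_combination (Q + 1) * hd]
  have hw2 : w ^ 2 * (Q * k) = x * (Q * x + (Q ^ 2 - 1) * w) * (x + (Q - 1) * w) := by
    have hA' : A = Q * x + (Q ^ 2 - 1) * w := by linarith
    apply mul_left_cancel₀ (mul_ne_zero (pow_ne_zero 2 (show Q + 1 ≠ 0 by omega)) (pow_ne_zero 2 (show Q - 1 ≠ 0 by omega)))
    rw [hw, hA'] at he
    linear_combination he
  have hw0 : w ≠ 0 := by
    rintro rfl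
    rw [mul_zero] at hw
    rw [hw] at he
    simp at he
    rcases he with (h | h) | ((h | h) | h) <;> omega
  obtain ⟨g, u, v, hv, hxg, hwg, hcop⟩ : ∃ g u v : ℤ, 0 < v ∧ x = g * u ∧ w = g * v ∧ IsCoprime u v := by
    obtain ⟨u, v, hc', hu, hv⟩ := Int.exists_gcd_one (Int.gcd_pos_of_ne_zero_left w hx)
    rcases lt_trichotomy v 0 with h | h | h
    · exact ⟨-(Int.gcd x w : ℤ), -u, -v, by omega, by linarith, by linarith,
        (Int.isCoprime_iff_gcd_eq_one.2 hc').neg_neg⟩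
    · rw [h, zero_mul] at hv; exact absurd hv hw0
    · exact ⟨(Int.gcd x w : ℤ), u, v, h, by linarith, by linarith, Int.isCoprime_iff_gcd_eq_one.2 hc'⟩
  have hg : g ≠ 0 := fun h => hx (by rw [hxg, h, zero_mul])
  set s := u + (Q - 1) * v with hs
  set T := Q * u + (Q ^ 2 - 1) * v with hT
  have hT' : T = Q * s + (Q - 1) * v := by rw [hT, hs]; ring
  have heq : v ^ 2 * (Q * k) = g * (u * s * T) := by
    apply mul_left_cancel₀ (pow_ne_zero 2 hg)
    rw [hxg, hwg] at hw2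
    rw [hs, hT]
    linear_combination hw2
  have csv : IsCoprime s v := hcop.add_mul_right_left (Q - 1)
  have duQ : u ∣ Q * k := (hcop.pow_right (n := 2)).dvd_of_dvd_mul_left ⟨g * s * T, by linear_combination heq⟩
  have dsQ : s ∣ Q * k := (csv.pow_right (n := 2)).dvd_of_dvd_mul_left ⟨g * u * T, by linear_combination heq⟩
  have cus : IsCoprime u s := by
    have := ((IsCoprime.of_isCoprime_of_dvd_left hkQ1 duQ).mul_right hcop).add_mul_left_right 1
    rwa [show (Q - 1) * v + u * 1 = s by rw [hs]; ring] at this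
  have csT : IsCoprime s T := by
    have h1 : IsCoprime s u := cus.symm
    have : T = s * (Q + 1) + -u := by rw [hT, hs]; ring
    rw [this]
    exact h1.neg_right.mul_add_left_right (Q + 1)
  have cuT : IsCoprime u T := by
    have : T = u * (-1) + (Q + 1) * s := by rw [hT, hs]; ring
    rw [this]
    exact ((IsCoprime.of_isCoprime_of_dvd_left hkQ2 duQ).mul_right cus).mul_add_left_right (-1)
  -- the valuation of `v` at three
  obtain ⟨i, v', hv3, rfl⟩ : ∃ (i : ℕ) (v' : ℤ), ¬ (3 : ℤ) ∣ v' ∧ v = 3 ^ i * v' := by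
    obtain ⟨i, m, hm, he'⟩ := Nat.exists_eq_pow_mul_and_not_dvd (n := v.toNat) (by omega) 3 (by norm_num)
    refine ⟨i, m, fun h => hm (by exact_mod_cast h), ?_⟩
    have h' : ((v.toNat : ℕ) : ℤ) = v := Int.toNat_of_nonneg hv.le
    rw [← h', he']; push_cast; rfl
  have hv' : 0 < v' := by
    by_contra h
    push Not at h
    nlinarith [pow_pos (show (0 : ℤ) < 3 by norm_num) i]
  by_cases hi0 : i = 0
  · subst hi0
    rw [pow_zero, one_mul] at *
    have cTv : IsCoprime T v' := by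
      have : IsCoprime (Q * u) v' := ((h3Q v' hv3).symm).mul_left hcop
      rw [hT]
      exact this.add_mul_right_left (Q ^ 2 - 1)
    have dTQ : T ∣ Q * k := (cTv.pow_right (n := 2)).dvd_of_dvd_mul_left ⟨g * u * s, by linear_combination heq⟩
    obtain ⟨M, hM⟩ := (IsCoprime.mul_left cuT csT).mul_dvd (cus.mul_dvd duQ dsQ) dTQ
    obtain ⟨-, hv1, hu1, hs1⟩ := seven_core hQ27 hv' (by rw [hs]; ring) hT' (show 0 < Q by omega) (Or.inl rfl) csv
      (show M * u * s * T = Q * k by rw [hM]; ring)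
    have hT1 : T = -1 := by rw [hT', hs1, hv1]; ring
    have hgk : g = -k := by
      rw [hv1, hu1, hs1, hT1] at heq
      apply mul_left_cancel₀ (show Q ≠ 0 by omega)
      linear_combination heq
    exfalso
    obtain ⟨c, hc8⟩ : ∃ c, Q = 8 * c + 3 := ⟨Q / 8, by omega⟩
    obtain ⟨d, hd⟩ := h8
    rw [hxg, hgk, hu1, hk, hc8] at hd
    have : (8 : ℤ) ∣ 20 := ⟨d - (64 * c ^ 3 + 64 * c ^ 2 + 22 * c), by linear_combination hd⟩
    omega
  have h3v : (3 : ℤ) ∣ 3 ^ i * v' := (dvd_pow_self 3 hi0).mul_right _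
  have h3u : ¬ (3 : ℤ) ∣ u := fun h => by
    have := hcop.isUnit_of_dvd' h h3v
    rw [Int.isUnit_iff] at this
    omega
  have h3s : ¬ (3 : ℤ) ∣ s := fun h => by
    have := csv.isUnit_of_dvd' h h3v
    rw [Int.isUnit_iff] at this
    omega
  have duk : u ∣ k := (h3Q u h3u).dvd_of_dvd_mul_left duQ
  have dsk : s ∣ k := (h3Q s h3s).dvd_of_dvd_mul_left dsQ
  have hdus : u * s ∣ k := cus.mul_dvd duk dsk
  have cuv' : IsCoprime u v' := hcop.of_mul_right_right
  have sub : ∀ T' : ℤ, T' ∣ T → ¬ (3 : ℤ) ∣ T' → IsCoprime T' v' → u * s * T' ∣ k := by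
    intro T' hd h3 hcv
    have h1 : IsCoprime T' (3 ^ i * v') :=
      (((Int.prime_three).coprime_iff_not_dvd.2 h3).symm.pow_right).mul_right hcv
    have dT : T' ∣ k := by
      refine (h3Q T' h3).dvd_of_dvd_mul_left ((h1.pow_right (n := 2)).dvd_of_dvd_mul_left ?_)
      obtain ⟨c, hc'⟩ := hd
      exact ⟨g * u * s * c, by rw [heq, hc']; ring⟩
    exact (IsCoprime.mul_left (cuT.of_isCoprime_of_dvd_right hd) (csT.of_isCoprime_of_dvd_right hd)).mul_dvd hdus dT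
  obtain ⟨d, hdQ⟩ : (3 : ℤ) ∣ Q := by
    rw [hQ]; exact dvd_pow_self 3 fun h0 => by rw [h0, pow_zero] at hQ; omega
  rcases lt_trichotomy i n with hin | hin | hin
  · obtain ⟨j, rfl⟩ : ∃ j, n = i + (j + 1) := ⟨n - i - 1, by omega⟩
    set T' := 3 ^ (j + 1) * u + (Q ^ 2 - 1) * v' with hT1
    have hTT : T = 3 ^ i * T' := by rw [hT, hT1, hQ, pow_add]; ring
    have h3T : ¬ (3 : ℤ) ∣ T' := fun ⟨c, hc'⟩ => hv3 ⟨3 ^ j * u + 3 * d ^ 2 * v' - c, by
      rw [hT1, hdQ, pow_succ] at hc'; linear_combination -hc'⟩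
    have hcv : IsCoprime T' v' :=
      ((((Int.prime_three).coprime_iff_not_dvd.2 hv3).pow_left).mul_left cuv').add_mul_right_left _
    obtain ⟨M, hM⟩ := sub T' ⟨3 ^ i, by rw [hTT]; ring⟩ h3T hcv
    have hN : (0 : ℤ) < 3 ^ i := pow_pos (by norm_num) i
    obtain ⟨hNQ, -, -, -⟩ := seven_core hQ27 hv (by rw [hs]; ring) hT' hN
      (Or.inr ⟨by rw [hQ, pow_add, pow_succ]; nlinarith [pow_pos (show (0 : ℤ) < 3 by norm_num) j],
        le_mul_of_one_le_right hN.le (by omega), ⟨T', hTT⟩⟩) csv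
      (show M * u * s * T = 3 ^ i * k by rw [hTT, hM]; ring)
    have := pow_lt_pow_right₀ (show (1 : ℤ) < 3 by norm_num) (show i < i + (j + 1) by omega)
    omega
  · subst hin
    have hQi : (3 : ℤ) ^ i = Q := hQ.symm
    clear hQ
    rw [hQi] at hs hT hT' heq
    set T1 := u + (Q ^ 2 - 1) * v' with hT1
    have hTT : T = Q * T1 := by rw [hT, hT1]; ring
    obtain ⟨hv1, hh' | hh'⟩ := pair_cases hk100 hv' (by rw [hs, hk]; ring) hdus
    · obtain ⟨hu1, hs1⟩ := hh'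
      have hT2 : T1 = Q ^ 2 := by rw [hT1, hu1, hv1]; ring
      rw [hu1, hs1, hTT, hT2, hv1] at heq
      have hg1 : g = 1 := by
        apply mul_left_cancel₀ (mul_ne_zero (pow_ne_zero 3 (show Q ≠ 0 by omega)) (show k ≠ 0 by omega))
        linear_combination -heq
      rw [hxg, hg1, hu1, one_mul]
    · exfalso
      obtain ⟨hu1, hs1⟩ := hh'
      have hT2 : T1 = Q - 2 := by rw [hT1, hu1, hv1, hk]; ring
      rw [hu1, hs1, hTT, hT2, hv1] at heq
      have hd4 : Q - 2 ∣ 4 := by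
        have e : Q ^ 2 = g * (Q - 2) := by
          apply mul_left_cancel₀ (mul_ne_zero (show Q ≠ 0 by omega) (show k ≠ 0 by omega))
          linear_combination heq
        exact ⟨g - Q - 2, by linear_combination e⟩
      have := Int.le_of_dvd (by norm_num) hd4
      omega
  · obtain ⟨j, rfl⟩ : ∃ j, i = n + (j + 1) := ⟨i - n - 1, by omega⟩
    set T' := u + (Q ^ 2 - 1) * (3 ^ (j + 1) * v') with hT1
    have hTT : T = Q * T' := by rw [hT, hT1, pow_add, ← hQ]; ring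
    have h3T : ¬ (3 : ℤ) ∣ T' := fun ⟨c, hc'⟩ => h3u ⟨c - (Q ^ 2 - 1) * (3 ^ j * v'), by
      rw [hT1, pow_succ] at hc'; linear_combination hc'⟩
    have hcv : IsCoprime T' v' := by
      rw [hT1, ← mul_assoc]
      exact cuv'.add_mul_right_left _
    obtain ⟨M, hM⟩ := sub T' ⟨Q, by rw [hTT]; ring⟩ h3T hcv
    obtain ⟨-, hv1, -, -⟩ := seven_core hQ27 hv (by rw [hs]; ring) hT' (show 0 < Q by omega) (Or.inl rfl) csv
      (show M * u * s * T = Q * k by rw [hTT, hM]; ring)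
    rw [hv1] at h3v
    omega

end Cfsg.Agent.Walter.JR.BlockArith
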