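import Cfsg.Agent.Lib.Char.ReeOrder.Cases
import Cfsg.Agent.Lib.Walter.JR.BlockArith

/-!
# The three configurations of a block belonging to a non-trivial character of `E/L`

The characters meeting the three rows fall into seven classes according to the rows they meet; all class sizes are
determined by the number `τ` of characters meeting every row. In each configuration some character has degree one.
-/

set_option autoImplicit false
set_option linter.unusedSectionVars false
set_option linter.unusedSimpArgs false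
set_option maxHeartbeats 1000000

open scoped Classical

namespace Cfsg.Agent.Walter.JR.BlockCases

open Cfsg.Agent.Char.ReeOrder

universe u

variable {ι : Type u} [Fintype ι] [DecidableEq ι] {Θ Zi : Type u} [Fintype Zi] (C : Rows ι Θ Zi)

/-- The rows met by a character. -/
abbrev Pat := Bool × Bool × Bool

/-- The rows met by a character. -/
noncomputable def pat (χ : ι) : Pat := (decide (C.f 0 χ ≠ 0), decide (C.f 1 χ ≠ 0), decide (C.f 2 χ ≠ 0))

/-- The characters of one pattern. -/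
noncomputable def P (s : Pat) : Finset ι := Finset.univ.filter fun χ => pat C χ = s

/-- The sign of a character. -/
noncomputable def sg (χ : ι) : ℤ := if C.f 0 χ ≠ 0 then C.f 0 χ else if C.f 1 χ ≠ 0 then C.f 1 χ else C.f 2 χ

/-- The signed degree. -/
noncomputable def X (χ : ι) : ℤ := sg C χ * C.d χ

/-- The value at `t` attached to a pattern, without sign. -/
def w (s : Pat) : ℤ :=
  (if s.1 then 1 else 0) + C.h * ((if s.2.1 then 1 else 0) + (if s.2.2 then 1 else 0))

theorem mem_P {s : Pat} {χ : ι} : χ ∈ P C s ↔ pat C χ = s := by simp [P]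

theorem f_pat {s : Pat} {χ : ι} (h : χ ∈ P C s) :
    C.f 0 χ = (if s.1 then sg C χ else 0) ∧ C.f 1 χ = (if s.2.1 then sg C χ else 0) ∧
      C.f 2 χ = (if s.2.2 then sg C χ else 0) := by
  rw [mem_P] at h
  subst h
  simp only [pat, sg, decide_eq_true_eq]
  by_cases h0 : C.f 0 χ = 0 <;> by_cases h1 : C.f 1 χ = 0 <;> by_cases h2 : C.f 2 χ = 0 <;> simp [h0, h1, h2]
  · exact C.f_eq h1 h2
  · exact C.f_eq h0 h2
  · exact C.f_eq h0 h1
  · exact ⟨C.f_eq h0 h1, C.f_eq h0 h2⟩

theorem sg_unit {s : Pat} (hs : s ≠ (false, false, false)) {χ : ι} (h : χ ∈ P C s) :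
    sg C χ = 1 ∨ sg C χ = -1 := by
  rw [mem_P] at h
  subst h
  simp only [pat] at hs
  simp only [sg]
  by_cases h0 : C.f 0 χ = 0
  · by_cases h1 : C.f 1 χ = 0
    · by_cases h2 : C.f 2 χ = 0
      · simp [h0, h1, h2] at hs
      · simpa [h0, h1] using (C.funit 2 χ).resolve_left h2
    · simpa [h0, h1] using (C.funit 1 χ).resolve_left h1
  · simpa [h0] using (C.funit 0 χ).resolve_left h0

theorem row_ne {s : Pat} (hs : s ≠ (false, false, false)) {χ : ι} (h : χ ∈ P C s) : ∃ k, C.f k χ ≠ 0 := by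
  rw [mem_P] at h
  subst h
  by_contra! hn
  exact hs (by simp [pat, hn])

theorem X_ne {s : Pat} (hs : s ≠ (false, false, false)) {χ : ι} (h : χ ∈ P C s) : X C χ ≠ 0 := by
  have := C.dpos χ
  exact mul_ne_zero (by rcases sg_unit C hs h with e | e <;> rw [e] <;> norm_num) (by omega)

/-- A row as a sum over patterns. -/
theorem row_sums {M : Type} [CommRing M] (F : ι → M) :
    (∑ χ, (C.f 0 χ : M) * F χ = ∑ χ ∈ P C (true, true, true), (sg C χ : M) * F χ +
      ∑ χ ∈ P C (true, true, false), (sg C χ : M) * F χ + ∑ χ ∈ P C (true, false, true), (sg C χ : M) * F χ +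
      ∑ χ ∈ P C (true, false, false), (sg C χ : M) * F χ) ∧
    (∑ χ, (C.f 1 χ : M) * F χ = ∑ χ ∈ P C (true, true, true), (sg C χ : M) * F χ +
      ∑ χ ∈ P C (true, true, false), (sg C χ : M) * F χ + ∑ χ ∈ P C (false, true, true), (sg C χ : M) * F χ +
      ∑ χ ∈ P C (false, true, false), (sg C χ : M) * F χ) ∧
    (∑ χ, (C.f 2 χ : M) * F χ = ∑ χ ∈ P C (true, true, true), (sg C χ : M) * F χ +
      ∑ χ ∈ P C (true, false, true), (sg C χ : M) * F χ + ∑ χ ∈ P C (false, true, true), (sg C χ : M) * F χ +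
      ∑ χ ∈ P C (false, false, true), (sg C χ : M) * F χ) := by
  have hv : ∀ (k : Fin 3) (s : Pat), ∀ χ ∈ P C s, (C.f k χ : M) * F χ =
      if (![s.1, s.2.1, s.2.2] k) then (sg C χ : M) * F χ else 0 := by
    intro k s χ hχ
    obtain ⟨a, b, c⟩ := f_pat C hχ
    fin_cases k
    · show (C.f 0 χ : M) * F χ = if s.1 then _ else _
      rw [a]; split_ifs <;> simp
    · show (C.f 1 χ : M) * F χ = if s.2.1 then _ else _
      rw [b]; split_ifs <;> simp
    · show (C.f 2 χ : M) * F χ = if s.2.2 then _ else _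
      rw [c]; split_ifs <;> simp
  refine ⟨?_, ?_, ?_⟩ <;>
  · rw [← Finset.sum_fiberwise Finset.univ (pat C) _]
    change ∑ s, ∑ χ ∈ P C s, _ = _
    rw [Finset.sum_congr rfl fun s _ => Finset.sum_congr rfl (hv _ s)]
    simp [Fintype.sum_prod_type, Fintype.sum_bool]
    abel

/-- All class sizes in terms of the triple one. -/
theorem counts : (P C (true, true, true)).card ≤ 2 ∧
    (P C (true, true, false)).card + (P C (true, true, true)).card = 2 ∧
    (P C (true, false, true)).card + (P C (true, true, true)).card = 2 ∧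
    (P C (false, true, true)).card + (P C (true, true, true)).card = 2 ∧
    (P C (true, false, false)).card = (P C (true, true, true)).card ∧
    (P C (false, true, false)).card = (P C (true, true, true)).card ∧
    (P C (false, false, true)).card = (P C (true, true, true)).card := by
  have hrow : ∀ k, (∑ χ, (C.f k χ : ℤ) * C.f k χ) = 4 := fun k => by
    simpa [pow_two] using C.fnorm k
  have one : ∀ {s : Pat}, s ≠ (false, false, false) → ∀ k, (![s.1, s.2.1, s.2.2] k) = true →
      ∑ χ ∈ P C s, sg C χ * C.f k χ = (P C s).card := by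
    intro s hs k hk
    rw [Finset.sum_congr rfl (g := fun _ => (1 : ℤ)) fun χ hχ => ?_]
    · simp
    · obtain ⟨a, b, c⟩ := f_pat C hχ
      have e : C.f k χ = sg C χ := by
        fin_cases k <;> simp_all
      rw [e]
      rcases sg_unit C hs hχ with e | e <;> rw [e] <;> norm_num
  have zero : ∀ {s : Pat} (k), (![s.1, s.2.1, s.2.2] k) = false → ∑ χ ∈ P C s, sg C χ * C.f k χ = 0 := by
    intro s k hk
    refine Finset.sum_eq_zero fun χ hχ => ?_
    obtain ⟨a, b, c⟩ := f_pat C hχ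
    have e : C.f k χ = 0 := by fin_cases k <;> simp_all
    rw [e, mul_zero]
  obtain ⟨r0, -, -⟩ := row_sums C (C.f 0)
  obtain ⟨r01, r1, -⟩ := row_sums C (C.f 1)
  obtain ⟨r02, r12, r2⟩ := row_sums C (C.f 2)
  simp only [Int.cast_id] at r0 r01 r1 r02 r12 r2
  rw [hrow 0, one (by decide) 0 rfl, one (by decide) 0 rfl, one (by decide) 0 rfl, one (by decide) 0 rfl] at r0
  rw [hrow 1, one (by decide) 1 rfl, one (by decide) 1 rfl, one (by decide) 1 rfl, one (by decide) 1 rfl] at r1
  rw [hrow 2, one (by decide) 2 rfl, one (by decide) 2 rfl, one (by decide) 2 rfl, one (by decide) 2 rfl] at r2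
  rw [C.ff 0 1 (by decide), one (by decide) 1 rfl, one (by decide) 1 rfl, zero 1 rfl, zero 1 rfl] at r01
  rw [C.ff 0 2 (by decide), one (by decide) 2 rfl, zero 2 rfl, one (by decide) 2 rfl, zero 2 rfl] at r02
  rw [C.ff 1 2 (by decide), one (by decide) 2 rfl, zero 2 rfl, one (by decide) 2 rfl, zero 2 rfl] at r12
  omega

theorem w_ne {s : Pat} (hs : s ≠ (false, false, false)) : w C s ≠ 0 := by
  have := C.hQh
  have := C.hQ
  obtain ⟨a, b, c⟩ := s
  cases a <;> cases b <;> cases c <;> simp [w] at hs ⊢ <;> omega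

variable (hZ : ∀ i, ∑ χ, (C.z i χ : ℚ) * (C.v χ : ℚ) ^ 2 / C.d χ = 0)

include hZ in
/-- The value at `t`: the equations of the `z` make their contribution vanish. -/
theorem v_eq {s : Pat} (hs : s ≠ (false, false, false)) (hcard : (P C s).card ≤ 2) {χ : ι} (h : χ ∈ P C s) :
    C.v χ = sg C χ * w C s := by
  obtain ⟨k, hk⟩ := row_ne C hs h
  obtain ⟨a, b, c⟩ := f_pat C h
  have hv0 : C.f 0 χ + C.h * (C.f 1 χ + C.f 2 χ) = sg C χ * w C s := by
    rw [a, b, c, w]
    split_ifs <;> ring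
  have hv : C.v χ = sg C χ * w C s + (C.Q + 1) * ∑ i, C.z i χ := by
    rw [C.hv, C.yF k χ hk, ← hv0]; ring
  by_cases hz : ∀ i, C.z i χ = 0
  · rw [hv, Finset.sum_eq_zero fun i _ => hz i]; ring
  push Not at hz
  obtain ⟨i0, hi0⟩ := hz
  have hpart : ∀ i, C.z i χ ≠ 0 → ∃ χ', χ' ∈ P C s ∧ χ' ≠ χ ∧ C.z i χ' = -C.z i χ ∧ C.d χ' = C.d χ ∧
      sg C χ' = sg C χ ∧ ∀ ψ, ψ ≠ χ → ψ ≠ χ' → C.z i ψ = 0 := by
    intro i hi
    obtain ⟨χ', hne, hz', hd, hg⟩ := C.partner i hi
    have e := fun j => hg (C.f j) (C.zf i j)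
    refine ⟨χ', ?_, hne, hz', hd, ?_, fun ψ h1 h2 => ?_⟩
    · rw [mem_P] at h ⊢
      rw [← h]
      simp only [pat, e]
    · simp only [sg, e]
    · by_contra h0
      have hle := Finset.sum_le_sum_of_subset_of_nonneg (Finset.subset_univ ({ψ, χ, χ'} : Finset ι))
        fun j _ _ => sq_nonneg (C.z i j)
      rw [C.znorm, Finset.sum_insert (by simp [h1, h2]), Finset.sum_pair (Ne.symm hne), hz', neg_sq] at hle
      have := sq_pos_of_ne_zero h0
      have := sq_pos_of_ne_zero hi
      omega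
  obtain ⟨χ', hP', hne, hz', hd, hsg, hsup⟩ := hpart i0 hi0
  have huniq : ∀ ψ ∈ P C s, ψ = χ ∨ ψ = χ' := by
    intro ψ hψ
    by_contra hcon
    push Not at hcon
    have := Finset.card_le_card (show ({ψ, χ, χ'} : Finset ι) ⊆ P C s by
      simp [Finset.insert_subset_iff, hψ, h, hP'])
    rw [Finset.card_insert_of_notMem (by simp [hcon.1, hcon.2]), Finset.card_pair (Ne.symm hne)] at this
    omega
  have hopp : ∀ i, C.z i χ' = -C.z i χ := by
    intro i
    by_cases hi : C.z i χ = 0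
    · rw [hi, neg_zero]
      by_contra h0
      obtain ⟨χ'', hne'', hz'', -, hg⟩ := C.partner i h0
      have e := fun j => hg (C.f j) (C.zf i j)
      rcases huniq χ'' (by rw [mem_P] at hP' ⊢; rw [← hP']; simp only [pat, e]) with rfl | rfl
      · rw [hi] at hz''; omega
      · exact hne'' rfl
    · obtain ⟨χ'', hP'', hne'', hz'', -⟩ := hpart i hi
      rcases huniq χ'' hP'' with rfl | rfl
      · exact absurd rfl hne''
      · exact hz''
  have hv' : C.v χ' = sg C χ * w C s - (C.Q + 1) * ∑ i, C.z i χ := by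
    obtain ⟨a', b', c'⟩ := f_pat C hP'
    obtain ⟨k', hk'⟩ := row_ne C hs hP'
    rw [C.hv, C.yF k' χ' hk', Finset.sum_congr rfl fun i _ => hopp i, Finset.sum_neg_distrib, a', b', c', hsg, w]
    split_ifs <;> ring
  have heq := hZ i0
  rw [← Finset.sum_subset (Finset.subset_univ ({χ, χ'} : Finset ι)) fun ψ _ hψ => by
      simp only [Finset.mem_insert, Finset.mem_singleton, not_or] at hψ
      rw [hsup ψ hψ.1 hψ.2]; simp, Finset.sum_pair (Ne.symm hne), hz', hd] at heq
  have hd0 : (C.d χ : ℚ) ≠ 0 := Nat.cast_ne_zero.2 (C.dpos χ).ne'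
  have hsq : (C.v χ) ^ 2 = (C.v χ') ^ 2 := by
    have : (C.z i0 χ : ℚ) * ((C.v χ : ℚ) ^ 2 - (C.v χ' : ℚ) ^ 2) = 0 := by
      field_simp at heq
      push_cast at heq
      linear_combination heq
    have h2 := (mul_eq_zero.1 this).resolve_left (Int.cast_ne_zero.2 hi0)
    exact_mod_cast sub_eq_zero.1 h2
  rw [hv, hv'] at hsq
  have hsg0 : sg C χ * w C s ≠ 0 :=
    mul_ne_zero (by rcases sg_unit C hs h with e | e <;> rw [e] <;> norm_num) (w_ne C hs)
  have hQ1 : C.Q + 1 ≠ 0 := by have := C.hQ; omega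
  have hS : (sg C χ * w C s) * ((C.Q + 1) * ∑ i, C.z i χ) = 0 := by linarith
  rw [hv, (mul_eq_zero.1 hS).resolve_left hsg0, add_zero]

include hZ in
/-- The term of a character in an equation. -/
theorem term_eq {s : Pat} (hs : s ≠ (false, false, false)) (hcard : (P C s).card ≤ 2) {χ : ι} (h : χ ∈ P C s) :
    (sg C χ : ℚ) * ((C.v χ : ℚ) ^ 2 / C.d χ) = (w C s : ℚ) ^ 2 / (X C χ : ℚ) := by
  rw [← mul_div_assoc]
  exact signed_term (sg_unit C hs h) (v_eq C hZ hs hcard h) _

/-- The sum of `c θ` times the sign over a class. -/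
noncomputable def e (θ : Θ) (s : Pat) : ℤ := ∑ χ ∈ P C s, sg C χ * C.c θ χ

/-- The mass of `c θ` on a class. -/
noncomputable def m (θ : Θ) (s : Pat) : ℤ := ∑ χ ∈ P C s, C.c θ χ ^ 2

theorem e_le_m (θ : Θ) {s : Pat} (hs : s ≠ (false, false, false)) : -m C θ s ≤ e C θ s ∧ e C θ s ≤ m C θ s := by
  rw [m, ← Finset.sum_neg_distrib]
  constructor <;> refine Finset.sum_le_sum fun χ hχ => ?_ <;>
    rcases sg_unit C hs hχ with a | a <;> rcases C.c_unit θ χ with b | b | b <;> rw [a, b] <;> norm_num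

theorem e_par (θ : Θ) {s : Pat} (hs : s ≠ (false, false, false)) : (2 : ℤ) ∣ m C θ s - e C θ s := by
  rw [m, e, ← Finset.sum_sub_distrib]
  refine Finset.dvd_sum fun χ hχ => ?_
  rcases sg_unit C hs hχ with a | a <;> rcases C.c_unit θ χ with b | b | b <;> rw [a, b] <;> norm_num

/-- The linear conditions on the class sums. -/
theorem e_sums (θ : Θ) :
    e C θ (true, true, true) + e C θ (true, true, false) + e C θ (true, false, true) + e C θ (true, false, false) = 0 ∧
    e C θ (true, true, true) + e C θ (true, true, false) + e C θ (false, true, true) + e C θ (false, true, false) = 1 ∧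
    e C θ (true, true, true) + e C θ (true, false, true) + e C θ (false, true, true) + e C θ (false, false, true) = 1 ∧
    m C θ (true, true, true) + m C θ (true, true, false) + m C θ (true, false, true) + m C θ (false, true, true) +
      m C θ (true, false, false) + m C θ (false, true, false) + m C θ (false, false, true) ≤ 2 := by
  obtain ⟨r0, r1, r2⟩ := row_sums C (C.c θ)
  simp only [Int.cast_id] at r0 r1 r2
  have h0 := C.cf0 θ
  have h1 := C.cf1 θ
  have h2 := C.cf2 θ
  rw [Finset.sum_congr rfl fun χ _ => mul_comm _ _] at h0 h1 h2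
  refine ⟨?_, ?_, ?_, ?_⟩
  · rw [← h0, r0]; rfl
  · rw [← h1, r1]; rfl
  · rw [← h2, r2]; rfl
  · obtain ⟨E, p, hp, hcE, -, -, hfE, -, -, -⟩ := C.psi_E θ
    have hE : E ∈ P C (false, false, false) := by
      rw [mem_P]
      simp [pat, hfE]
    have h3 := C.cnorm θ
    rw [← Finset.sum_fiberwise Finset.univ (pat C) _] at h3
    change ∑ s, m C θ s = 3 at h3
    have h1E : 1 ≤ m C θ (false, false, false) := by
      refine le_trans ?_ (Finset.single_le_sum (f := fun χ => C.c θ χ ^ 2) (fun χ _ => sq_nonneg _) hE)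
      rcases hp with e | e <;> rw [hcE, e] <;> norm_num
    simp [Fintype.sum_prod_type, Fintype.sum_bool] at h3
    omega

theorem c_zero (θ : Θ) {s : Pat} (h : m C θ s = 0) {χ : ι} (hχ : χ ∈ P C s) : C.c θ χ = 0 :=
  sq_eq_zero_iff.1 ((Finset.sum_eq_zero_iff_of_nonneg fun χ _ => sq_nonneg (C.c θ χ)).1 h χ hχ)

/-- A class of mass one. -/
theorem single (θ : Θ) {s : Pat} (hs : s ≠ (false, false, false)) (hm : m C θ s ≤ 1)
    (he : e C θ s = 1 ∨ e C θ s = -1) :
    ∃ a ∈ P C s, C.c θ a = e C θ s * sg C a ∧ ∀ χ ∈ P C s, χ ≠ a → C.c θ χ = 0 := by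
  obtain ⟨a, ha, ha0⟩ : ∃ a ∈ P C s, C.c θ a ≠ 0 := by
    by_contra! hn
    have : e C θ s = 0 := Finset.sum_eq_zero fun χ hχ => by rw [hn χ hχ, mul_zero]
    omega
  have hrest : ∀ χ ∈ P C s, χ ≠ a → C.c θ χ = 0 := by
    intro χ hχ hne
    by_contra h0
    have hle := Finset.sum_le_sum_of_subset_of_nonneg (show ({χ, a} : Finset ι) ⊆ P C s by
      simp [Finset.insert_subset_iff, hχ, ha]) fun j _ _ => sq_nonneg (C.c θ j)
    rw [Finset.sum_pair hne] at hle
    have := sq_pos_of_ne_zero h0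
    have := sq_pos_of_ne_zero ha0
    unfold m at hm
    omega
  refine ⟨a, ha, ?_, hrest⟩
  have : e C θ s = sg C a * C.c θ a := by
    rw [e, Finset.sum_eq_single a (fun χ hχ hne => by rw [hrest χ hχ hne, mul_zero]) (fun h => absurd ha h)]
  rw [this]
  rcases sg_unit C hs ha with a' | a' <;> rw [a'] <;> ring

/-- A class of two with one distinguished member. -/
theorem pair_of {s : Pat} (h : (P C s).card = 2) {a : ι} (ha : a ∈ P C s) :
    ∃ b, b ≠ a ∧ P C s = {a, b} ∧ b ∈ P C s := by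
  obtain ⟨b, hb⟩ := Finset.card_eq_one.1 (show ((P C s).erase a).card = 1 by
    rw [Finset.card_erase_of_mem ha, h])
  have hb' : b ∈ (P C s).erase a := by rw [hb]; simp
  exact ⟨b, (Finset.mem_erase.1 hb').1, by rw [← Finset.insert_erase ha, hb], (Finset.mem_erase.1 hb').2⟩

theorem ne_of_pat {s s' : Pat} (hs : s ≠ s') {a b : ι} (ha : a ∈ P C s) (hb : b ∈ P C s') : a ≠ b := by
  rintro rfl
  exact hs ((mem_P C).1 ha ▸ (mem_P C).1 hb)

/-- The congruences at a character with constant coordinate. -/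
theorem cong {s : Pat} (hs : s ≠ (false, false, false)) {χ : ι} (hχ : χ ∈ P C s) (hv : C.v χ = sg C χ * w C s)
    (hc : ∀ θ, C.c θ χ = 0) : 4 * (C.h + 1) ∣ X C χ - w C s := by
  obtain ⟨k, hk⟩ := row_ne C hs hχ
  have h8 := C.cong8 χ
  have hb := C.congb χ k hk 0 hc
  rw [mul_zero, sub_zero] at hb
  rw [hv] at h8 hb
  have a8 := Coords.signed_dvd (sg_unit C hs hχ) h8
  have ab := Coords.signed_dvd (sg_unit C hs hχ) hb
  change (8 : ℤ) ∣ X C χ - w C s at a8
  change (C.b : ℤ) ∣ X C χ - w C s at ab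
  have hb6 := C.hb6
  have hh := C.hb
  have := C.hQh
  have h2 : IsCoprime (8 : ℤ) (C.b : ℤ) := by
    rw [Int.isCoprime_iff_gcd_eq_one]
    show Nat.gcd 8 C.b = 1
    exact (Nat.Coprime.pow_left 3 ((Nat.coprime_two_left).2 (Nat.odd_iff.2 (by omega)))).gcd_eq_one
  have := h2.mul_dvd a8 ab
  have e : 4 * (C.h + 1) = 8 * (C.b : ℤ) ∨ 4 * (C.h + 1) = -(8 * (C.b : ℤ)) := by omega
  rcases e with e | e <;> rw [e]
  · exact this
  · exact Int.neg_dvd.2 this

theorem eight {s : Pat} (hs : s ≠ (false, false, false)) {χ : ι} (hχ : χ ∈ P C s) (hv : C.v χ = sg C χ * w C s) :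
    (8 : ℤ) ∣ X C χ - w C s := by
  have h8 := C.cong8 χ
  rw [hv] at h8
  exact Coords.signed_dvd (sg_unit C hs hχ) h8

theorem deg_one {χ : ι} {s : Pat} (hs : s ≠ (false, false, false)) (hχ : χ ∈ P C s) (hX : X C χ = 1) :
    C.d χ = 1 ∧ ∃ k, C.f k χ ≠ 0 := by
  refine ⟨?_, row_ne C hs hχ⟩
  rw [X] at hX
  rcases sg_unit C hs hχ with e | e <;> rw [e] at hX <;> omega

include hZ in
/-- `Ψ` cannot be concentrated on a character of the pattern `(0, 1, 1)`. -/
theorem centre_false {θ : Θ} {z : ι} (hz : z ∈ P C (false, true, true))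
    (hcard : (P C (false, true, true)).card ≤ 2) (hcz : C.c θ z = sg C z)
    (rest : ∀ χ k, C.f k χ ≠ 0 → χ ≠ z → C.c θ χ = 0) : False := by
  obtain ⟨fz0, fz1, fz2⟩ := f_pat C hz
  simp only [Bool.false_eq_true, if_false, if_true] at fz0 fz1 fz2
  have hs : ((false, true, true) : Pat) ≠ (false, false, false) := by decide
  have sz := sg_unit C hs hz
  have pz : C.f 1 z ≠ 0 := by rw [fz1]; omega
  have vz : C.v z = sg C z * (2 * C.h) := by
    rw [v_eq C hZ hs hcard hz]; simp [w]; ring_nf; tauto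
  obtain ⟨E, p, hp, hcE, hTE, hvE, hfE, hzE, hTsupp, -⟩ := C.psi_E θ
  have hEz : E ≠ z := fun e => pz (e ▸ hfE 1)
  obtain ⟨β, hβ, hβE, hβz⟩ : ∃ β, C.c θ β ≠ 0 ∧ β ≠ E ∧ β ≠ z := by
    by_contra! hcon
    have h3 := C.cnorm θ
    rw [← Finset.sum_subset (Finset.subset_univ ({E, z} : Finset ι)) fun χ _ hχ => ?_, Finset.sum_pair hEz,
      hcE, hcz] at h3
    · rcases hp with e | e <;> rcases sz with e' | e' <;> rw [e, e'] at h3 <;> norm_num at h3
    · simp only [Finset.mem_insert, Finset.mem_singleton, not_or] at hχ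
      by_contra h0
      exact hχ.2 (hcon χ (fun e => h0 (by rw [e]; rfl)) hχ.1)
  have fβ : ∀ k, C.f k β = 0 := fun k => by
    by_contra h0
    exact hβ (rest β k h0 hβz)
  have hcz0 : C.c θ z ≠ 0 := by rw [hcz]; omega
  obtain ⟨hout, hsum⟩ := C.c_three (θ := θ) hβE hβz hEz hβ (by rw [hcE]; omega) hcz0
  have hzβ : ∀ i, C.z i β = 0 := by
    intro i
    by_contra h
    obtain ⟨χ', hne', hz', -, hg⟩ := C.partner i h
    have g1 := hg (C.f 1) (C.zf i 1)
    have gc := hg (C.c θ) (by rw [← C.cz θ i]; exact Finset.sum_congr rfl fun χ _ => mul_comm _ _)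
    by_cases e : χ' = E
    · rw [e, hzE] at hz'; omega
    by_cases e' : χ' = z
    · rw [e', fβ] at g1; exact pz g1
    rw [hout χ' hne' e e'] at gc
    exact hβ gc.symm
  have hyβ : C.yS β = 0 := by
    by_contra h
    obtain ⟨φ, hφ⟩ := C.ysup β h
    have hTθ : C.T θ 0 β = 0 := by
      by_contra h0
      exact hβ (hTsupp β h0 hβE)
    rcases C.cTT θ φ with hsub | ⟨hdot, hdis⟩
    · exact hsub β hφ hTθ
    · have := hsum (M := ℤ) (C.T φ 0)
      simp only [Int.cast_id] at this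
      rw [hdot, hdis E (by rw [hTE]; omega)] at this
      have hz0 : C.T φ 0 z = 0 := by
        by_contra h0
        exact pz (C.fT 1 φ z h0)
      rw [hz0] at this
      simp only [mul_zero, add_zero] at this
      exact mul_ne_zero hβ hφ this.symm
  have vβ : C.v β = 0 := by
    rw [C.hv, fβ, fβ, fβ, hyβ, Finset.sum_eq_zero fun i _ => hzβ i]; ring
  have hd := hsum (M := ℤ) (fun χ => (C.d χ : ℤ))
  simp only [Int.cast_id] at hd
  rw [C.cdeg, hcE, hcz] at hd
  have hq := hsum (M := ℚ) (fun χ => (C.v χ : ℚ) ^ 2 / C.d χ)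
  simp only [← mul_div_assoc] at hq
  rw [C.eqC, hcE, hcz, vβ, signed_term hp (show C.v E = p * (1 - C.Q) by rw [hvE]; ring),
    signed_term sz vz] at hq
  have hpE : ((p * C.d E : ℤ) : ℚ) ≠ 0 :=
    Int.cast_ne_zero.2 (mul_ne_zero (by omega) (by have := C.dpos E; omega))
  have hW0 : ((sg C z * C.d z : ℤ) : ℚ) ≠ 0 := Int.cast_ne_zero.2 (X_ne C hs hz)
  generalize hk : p * (C.d E : ℤ) = k at hd hq hpE
  generalize hW : sg C z * (C.d z : ℤ) = W at hd hq hW0
  push_cast at hq
  have hh0 : (C.h : ℚ) ≠ 0 := Int.cast_ne_zero.2 C.h_ne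
  have hkW : k + W = 0 := by
    have : ((k : ℚ) + W) = 0 := by
      rw [show (1 : ℚ) - C.Q = -(2 * C.h) by rw [C.hQh]; push_cast; ring] at hq
      field_simp at hq
      apply mul_left_cancel₀ (mul_ne_zero four_ne_zero (pow_ne_zero 2 hh0))
      linear_combination -hq
    exact_mod_cast this
  have hd0 : C.c θ β * (C.d β : ℤ) = 0 := by linarith only [hd, hkW]
  rcases mul_eq_zero.1 hd0 with h | h
  · exact hβ h
  · exact (C.dpos β).ne' (Int.natCast_eq_zero.1 h)

variable {n : ℕ} (hn : C.Q = 3 ^ n) (hQ27 : 27 ≤ C.Q)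
  (hK : C.kap = ((C.Q : ℚ) ^ 2 - 1) / (C.Q * ((C.Q : ℚ) ^ 2 - C.Q + 1)))

include hZ hQ27 hK in
/-- Two characters in each single class, the first pairing. -/
theorem two_main (hτ : (P C (true, true, true)).card = 2) {θ : Θ} {x2 x4 : ι}
    (h2 : x2 ∈ P C (true, false, false)) (h4 : x4 ∈ P C (true, true, true))
    (c2 : C.c θ x2 = -sg C x2) (c4 : C.c θ x4 = sg C x4) : ∃ χ, C.d χ = 1 ∧ ∃ k, C.f k χ ≠ 0 := by
  obtain ⟨-, n110, n101, -, n100, -, -⟩ := counts C
  obtain ⟨x1, h12, e100, h1⟩ := pair_of C (n100.trans hτ) h2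
  obtain ⟨x3, h34, e111, h3⟩ := pair_of C hτ h4
  have s100 : ((true, false, false) : Pat) ≠ (false, false, false) := by decide
  have s111 : ((true, true, true) : Pat) ≠ (false, false, false) := by decide
  have z110 : P C (true, true, false) = ∅ := Finset.card_eq_zero.1 (by omega)
  have z101 : P C (true, false, true) = ∅ := Finset.card_eq_zero.1 (by omega)
  obtain ⟨f20, -, -⟩ := f_pat C h2
  obtain ⟨f40, -, -⟩ := f_pat C h4
  simp only [if_true] at f20 f40
  have u2 := sg_unit C s100 h2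
  have u4 := sg_unit C s111 h4
  have h24 : x2 ≠ x4 := ne_of_pat C (by decide) h2 h4
  obtain ⟨E, k, hk0, -, -, -, hd, heq, hY⟩ := C.psi_three h24 (θ := θ) (by rw [c2]; omega) (by rw [c4]; omega)
    (ka := 0) (kb := 0) (by rw [f20]; omega) (by rw [f40]; omega)
  have w100 : w C (true, false, false) = 1 := by simp [w]
  have w111 : w C (true, true, true) = C.Q := by rw [C.hQh]; simp [w]; ring
  have cd100 : (P C (true, false, false)).card ≤ 2 := by omega
  have cd111 : (P C (true, true, true)).card ≤ 2 := by omega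
  have dsum := (row_sums C (fun χ => (C.d χ : ℤ))).1
  simp only [Int.cast_id, C.fdeg, z110, z101, Finset.sum_empty, add_zero, e100, e111,
    Finset.sum_pair (Ne.symm h12), Finset.sum_pair (Ne.symm h34)] at dsum
  have qsum := (row_sums C (fun χ => (C.v χ : ℚ) ^ 2 / C.d χ)).1
  simp only [z110, z101, Finset.sum_empty, add_zero, e100, e111, Finset.sum_pair (Ne.symm h12),
    Finset.sum_pair (Ne.symm h34), term_eq C hZ s100 cd100 h1, term_eq C hZ s100 cd100 h2,
    term_eq C hZ s111 cd111 h3, term_eq C hZ s111 cd111 h4, w100, w111, Int.cast_one, one_pow] at qsum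
  simp only [← mul_div_assoc, C.eqF0] at qsum
  change 0 = X C x4 + X C x3 + (X C x2 + X C x1) at dsum
  have hk : k = X C x2 - X C x4 := by
    rw [c2, c4] at hd
    simp only [X]
    linarith
  have n24 : X C x2 ≠ X C x4 := fun e => hk0 (by rw [hk, e, sub_self])
  rw [c2, c4, Int.cast_neg, neg_mul, neg_div,
    signed_term u2 (v_eq C hZ s100 cd100 h2), signed_term u4 (v_eq C hZ s111 cd111 h4), w100, w111] at heq
  refine ⟨x1, deg_one C s100 h1 ?_⟩
  refine BlockArith.main_block (x2 := X C x2) (x3 := X C x3) (x4 := X C x4) (by omega) C.hQ8 hK (X_ne C s100 h1)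
    (X_ne C s100 h2) (X_ne C s111 h3) (X_ne C s111 h4) n24 (by linarith) ?_ ?_ ?_ ?_
  · have := eight C s100 h1 (v_eq C hZ s100 cd100 h1)
    rwa [w100] at this
  · change -(((1 : ℤ) : ℚ) ^ 2 / ((X C x2 : ℤ) : ℚ)) + _ / ((X C x4 : ℤ) : ℚ) + _ = 0 at heq
    rw [← heq, hk]
    push_cast
    ring
  · rw [hY, hk]; push_cast; rfl
  · rw [qsum]; ring

include hZ hQ27 hK in
/-- Two characters in each single class, the second pairing. -/
theorem two_alt (hτ : (P C (true, true, true)).card = 2) {θ : Θ} {x5 x7 : ι}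
    (h5 : x5 ∈ P C (false, true, false)) (h7 : x7 ∈ P C (false, false, true))
    (c5 : C.c θ x5 = sg C x5) (c7 : C.c θ x7 = sg C x7)
    (hc1 : ∀ φ, ∀ χ ∈ P C (true, false, false), C.c φ χ = 0)
    (hc6 : ∀ φ, ∀ χ ∈ P C (false, true, false), χ ≠ x5 → C.c φ χ = 0) :
    ∃ χ, C.d χ = 1 ∧ ∃ k, C.f k χ ≠ 0 := by
  obtain ⟨-, n110, n101, n011, n100, n010, n001⟩ := counts C
  obtain ⟨x1, x2, h12, e100⟩ := Finset.card_eq_two.1 (n100.trans hτ)
  obtain ⟨x3, x4, h34, e111⟩ := Finset.card_eq_two.1 hτ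
  obtain ⟨x6, h56, e010, h6⟩ := pair_of C (n010.trans hτ) h5
  obtain ⟨x8, h78, e001, h8⟩ := pair_of C (n001.trans hτ) h7
  have h1 : x1 ∈ P C (true, false, false) := by rw [e100]; simp
  have h2 : x2 ∈ P C (true, false, false) := by rw [e100]; simp
  have h3 : x3 ∈ P C (true, true, true) := by rw [e111]; simp
  have h4 : x4 ∈ P C (true, true, true) := by rw [e111]; simp
  have s100 : ((true, false, false) : Pat) ≠ (false, false, false) := by decide
  have s010 : ((false, true, false) : Pat) ≠ (false, false, false) := by decide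
  have s001 : ((false, false, true) : Pat) ≠ (false, false, false) := by decide
  have s111 : ((true, true, true) : Pat) ≠ (false, false, false) := by decide
  have z110 : P C (true, true, false) = ∅ := Finset.card_eq_zero.1 (by omega)
  have z101 : P C (true, false, true) = ∅ := Finset.card_eq_zero.1 (by omega)
  have z011 : P C (false, true, true) = ∅ := Finset.card_eq_zero.1 (by omega)
  obtain ⟨-, f51, -⟩ := f_pat C h5
  obtain ⟨-, -, f72⟩ := f_pat C h7
  simp only [if_true] at f51 f72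
  have u5 := sg_unit C s010 h5
  have u7 := sg_unit C s001 h7
  have h57 : x5 ≠ x7 := ne_of_pat C (by decide) h5 h7
  obtain ⟨E, k, hk0, -, -, -, hd, heq, hY⟩ := C.psi_three h57 (θ := θ) (by rw [c5]; omega) (by rw [c7]; omega)
    (ka := 1) (kb := 2) (by rw [f51]; omega) (by rw [f72]; omega)
  have w100 : w C (true, false, false) = 1 := by simp [w]
  have w010 : w C (false, true, false) = C.h := by simp [w]
  have w001 : w C (false, false, true) = C.h := by simp [w]
  have w111 : w C (true, true, true) = C.Q := by rw [C.hQh]; simp [w]; ring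
  have cd100 : (P C (true, false, false)).card ≤ 2 := by omega
  have cd010 : (P C (false, true, false)).card ≤ 2 := by omega
  have cd001 : (P C (false, false, true)).card ≤ 2 := by omega
  have cd111 : (P C (true, true, true)).card ≤ 2 := by omega
  obtain ⟨q1, q2, -⟩ := row_sums C (fun χ => (C.v χ : ℚ) ^ 2 / C.d χ)
  simp only [z110, z101, z011, Finset.sum_empty, add_zero, e100, e111, e010, Finset.sum_pair h12,
    Finset.sum_pair h34, Finset.sum_pair (Ne.symm h56), term_eq C hZ s100 cd100 h1, term_eq C hZ s100 cd100 h2,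
    term_eq C hZ s111 cd111 h3, term_eq C hZ s111 cd111 h4, term_eq C hZ s010 cd010 h5,
    term_eq C hZ s010 cd010 h6, w100, w111, w010, Int.cast_one, one_pow] at q1 q2
  simp only [← mul_div_assoc, C.eqF0, C.eqF1] at q1 q2
  have hk : k = -(X C x5 + X C x7) := by
    rw [c5, c7] at hd
    simp only [X]
    linarith
  rw [c5, c7, signed_term u5 (v_eq C hZ s010 cd010 h5), signed_term u7 (v_eq C hZ s001 cd001 h7), w010, w001] at heq
  have hh := C.h_mod
  have hQh := C.hQh
  have h57' : X C x5 + X C x7 ≠ 0 := fun e => hk0 (by rw [hk, e]; rfl)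
  have hw : X C x5 = X C x7 := by
    have hhq : (C.Q : ℚ) - 1 = 2 * C.h := by rw [C.hQh]; push_cast; ring
    have h0 := three_term (a := (C.h : ℚ)) (b := C.h) (u := (X C x5 : ℚ)) (v := X C x7)
      (Int.cast_ne_zero.2 (X_ne C s010 h5)) (Int.cast_ne_zero.2 (X_ne C s001 h7)) (by exact_mod_cast h57') (by
        rw [hk, hhq] at heq
        change (C.h : ℚ) ^ 2 / ((X C x5 : ℤ) : ℚ) + (C.h : ℚ) ^ 2 / ((X C x7 : ℤ) : ℚ) + _ = 0 at heq
        rw [← heq]; push_cast; rw [div_neg]; ring)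
    exact_mod_cast (mul_left_cancel₀ (Int.cast_ne_zero.2 C.h_ne) h0 : (X C x5 : ℚ) = X C x7)
  have cg : ∀ {s : Pat} {χ : ι}, s ≠ (false, false, false) → χ ∈ P C s → (P C s).card ≤ 2 →
      (∀ φ, C.c φ χ = 0) → 4 * (C.h + 1) ∣ X C χ - w C s := fun hs hχ hcd hc =>
    cong C hs hχ (v_eq C hZ hs hcd hχ) hc
  have g1 := cg s100 h1 cd100 fun φ => hc1 φ x1 h1
  have g2 := cg s100 h2 cd100 fun φ => hc1 φ x2 h2
  have g6 := cg s010 h6 cd010 fun φ => hc6 φ x6 h6 h56
  rw [w100] at g1 g2
  rw [w010] at g6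
  rcases BlockArith.alt_block (x3 := X C x3) (x4 := X C x4) (w := X C x5) (y := X C x6) hQh (by omega) (by omega) hK
    (X_ne C s100 h1) (X_ne C s100 h2) (X_ne C s010 h5) (X_ne C s010 h6) g1 g2 g6
    (by rw [hY, hk, ← hw]; push_cast; ring) (by rw [q1]; ring) (by rw [q2]; ring) with h | h
  · exact ⟨x1, deg_one C s100 h1 h⟩
  · exact ⟨x2, deg_one C s100 h2 h⟩

include hZ hQ27 hK in
/-- One character in each class: the pairing with the first row is impossible. -/
theorem seven_first (hτ : (P C (true, true, true)).card = 1) {θ : Θ} {x a : ι}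
    (hx : x ∈ P C (true, false, false)) (ha : a ∈ P C (true, true, true))
    (cx : C.c θ x = -sg C x) (ca : C.c θ a = sg C a) : False := by
  obtain ⟨-, n110, n101, -, n100, -, -⟩ := counts C
  obtain ⟨b, e110⟩ := Finset.card_eq_one.1 (show (P C (true, true, false)).card = 1 by omega)
  obtain ⟨b', e101⟩ := Finset.card_eq_one.1 (show (P C (true, false, true)).card = 1 by omega)
  obtain ⟨x', e100⟩ := Finset.card_eq_one.1 (n100.trans hτ)
  obtain ⟨a', e111⟩ := Finset.card_eq_one.1 hτ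
  obtain rfl : x = x' := by rw [e100] at hx; simpa using hx
  obtain rfl : a = a' := by rw [e111] at ha; simpa using ha
  have hb : b ∈ P C (true, true, false) := by rw [e110]; simp
  have hb' : b' ∈ P C (true, false, true) := by rw [e101]; simp
  have s100 : ((true, false, false) : Pat) ≠ (false, false, false) := by decide
  have s110 : ((true, true, false) : Pat) ≠ (false, false, false) := by decide
  have s101 : ((true, false, true) : Pat) ≠ (false, false, false) := by decide
  have s111 : ((true, true, true) : Pat) ≠ (false, false, false) := by decide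
  have w100 : w C (true, false, false) = 1 := by simp [w]
  have w110 : w C (true, true, false) = C.h + 1 := by simp [w]; ring
  have w101 : w C (true, false, true) = C.h + 1 := by simp [w]; ring
  have w111 : w C (true, true, true) = C.Q := by rw [C.hQh]; simp [w]; ring
  have cd100 : (P C (true, false, false)).card ≤ 2 := by omega
  have cd110 : (P C (true, true, false)).card ≤ 2 := by omega
  have cd101 : (P C (true, false, true)).card ≤ 2 := by omega
  have cd111 : (P C (true, true, true)).card ≤ 2 := by omega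
  obtain ⟨fx, -, -⟩ := f_pat C hx
  obtain ⟨fa, -, -⟩ := f_pat C ha
  simp only [if_true] at fx fa
  have ux := sg_unit C s100 hx
  have ua := sg_unit C s111 ha
  obtain ⟨E, k, hk0, -, -, -, hd, heq, hY⟩ := C.psi_three (ne_of_pat C (by decide) hx ha) (θ := θ)
    (by rw [cx]; omega) (by rw [ca]; omega) (ka := 0) (kb := 0) (by rw [fx]; omega) (by rw [fa]; omega)
  have dsum := (row_sums C (fun χ => (C.d χ : ℤ))).1
  simp only [Int.cast_id, C.fdeg, e110, e101, e100, e111, Finset.sum_singleton] at dsum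
  change 0 = X C a + X C b + X C b' + X C x at dsum
  have qsum := (row_sums C (fun χ => (C.v χ : ℚ) ^ 2 / C.d χ)).1
  simp only [e110, e101, e100, e111, Finset.sum_singleton, term_eq C hZ s100 cd100 hx,
    term_eq C hZ s110 cd110 hb, term_eq C hZ s101 cd101 hb', term_eq C hZ s111 cd111 ha, w100, w110, w101,
    w111] at qsum
  simp only [← mul_div_assoc, C.eqF0] at qsum
  push_cast at qsum
  have hk : k = X C x - X C a := by
    rw [cx, ca] at hd
    simp only [X]
    linarith
  rw [cx, ca, Int.cast_neg, neg_mul, neg_div,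
    signed_term ux (v_eq C hZ s100 cd100 hx), signed_term ua (v_eq C hZ s111 cd111 ha), w100, w111] at heq
  have mx : (X C x : ℚ) ≠ 0 := Int.cast_ne_zero.2 (X_ne C s100 hx)
  have ma : (X C a : ℚ) ≠ 0 := Int.cast_ne_zero.2 (X_ne C s111 ha)
  have mb : (X C b : ℚ) ≠ 0 := Int.cast_ne_zero.2 (X_ne C s110 hb)
  have mb' : (X C b' : ℚ) ≠ 0 := Int.cast_ne_zero.2 (X_ne C s101 hb')
  have mxa : (X C x : ℚ) - X C a ≠ 0 :=
    sub_ne_zero.2 (Int.cast_injective.ne fun e => hk0 (by rw [hk, e, sub_self]))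
  have ea : (X C a : ℚ) = C.Q * X C x := by
    have := three_term (a := -1) (b := (C.Q : ℚ)) (u := -(X C x : ℚ)) (v := X C a) (neg_ne_zero.2 mx) ma
      (by intro e; exact mxa (by linear_combination -e)) (by
        change -(((1 : ℤ) : ℚ) ^ 2 / ((X C x : ℤ) : ℚ)) + _ / ((X C a : ℤ) : ℚ) + _ = 0 at heq
        rw [hk] at heq
        push_cast at heq
        rw [show -(X C x : ℚ) + X C a = -(X C x - X C a) by ring, div_neg, div_neg, neg_one_sq]
        linear_combination heq)
    linarith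
  have q0 : (C.Q : ℚ) ≠ 0 := Int.cast_ne_zero.2 (by omega)
  have q1 : (C.Q : ℚ) + 1 ≠ 0 := C.qne
  have q1' : (C.Q : ℚ) - 1 ≠ 0 := by exact_mod_cast (show C.Q - 1 ≠ 0 by omega)
  have hkq : 0 < C.Q ^ 2 - C.Q + 1 := by nlinarith
  have hkq0 : (C.Q : ℚ) ^ 2 - C.Q + 1 ≠ 0 := by exact_mod_cast hkq.ne'
  have ex : (X C x : ℚ) = -((C.Q : ℚ) ^ 2 - C.Q + 1) := by
    have h' := hY
    rw [hK, hk] at h'
    push_cast at h'
    obtain ⟨kq, hkq'⟩ : ∃ kq : ℚ, (C.Q : ℚ) ^ 2 - C.Q + 1 = kq := ⟨_, rfl⟩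
    rw [hkq', ea, show (X C x : ℚ) - C.Q * X C x = -((C.Q - 1) * X C x) by ring] at h'
    rw [hkq'] at hkq0 ⊢
    field_simp at h'
    apply mul_left_cancel₀ q1
    apply mul_left_cancel₀ q1'
    linear_combination h'
  set B := X C b
  set B' := X C b'
  set k' := C.Q ^ 2 - C.Q + 1 with hk'
  have hsum : B + B' = (C.Q + 1) * k' := by
    have e1 : X C x = -k' := by rw [hk']; exact_mod_cast ex
    have e2 : X C a = C.Q * X C x := by exact_mod_cast ea
    rw [e2, e1] at dsum
    linarith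
  have hprod : 4 * (B * B') = (C.Q + 1) ^ 2 * C.Q * k' := by
    have hsum' : (B : ℚ) + B' = ((C.Q : ℚ) + 1) * k' := by exact_mod_cast hsum
    have hk'c : ((k' : ℤ) : ℚ) = (C.Q : ℚ) ^ 2 - C.Q + 1 := by rw [hk']; push_cast; ring
    have hh : (C.h : ℚ) + 1 = ((C.Q : ℚ) + 1) / 2 := by rw [C.hQh]; push_cast; ring
    rw [hK, ea, ex, ← hk'c, hh] at qsum
    rw [← hk'c] at hkq0
    field_simp at qsum
    have hz : (4 * (B * B') : ℚ) = ((C.Q : ℚ) + 1) ^ 2 * C.Q * k' := by
      apply mul_left_cancel₀ (mul_ne_zero q1 hkq0)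
      linear_combination qsum + ((C.Q : ℚ) * k' * ((C.Q : ℚ) + 1) ^ 2) * hsum' +
        (4 * ((B : ℚ) * B') * ((C.Q : ℚ) + 1)) * hk'c
    exact_mod_cast hz
  have hsq : ((C.Q + 1) * (C.Q - 1)) ^ 2 * k' = (B - B') ^ 2 := by
    linear_combination hprod - (B + B' + (C.Q + 1) * k') * hsum + (C.Q + 1) ^ 2 * k' * hk'
  obtain ⟨m, hm⟩ : ((C.Q + 1) * (C.Q - 1)) ∣ B - B' :=
    (Int.pow_dvd_pow_iff two_ne_zero).1 ⟨k', hsq.symm⟩
  rw [hm, mul_pow _ m] at hsq
  have hm2 : k' = m ^ 2 :=
    mul_left_cancel₀ (pow_ne_zero 2 (mul_ne_zero (show C.Q + 1 ≠ 0 by omega) (show C.Q - 1 ≠ 0 by omega))) hsq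
  rcases le_or_gt |m| (C.Q - 1) with h | h
  · have := mul_le_mul h h (abs_nonneg m) (by omega)
    rw [abs_mul_abs_self] at this
    nlinarith
  · have := mul_le_mul (show C.Q ≤ |m| by omega) (show C.Q ≤ |m| by omega) (by omega) (abs_nonneg m)
    rw [abs_mul_abs_self] at this
    nlinarith

include hZ hQ27 hK hn in
/-- One character in each class, the last pairing. -/
theorem seven_last (hτ : (P C (true, true, true)).card = 1)
    (hc1 : ∀ φ, ∀ χ ∈ P C (true, false, false), C.c φ χ = 0)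
    (hca : ∀ φ, ∀ χ ∈ P C (true, true, true), C.c φ χ = 0)
    {θ : Θ} {c c' : ι} (hc : c ∈ P C (false, true, false)) (hc' : c' ∈ P C (false, false, true))
    (cc : C.c θ c = sg C c) (cc' : C.c θ c' = sg C c') : ∃ χ, C.d χ = 1 ∧ ∃ k, C.f k χ ≠ 0 := by
  obtain ⟨-, n110, n101, n011, n100, n010, n001⟩ := counts C
  obtain ⟨x, e100⟩ := Finset.card_eq_one.1 (n100.trans hτ)
  obtain ⟨a, e111⟩ := Finset.card_eq_one.1 hτ
  obtain ⟨b, e110⟩ := Finset.card_eq_one.1 (show (P C (true, true, false)).card = 1 by omega)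
  obtain ⟨b', e101⟩ := Finset.card_eq_one.1 (show (P C (true, false, true)).card = 1 by omega)
  obtain ⟨z, e011⟩ := Finset.card_eq_one.1 (show (P C (false, true, true)).card = 1 by omega)
  obtain ⟨c0, e010⟩ := Finset.card_eq_one.1 (n010.trans hτ)
  obtain ⟨c0', e001⟩ := Finset.card_eq_one.1 (n001.trans hτ)
  obtain rfl : c = c0 := by rw [e010] at hc; simpa using hc
  obtain rfl : c' = c0' := by rw [e001] at hc'; simpa using hc'
  have hx : x ∈ P C (true, false, false) := by rw [e100]; simp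
  have ha : a ∈ P C (true, true, true) := by rw [e111]; simp
  have hb : b ∈ P C (true, true, false) := by rw [e110]; simp
  have hb' : b' ∈ P C (true, false, true) := by rw [e101]; simp
  have s100 : ((true, false, false) : Pat) ≠ (false, false, false) := by decide
  have s110 : ((true, true, false) : Pat) ≠ (false, false, false) := by decide
  have s101 : ((true, false, true) : Pat) ≠ (false, false, false) := by decide
  have s111 : ((true, true, true) : Pat) ≠ (false, false, false) := by decide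
  have s010 : ((false, true, false) : Pat) ≠ (false, false, false) := by decide
  have s001 : ((false, false, true) : Pat) ≠ (false, false, false) := by decide
  have w100 : w C (true, false, false) = 1 := by simp [w]
  have w110 : w C (true, true, false) = C.h + 1 := by simp [w]; ring
  have w101 : w C (true, false, true) = C.h + 1 := by simp [w]; ring
  have w111 : w C (true, true, true) = C.Q := by rw [C.hQh]; simp [w]; ring
  have w010 : w C (false, true, false) = C.h := by simp [w]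
  have w001 : w C (false, false, true) = C.h := by simp [w]
  have cd : ∀ {s : Pat}, (P C s).card = 1 → (P C s).card ≤ 2 := fun h => by omega
  have cdx := cd (n100.trans hτ)
  have cda := cd hτ
  have cdb : (P C (true, true, false)).card ≤ 2 := by omega
  have cdb' : (P C (true, false, true)).card ≤ 2 := by omega
  have cdc : (P C (false, true, false)).card ≤ 2 := by omega
  have cdc' : (P C (false, false, true)).card ≤ 2 := by omega
  obtain ⟨-, fc, -⟩ := f_pat C hc
  obtain ⟨-, -, fc'⟩ := f_pat C hc'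
  simp only [if_true] at fc fc'
  have uc := sg_unit C s010 hc
  have uc' := sg_unit C s001 hc'
  obtain ⟨E, k, hk0, -, -, -, hd, heq, -⟩ := C.psi_three (ne_of_pat C (by decide) hc hc') (θ := θ)
    (by rw [cc]; omega) (by rw [cc']; omega) (ka := 1) (kb := 2) (by rw [fc]; omega) (by rw [fc']; omega)
  obtain ⟨d1, d2, d3⟩ := row_sums C (fun χ => (C.d χ : ℤ))
  simp only [Int.cast_id, C.fdeg, e110, e101, e100, e111, e011, e010, e001, Finset.sum_singleton] at d1 d2 d3
  change 0 = X C a + X C b + X C b' + X C x at d1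
  change 0 = X C a + X C b + X C z + X C c at d2
  change 0 = X C a + X C b' + X C z + X C c' at d3
  have qsum := (row_sums C (fun χ => (C.v χ : ℚ) ^ 2 / C.d χ)).1
  simp only [e110, e101, e100, e111, Finset.sum_singleton, term_eq C hZ s100 cdx hx,
    term_eq C hZ s110 cdb hb, term_eq C hZ s101 cdb' hb', term_eq C hZ s111 cda ha, w100, w110, w101, w111] at qsum
  simp only [← mul_div_assoc, C.eqF0] at qsum
  push_cast at qsum
  have hk : k = -(X C c + X C c') := by
    rw [cc, cc'] at hd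
    simp only [X]
    linarith
  rw [cc, cc', signed_term uc (v_eq C hZ s010 cdc hc), signed_term uc' (v_eq C hZ s001 cdc' hc'), w010, w001] at heq
  have hCC : X C c = X C c' := by
    have hhq : (C.Q : ℚ) - 1 = 2 * C.h := by rw [C.hQh]; push_cast; ring
    have hcc : X C c + X C c' ≠ 0 := fun e => hk0 (by rw [hk, e]; rfl)
    have h0 := three_term (a := (C.h : ℚ)) (b := C.h) (u := (X C c : ℚ)) (v := X C c')
      (Int.cast_ne_zero.2 (X_ne C s010 hc)) (Int.cast_ne_zero.2 (X_ne C s001 hc')) (by exact_mod_cast hcc) (by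
        rw [hk, hhq] at heq
        change (C.h : ℚ) ^ 2 / ((X C c : ℤ) : ℚ) + (C.h : ℚ) ^ 2 / ((X C c' : ℤ) : ℚ) + _ = 0 at heq
        rw [← heq]; push_cast; rw [div_neg]; ring)
    exact_mod_cast (mul_left_cancel₀ (Int.cast_ne_zero.2 C.h_ne) h0 : (X C c : ℚ) = X C c')
  have hBB : X C b = X C b' := by linarith
  have gx := cong C s100 hx (v_eq C hZ s100 cdx hx) fun φ => hc1 φ x hx
  have ga := cong C s111 ha (v_eq C hZ s111 cda ha) fun φ => hca φ a ha
  rw [w100] at gx
  rw [w111] at ga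
  have hQh := C.hQh
  have hdvd : 2 * (C.Q + 1) ∣ X C a - C.Q * X C x := by
    rw [show 2 * (C.Q + 1) = 4 * (C.h + 1) by omega,
      show X C a - C.Q * X C x = (X C a - C.Q) - C.Q * (X C x - 1) by ring]
    exact dvd_sub ga (Dvd.dvd.mul_left gx _)
  have g8 := eight C s100 hx (v_eq C hZ s100 cdx hx)
  rw [w100] at g8
  refine ⟨x, deg_one C s100 hx ?_⟩
  have mx : (X C x : ℚ) ≠ 0 := Int.cast_ne_zero.2 (X_ne C s100 hx)
  have ma : (X C a : ℚ) ≠ 0 := Int.cast_ne_zero.2 (X_ne C s111 ha)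
  have mb : (X C b' : ℚ) ≠ 0 := Int.cast_ne_zero.2 (X_ne C s101 hb')
  have hB2 : X C a + X C x = -2 * X C b' := by linarith
  refine BlockArith.seven_block hn hQ27 C.hQ8 (X_ne C s100 hx) (X_ne C s111 ha) ?_ g8 hdvd ?_
  · rw [hB2]; exact mul_ne_zero (by norm_num) (X_ne C s101 hb')
  · have q0 : (C.Q : ℚ) ≠ 0 := Int.cast_ne_zero.2 (by omega)
    have hkq : 0 < C.Q ^ 2 - C.Q + 1 := by nlinarith
    have hkq0 : (C.Q : ℚ) ^ 2 - C.Q + 1 ≠ 0 := by exact_mod_cast hkq.ne'
    have hh : (C.h : ℚ) + 1 = ((C.Q : ℚ) + 1) / 2 := by rw [C.hQh]; push_cast; ring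
    have eb : (X C a : ℚ) = -2 * X C b' - X C x := by
      have : ((X C a + X C x : ℤ) : ℚ) = ((-2 * X C b' : ℤ) : ℚ) := by rw [hB2]
      push_cast at this
      linarith
    obtain ⟨kq, hkq'⟩ : ∃ kq : ℚ, (C.Q : ℚ) ^ 2 - C.Q + 1 = kq := ⟨_, rfl⟩
    rw [hK, hBB, hh, hkq'] at qsum
    rw [hkq'] at hkq0
    field_simp at qsum
    have key : ((X C a : ℚ) - C.Q * X C x) ^ 2 * (C.Q * kq) =
        ((C.Q : ℚ) + 1) * (C.Q - 1) ^ 2 * (X C a * X C x * (X C a + X C x)) := by
      rw [eb] at qsum ⊢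
      linear_combination (1 / 2 : ℚ) * qsum
    rw [← hkq'] at key
    exact_mod_cast key

theorem half_zero {x : ℤ} (h : 2 * x ≤ 1) (h' : -1 ≤ 2 * x) : x = 0 := by omega
theorem le_zero_of {x : ℤ} (h : 2 * x ≤ 3) (h' : x ≠ 1) : x ≤ 0 := by omega
theorem even0 {x M : ℤ} (hx : x = 0) (h : (2:ℤ) ∣ M - x) (h0 : 0 ≤ M) (h1 : M ≤ 1) : M = 0 := by omega
theorem odd1 {M : ℤ} (h : (2:ℤ) ∣ M - 1) (h1 : M ≤ 2) : M ≤ 1 := by omega
/-- The three possibilities for the class sums. -/
theorem seven_opts {a b c d p q t Ma Mb Mc Md Mp Mq Mt : ℤ}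
    (ha : a ≤ Ma ∧ -Ma ≤ a ∧ (2:ℤ) ∣ Ma - a) (hb : b ≤ Mb ∧ -Mb ≤ b ∧ (2:ℤ) ∣ Mb - b)
    (hc : c ≤ Mc ∧ -Mc ≤ c ∧ (2:ℤ) ∣ Mc - c) (hd : d ≤ Md ∧ -Md ≤ d ∧ (2:ℤ) ∣ Md - d)
    (hp : p ≤ Mp ∧ -Mp ≤ p ∧ (2:ℤ) ∣ Mp - p) (hq : q ≤ Mq ∧ -Mq ≤ q ∧ (2:ℤ) ∣ Mq - q)
    (ht : t ≤ Mt ∧ -Mt ≤ t ∧ (2:ℤ) ∣ Mt - t)
    (r0 : a + b + c + p = 0) (r1 : a + b + d + q = 1) (r2 : a + c + d + t = 1)
    (rm : Ma + Mb + Mc + Md + Mp + Mq + Mt ≤ 2) :
    (a = 1 ∧ p = -1 ∧ Ma ≤ 1 ∧ Mp ≤ 1) ∨
      (d = 1 ∧ Md ≤ 1 ∧ Ma = 0 ∧ Mb = 0 ∧ Mc = 0 ∧ Mp = 0 ∧ Mq = 0 ∧ Mt = 0) ∨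
      (q = 1 ∧ t = 1 ∧ Mq ≤ 1 ∧ Mt ≤ 1 ∧ Mp = 0 ∧ Ma = 0) := by
  obtain ⟨a1, a2, a3⟩ := ha
  obtain ⟨b1, b2, b3⟩ := hb
  obtain ⟨c1, c2, c3⟩ := hc
  obtain ⟨d1, d2, d3⟩ := hd
  obtain ⟨p1, p2, p3⟩ := hp
  obtain ⟨q1, q2, q3⟩ := hq
  obtain ⟨t1, t2, t3⟩ := ht
  have a0 : 0 ≤ Ma := by linarith
  have b0 : 0 ≤ Mb := by linarith
  have c0 : 0 ≤ Mc := by linarith
  have d0 : 0 ≤ Md := by linarith
  have p0 : 0 ≤ Mp := by linarith
  have q0 : 0 ≤ Mq := by linarith
  have t0 : 0 ≤ Mt := by linarith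
  by_cases h : d = 1
  · subst h
    have za : a = 0 := half_zero (by linarith) (by linarith)
    have zb : b = 0 := half_zero (by linarith) (by linarith)
    have zc : c = 0 := half_zero (by linarith) (by linarith)
    have zp : p = 0 := by linarith
    have zq : q = 0 := by linarith
    have zt : t = 0 := by linarith
    exact Or.inr (Or.inl ⟨rfl, odd1 d3 (by linarith), even0 za a3 a0 (by linarith), even0 zb b3 b0 (by linarith),
      even0 zc c3 c0 (by linarith), even0 zp p3 p0 (by linarith), even0 zq q3 q0 (by linarith),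
      even0 zt t3 t0 (by linarith)⟩)
  by_cases h' : a = 1
  · subst h'
    have zb : b = 0 := half_zero (by linarith) (by linarith)
    have zc : c = 0 := half_zero (by linarith) (by linarith)
    exact Or.inl ⟨rfl, by linarith, by linarith, by linarith⟩
  have za' : a ≤ 0 := le_zero_of (by linarith) h'
  have zd' : d ≤ 0 := le_zero_of (by linarith) h
  have za : a = 0 := by linarith
  have zd : d = 0 := by linarith
  have zb : b = 0 := by linarith
  have zc : c = 0 := by linarith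
  have zp : p = 0 := by linarith
  have zq : q = 1 := by linarith
  have zt : t = 1 := by linarith
  exact Or.inr (Or.inr ⟨zq, zt, by linarith, by linarith, even0 zp p3 p0 (by linarith),
    even0 za a3 a0 (by linarith)⟩)

include hZ hQ27 hK hn in
/-- Some character in the rows has degree one. -/
theorem exists_linear : ∃ χ, C.d χ = 1 ∧ ∃ k, C.f k χ ≠ 0 := by
  obtain ⟨hτ, n110, n101, n011, n100, n010, n001⟩ := counts C
  have hopt : ∀ θ, ∀ s : Pat, s ≠ (false, false, false) → -m C θ s ≤ e C θ s ∧ e C θ s ≤ m C θ s ∧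
      0 ≤ m C θ s ∧ ((P C s).card = 0 → e C θ s = 0) ∧ (2 : ℤ) ∣ m C θ s - e C θ s := fun θ s hs =>
    ⟨(e_le_m C θ hs).1, (e_le_m C θ hs).2, Finset.sum_nonneg fun _ _ => sq_nonneg _,
      fun h => by rw [e, Finset.card_eq_zero.1 h, Finset.sum_empty], e_par C θ hs⟩
  have all : ∀ θ,
      ((P C (true, true, true)).card = 0 ∧ e C θ (false, true, true) = 1 ∧ m C θ (false, true, true) ≤ 1 ∧
        m C θ (true, true, false) = 0 ∧ m C θ (true, false, true) = 0) ∨
      ((P C (true, true, true)).card = 2 ∧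
        ((e C θ (true, true, true) = 1 ∧ e C θ (true, false, false) = -1 ∧ m C θ (true, true, true) ≤ 1 ∧
            m C θ (true, false, false) ≤ 1) ∨
          (e C θ (false, true, false) = 1 ∧ e C θ (false, false, true) = 1 ∧ m C θ (false, true, false) ≤ 1 ∧
            m C θ (false, false, true) ≤ 1 ∧ m C θ (true, false, false) = 0 ∧ m C θ (true, true, true) = 0))) ∨
      ((P C (true, true, true)).card = 1 ∧
        ((e C θ (true, true, true) = 1 ∧ e C θ (true, false, false) = -1 ∧ m C θ (true, true, true) ≤ 1 ∧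
            m C θ (true, false, false) ≤ 1) ∨
          (e C θ (false, true, true) = 1 ∧ m C θ (false, true, true) ≤ 1 ∧ m C θ (true, true, true) = 0 ∧
            m C θ (true, true, false) = 0 ∧ m C θ (true, false, true) = 0 ∧ m C θ (true, false, false) = 0 ∧
            m C θ (false, true, false) = 0 ∧ m C θ (false, false, true) = 0) ∨
          (e C θ (false, true, false) = 1 ∧ e C θ (false, false, true) = 1 ∧ m C θ (false, true, false) ≤ 1 ∧
            m C θ (false, false, true) ≤ 1 ∧ m C θ (true, false, false) = 0 ∧ m C θ (true, true, true) = 0))) := by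
    intro θ
    obtain ⟨r0, r1, r2, rm⟩ := e_sums C θ
    obtain ⟨a1, a2, -, a4, a5⟩ := hopt θ (true, true, true) (by decide)
    obtain ⟨b1, b2, -, b4, b5⟩ := hopt θ (true, true, false) (by decide)
    obtain ⟨c1, c2, -, c4, c5⟩ := hopt θ (true, false, true) (by decide)
    obtain ⟨d1, d2, -, d4, d5⟩ := hopt θ (false, true, true) (by decide)
    obtain ⟨p1, p2, -, p4, p5⟩ := hopt θ (true, false, false) (by decide)
    obtain ⟨q1, q2, -, q4, q5⟩ := hopt θ (false, true, false) (by decide)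
    obtain ⟨t1, t2, -, t4, t5⟩ := hopt θ (false, false, true) (by decide)
    have hcase := seven_opts ⟨a2, a1, a5⟩ ⟨b2, b1, b5⟩ ⟨c2, c1, c5⟩ ⟨d2, d1, d5⟩ ⟨p2, p1, p5⟩ ⟨q2, q1, q5⟩
      ⟨t2, t1, t5⟩ r0 r1 r2 rm
    rcases (show (P C (true, true, true)).card = 0 ∨ (P C (true, true, true)).card = 2 ∨
        (P C (true, true, true)).card = 1 by clear * - hτ; omega) with h | h | h
    · refine Or.inl ⟨h, ?_⟩
      rcases hcase with ⟨h1, -⟩ | ⟨h1, h2, -, h3, h4, -⟩ | ⟨h1, -⟩
      · rw [a4 h] at h1; exact absurd h1 (by norm_num)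
      · exact ⟨h1, h2, h3, h4⟩
      · rw [q4 (n010.trans h)] at h1; exact absurd h1 (by norm_num)
    · refine Or.inr (Or.inl ⟨h, ?_⟩)
      rcases hcase with h1 | ⟨h1, -⟩ | h1
      · exact Or.inl h1
      · rw [d4 (by clear * - h n011; omega)] at h1; exact absurd h1 (by norm_num)
      · exact Or.inr h1
    · exact Or.inr (Or.inr ⟨h, hcase⟩)
  by_cases h0 : (P C (true, true, true)).card = 0
  · exfalso
    rcases all C.θ0 with ⟨-, e1, m1, m110, m101⟩ | ⟨h, -⟩ | ⟨h, -⟩ <;> try omega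
    obtain ⟨z, hz, hcz, hrest⟩ := single C C.θ0 (by decide) m1 (Or.inl e1)
    rw [e1, one_mul] at hcz
    refine centre_false C hZ hz (by omega) hcz fun χ k hk hne => ?_
    have hne0 : pat C χ ≠ (false, false, false) := fun h => by
      simp [pat] at h
      fin_cases k <;> simp_all
    rcases hp : pat C χ with ⟨_ | _, _ | _, _ | _⟩ <;> rw [hp] at hne0
    · exact absurd rfl hne0
    · exact absurd ((mem_P C).2 hp) (by rw [Finset.card_eq_zero.1 (n001.trans h0)]; simp)
    · exact absurd ((mem_P C).2 hp) (by rw [Finset.card_eq_zero.1 (n010.trans h0)]; simp)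
    · exact hrest χ ((mem_P C).2 hp) hne
    · exact absurd ((mem_P C).2 hp) (by rw [Finset.card_eq_zero.1 (n100.trans h0)]; simp)
    · exact c_zero C C.θ0 m101 ((mem_P C).2 hp)
    · exact c_zero C C.θ0 m110 ((mem_P C).2 hp)
    · exact absurd ((mem_P C).2 hp) (by rw [Finset.card_eq_zero.1 h0]; simp)
  by_cases h2 : (P C (true, true, true)).card = 2
  · by_cases hm : ∃ θ, e C θ (true, true, true) = 1
    · obtain ⟨θ, hθ⟩ := hm
      rcases all θ with ⟨h, -⟩ | ⟨-, ⟨e1, e2, m1, m2⟩ | ⟨-, -, -, -, -, m0⟩⟩ | ⟨h, -⟩ <;> try omega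
      · obtain ⟨x4, hx4, c4, -⟩ := single C θ (by decide) m1 (Or.inl e1)
        obtain ⟨x2, hx2, c2, -⟩ := single C θ (by decide) m2 (Or.inr e2)
        rw [e1, one_mul] at c4
        rw [e2, neg_one_mul] at c2
        exact two_main C hZ hQ27 hK h2 hx2 hx4 c2 c4
      · exfalso
        have := (hopt θ (true, true, true) (by decide))
        omega
    · push Not at hm
      have alt : ∀ θ, e C θ (false, true, false) = 1 ∧ e C θ (false, false, true) = 1 ∧
          m C θ (false, true, false) ≤ 1 ∧ m C θ (false, false, true) ≤ 1 ∧ m C θ (true, false, false) = 0 ∧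
          m C θ (true, true, true) = 0 := fun θ => by
        rcases all θ with ⟨h, -⟩ | ⟨-, ⟨e1, -⟩ | h⟩ | ⟨h, -⟩
        · omega
        · exact absurd e1 (hm θ)
        · exact h
        · omega
      have hgood : ∀ θ E, C.T θ 0 E ≠ 0 → C.c θ E ≠ 0 → ∀ χ, C.c θ χ ≠ 0 → χ ≠ E → ∃ k, C.f k χ ≠ 0 := by
        intro θ E hT hcE χ hχ hne
        have hfE : ∀ k, C.f k E = 0 := fun k => C.fT k θ E hT
        obtain ⟨e5, e7, m5, m7, -, -⟩ := alt θ
        obtain ⟨a, ha, ca, -⟩ := single C θ (by decide) m5 (Or.inl e5)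
        obtain ⟨b, hb, cb, -⟩ := single C θ (by decide) m7 (Or.inl e7)
        obtain ⟨-, fa, -⟩ := f_pat C ha
        obtain ⟨-, -, fb⟩ := f_pat C hb
        simp only [if_true] at fa fb
        have ua := sg_unit C (by decide) ha
        have ub := sg_unit C (by decide) hb
        obtain ⟨hz, -⟩ := C.c_three (θ := θ) (ne_of_pat C (by decide) ha hb)
          (fun e => by subst e; rw [hfE] at fa; omega) (fun e => by subst e; rw [hfE] at fb; omega)
          (by rw [ca, e5]; omega) (by rw [cb, e7]; omega) hcE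
        by_cases h1 : χ = a
        · exact ⟨1, by rw [h1, fa]; omega⟩
        by_cases h2' : χ = b
        · exact ⟨2, by rw [h2', fb]; omega⟩
        exact absurd (hz χ h1 h2' hne) hχ
      obtain ⟨e5, e7, m5, m7, -, -⟩ := alt C.θ0
      obtain ⟨x5, hx5, c5, r5⟩ := single C C.θ0 (by decide) m5 (Or.inl e5)
      obtain ⟨x7, hx7, c7, -⟩ := single C C.θ0 (by decide) m7 (Or.inl e7)
      rw [e5, one_mul] at c5
      rw [e7, one_mul] at c7
      refine two_alt C hZ hQ27 hK h2 hx5 hx7 c5 c7 (fun φ χ hχ => c_zero C φ (alt φ).2.2.2.2.1 hχ)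
        fun φ χ hχ hne => ?_
      obtain ⟨k, hk⟩ := row_ne C (by decide) hχ
      rw [C.c_eq hgood φ C.θ0 hk]
      exact r5 χ hχ hne
  have h1 : (P C (true, true, true)).card = 1 := by omega
  have nofirst : ∀ θ, e C θ (true, true, true) ≠ 1 := by
    intro θ hθ
    rcases all θ with ⟨h, -⟩ | ⟨h, -⟩ | ⟨-, ⟨e1, e2, m1, m2⟩ | ⟨-, -, m0, -⟩ | ⟨-, -, -, -, -, m0⟩⟩ <;>
      try omega
    · obtain ⟨a, ha, ca, -⟩ := single C θ (by decide) m1 (Or.inl e1)
      obtain ⟨x, hx, cx, -⟩ := single C θ (by decide) m2 (Or.inr e2)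
      rw [e1, one_mul] at ca
      rw [e2, neg_one_mul] at cx
      exact seven_first C hZ hQ27 hK h1 hx ha cx ca
    all_goals
      have := (hopt θ (true, true, true) (by decide))
      omega
  have last : ∀ θ, e C θ (false, true, false) = 1 ∧ e C θ (false, false, true) = 1 ∧
      m C θ (false, true, false) ≤ 1 ∧ m C θ (false, false, true) ≤ 1 ∧ m C θ (true, false, false) = 0 ∧
      m C θ (true, true, true) = 0 := by
    intro θ
    rcases all θ with ⟨h, -⟩ | ⟨h, -⟩ | ⟨-, ⟨e1, -⟩ | ⟨e1, m1, m111, m110, m101, m100, m010, m001⟩ | h⟩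
    · omega
    · omega
    · exact absurd e1 (nofirst θ)
    · exfalso
      obtain ⟨z, hz, hcz, hrest⟩ := single C θ (by decide) m1 (Or.inl e1)
      rw [e1, one_mul] at hcz
      refine centre_false C hZ hz (by omega) hcz fun χ k hk hne => ?_
      rcases hp : pat C χ with ⟨_ | _, _ | _, _ | _⟩ <;>
        first
          | exact hrest χ ((mem_P C).2 hp) hne
          | exact c_zero C θ m001 ((mem_P C).2 hp)
          | exact c_zero C θ m010 ((mem_P C).2 hp)
          | exact c_zero C θ m100 ((mem_P C).2 hp)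
          | exact c_zero C θ m101 ((mem_P C).2 hp)
          | exact c_zero C θ m110 ((mem_P C).2 hp)
          | exact c_zero C θ m111 ((mem_P C).2 hp)
          | (simp [pat] at hp; fin_cases k <;> simp_all)
    · exact h
  obtain ⟨e5, e7, m5, m7, -, -⟩ := last C.θ0
  obtain ⟨c, hc, cc, -⟩ := single C C.θ0 (by decide) m5 (Or.inl e5)
  obtain ⟨c', hc', cc', -⟩ := single C C.θ0 (by decide) m7 (Or.inl e7)
  rw [e5, one_mul] at cc
  rw [e7, one_mul] at cc'
  exact seven_last C hZ hn hQ27 hK h1 (fun φ χ hχ => c_zero C φ (last φ).2.2.2.2.1 hχ)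
    (fun φ χ hχ => c_zero C φ (last φ).2.2.2.2.2 hχ) hc hc' cc cc'

end Cfsg.Agent.Walter.JR.BlockCases
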