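import Cfsg.Agent.Lib.Walter.JR.CentPhiBase
import Cfsg.Agent.Lib.Walter.JR.Plumb

/-!
# The centraliser of an element of `Φ`

For `fP ≠ 1` in `Φ` with a fixed field of more than five elements let `Q = C(f)/⟨f⟩` and `M` the subgroup generated by
the involutions of `Q`.  `M` is simple, of `IsJR` shape over `L₁`; by the induction `M` has Ree order and
`|C(f)| = |M| e`.
-/

set_option autoImplicit false
set_option linter.unusedSectionVars false
set_option linter.style.haveILetI false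

namespace Cfsg.Agent.Walter.JR

open Subgroup Cfsg.Agent.Char.ReeThree Cfsg.Agent.Char.ReeOrder Cfsg.Agent.Small Cfsg.Agent.Solv.AbelianTwo

universe u

/-- An involutive map without fixed points on an odd set inverts it. -/
theorem inv_of_fpf {Q : Type u} [Group Q] [Finite Q] (N : Subgroup Q) {v : Q} (hv : v * v = 1)
    (hn : ∀ n ∈ N, v * n * v ∈ N) (h : ∀ n ∈ N, Commute n v → n = 1) : ∀ n ∈ N, v * n * v = n⁻¹ := by
  have e2 : ∀ n : Q, v * (v * n * v) * v = n := fun n => by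
    rw [show v * (v * n * v) * v = (v * v) * n * (v * v) by group, hv, one_mul, mul_one]
  let c : N → N := fun n => ⟨(n : Q)⁻¹ * (v * n * v), mul_mem (inv_mem n.2) (hn n n.2)⟩
  have hinj : Function.Injective c := by
    intro a b e
    have e' : (a : Q)⁻¹ * (v * a * v) = (b : Q)⁻¹ * (v * b * v) := congrArg Subtype.val e
    have hfix : v * ((b : Q) * (a : Q)⁻¹) * v = (b : Q) * (a : Q)⁻¹ := by
      calc v * ((b : Q) * (a : Q)⁻¹) * v = v * b * (v * v) * (a : Q)⁻¹ * v := by rw [hv, mul_one]; group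
        _ = (v * b * v) * (v * (a : Q)⁻¹ * v) := by group
        _ = b * ((b : Q)⁻¹ * (v * b * v)) * (v * (a : Q)⁻¹ * v) := by rw [mul_inv_cancel_left]
        _ = b * (a : Q)⁻¹ * ((v * a * v) * (v * (a : Q)⁻¹ * v)) := by rw [← e']; group
        _ = b * (a : Q)⁻¹ := by
          rw [show v * (a : Q) * v * (v * (a : Q)⁻¹ * v) = v * a * (v * v) * (a : Q)⁻¹ * v by group, hv]
          simp [hv]
    have hcomm : Commute ((b : Q) * (a : Q)⁻¹) v := by
      calc (b : Q) * (a : Q)⁻¹ * v = v * ((b : Q) * (a : Q)⁻¹) * (v * v) := by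
            conv_lhs => rw [← hfix]
            group
        _ = _ := by rw [hv, mul_one]
    exact Subtype.ext (mul_inv_eq_one.1 (h _ (mul_mem b.2 (inv_mem a.2)) hcomm)).symm
  intro n hnN
  obtain ⟨m, hm⟩ := Finite.surjective_of_injective hinj ⟨n, hnN⟩
  have hm' : (m : Q)⁻¹ * (v * m * v) = n := congrArg Subtype.val hm
  rw [← hm', show v * ((m : Q)⁻¹ * (v * m * v)) * v = v * (m : Q)⁻¹ * v * ((m : Q) * (v * v)) by group, hv, mul_one,
    mul_inv_rev, inv_inv, mul_inv_rev, mul_inv_rev, inv_eq_of_mul_eq_one_left hv]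
  group

namespace Frame

variable {G : Type u} [Group G] [Finite G] {F : Type} [Field F] [Fintype F] (C : Frame G F)

theorem L1_K {fP : C.Phi} {z : G} (hz : z ∈ C.L1 fP) : z ∈ C.S.K := by
  obtain ⟨l, rfl, -⟩ := C.mem_L1_le hz
  exact C.embL_mem_K l

theorem L1_Phi {fP : C.Phi} {z : G} (hz : z ∈ C.L1 fP) (hf : z ∈ C.PhiG) : z = 1 := by
  obtain ⟨l, rfl, -⟩ := C.mem_L1_le hz
  rw [C.L_inter_Phi hf, map_one]

theorem s_mem_L1 (fP : C.Phi) : C.s ∈ C.L1 fP := C.mem_L1.2 (C.s_fix (C.gel_mem fP))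

theorem u0_mem_L1 (fP : C.Phi) : C.u0 ∈ C.L1 fP := C.mem_L1.2 (C.u0_fix (C.gel_mem fP))

/-- `{1, t}`. -/
abbrev tsel (a : Bool) : G := if a then C.S.t else 1

/-- `(v, z, φ) ↦ v z φ`. -/
def vzf (fP : C.Phi) (H : Subgroup G) (p : Bool × C.L1 fP × H) : G := C.tsel p.1 * (p.2.1 : G) * (p.2.2 : G)

theorem card_vzf (fP : C.Phi) {H : Subgroup G} (hH : H ≤ C.PhiG) :
    Nat.card (Set.range (C.vzf fP H)) = 2 * Nat.card (C.L1 fP) * Nat.card H := by
  have hinj : Function.Injective (C.vzf fP H) := by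
    rintro ⟨a, ⟨z, hz⟩, ⟨φ, hφ⟩⟩ ⟨a', ⟨z', hz'⟩, ⟨φ', hφ'⟩⟩ e
    change C.tsel a * z * φ = C.tsel a' * z' * φ' at e
    have hk : z * φ ∈ C.S.K := mul_mem (C.L1_K hz) (C.Phi_K (hH hφ))
    have hk' : z' * φ' ∈ C.S.K := mul_mem (C.L1_K hz') (C.Phi_K (hH hφ'))
    rw [mul_assoc, mul_assoc] at e
    have ea : a = a' := by
      cases a <;> cases a' <;> simp only [tsel, if_true, if_false, Bool.false_eq_true, one_mul] at e
      · rfl
      · exact absurd (e ▸ hk) (C.S.not_both hk')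
      · exact absurd (e.symm ▸ hk') (C.S.not_both hk)
      · rfl
    subst ea
    have e' : z * φ = z' * φ' := mul_left_cancel e
    have h1 : z'⁻¹ * z = φ' * φ⁻¹ := by
      rw [inv_mul_eq_iff_eq_mul, ← mul_assoc, ← e', mul_inv_cancel_right]
    have h2 := C.L1_Phi (mul_mem (inv_mem hz') hz) (h1 ▸ mul_mem (hH hφ') (inv_mem (hH hφ)))
    have hzz : z' = z := inv_mul_eq_one.1 h2
    subst hzz
    obtain rfl := mul_left_cancel e'
    rfl
  rw [Nat.card_congr (Equiv.ofInjective _ hinj).symm, Nat.card_prod, Nat.card_prod, Nat.card_eq_fintype_card (α := Bool),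
    Fintype.card_bool, mul_assoc]

theorem vzf_cent {fP : C.Phi} {x : G} (hx : x ∈ Set.range (C.vzf fP C.PhiG)) :
    Commute (C.gel fP) x ∧ Commute x C.S.t ∧ ∀ y ∈ C.L1 fP, x * y * x⁻¹ ∈ C.L1 fP := by
  obtain ⟨⟨a, ⟨z, hz⟩, ⟨φ, hφ⟩⟩, rfl⟩ := hx
  show Commute (C.gel fP) (C.tsel a * z * φ) ∧ Commute (C.tsel a * z * φ) C.S.t ∧
    ∀ y ∈ C.L1 fP, C.tsel a * z * φ * y * (C.tsel a * z * φ)⁻¹ ∈ C.L1 fP
  obtain ⟨l, rfl, hlc⟩ := C.mem_L1_le hz
  have hv1 : Commute (C.gel fP) (C.tsel a) := by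
    cases a
    · exact Commute.one_right _
    · exact C.Phi_t (C.gel_mem fP)
  have hv2 : Commute (C.tsel a) C.S.t := by cases a; exacts [Commute.one_left _, Commute.refl _]
  have hv3 : ∀ y ∈ C.S.K, Commute (C.tsel a) y := fun y hy => by
    cases a
    · exact Commute.one_left _
    · exact (C.S.comm_t hy).symm
  refine ⟨(hv1.mul_right hlc).mul_right (C.Phi_comm (C.gel_mem fP) hφ),
    (hv2.mul_left (C.embL_t l)).mul_left (C.Phi_t hφ), fun y hy => ?_⟩
  have h1 := mul_mem (mul_mem hz (C.L1_norm_Phi hφ hy)) (inv_mem hz)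
  rw [show C.tsel a * C.embL l * φ * y * (C.tsel a * C.embL l * φ)⁻¹ =
    C.tsel a * (C.embL l * (φ * y * φ⁻¹) * (C.embL l)⁻¹) * (C.tsel a)⁻¹ by group, (hv3 _ (C.L1_K h1)).eq,
    mul_inv_cancel_right]
  exact h1

theorem mem_vzf {fP : C.Phi} {x : G} (hf : Commute (C.gel fP) x) (ht : x * C.S.t = C.S.t * x) :
    x ∈ Set.range (C.vzf fP C.PhiG) := by
  obtain ⟨v, hv, l, φ, hφ, rfl⟩ := C.cent_t ht
  have hvf : Commute (C.gel fP) v := by
    rcases hv with rfl | rfl; exacts [Commute.one_right _, C.Phi_t (C.gel_mem fP)]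
  have hl : C.embL l ∈ C.L1 fP := C.mem_L1.2 (by
    have h := (hvf.inv_right.mul_right hf).mul_right
      (show Commute (C.gel fP) φ from C.Phi_comm (C.gel_mem fP) hφ).inv_right
    rwa [show v⁻¹ * (v * C.embL l * φ) * φ⁻¹ = C.embL l by group] at h)
  rcases hv with rfl | rfl
  · exact ⟨(false, ⟨_, hl⟩, ⟨φ, hφ⟩), by simp [vzf, tsel]⟩
  · exact ⟨(true, ⟨_, hl⟩, ⟨φ, hφ⟩), by simp [vzf, tsel]⟩

/-- `|C(f)|`. -/
theorem card_cent (hs : Smaller.{u} (Nat.card G)) {fP : C.Phi} (hne : fP ≠ 1)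
    (h5 : 5 < Nat.card (C.fixF fP)) :
    ∃ m : ℕ, 1 ≤ m ∧ Nat.card (C.fixF fP) = 3 ^ (2 * m + 1) ∧
      Nat.card (centralizer ({C.gel fP} : Set G)) = C.e *
        (Nat.card (C.fixF fP) ^ 3 * (Nat.card (C.fixF fP) ^ 3 + 1) * (Nat.card (C.fixF fP) - 1)) := by
  classical
  haveI := Fact.mk Nat.prime_two
  haveI := Fintype.ofFinite (C.fixF fP)
  set f := C.gel fP with hfdef
  set P : Subgroup G := zpowers f with hP
  have hPP : P ≤ C.PhiG := zpowers_le.2 (C.gel_mem fP)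
  have hPPhi : ∀ g : C.Phi, g ∈ zpowers fP → C.gel g ∈ P := fun g hg => by
    obtain ⟨i, rfl⟩ := mem_zpowers_iff.1 hg
    exact mem_zpowers_iff.2 ⟨i, by simp [hfdef, gel]⟩
  set X : Subgroup G := centralizer ({f} : Set G) with hX
  have memX : ∀ {x : G}, x ∈ X ↔ Commute x f := mem_centralizer_singleton_iff
  have hPX : P ≤ X := zpowers_le.2 (memX.2 (Commute.refl f))
  set N : Subgroup X := P.subgroupOf X with hN
  haveI hNn : N.Normal := ⟨fun a ha x => by
    obtain ⟨i, hi⟩ := mem_zpowers_iff.1 (mem_subgroupOf.1 ha)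
    refine mem_subgroupOf.2 ?_
    have hc : Commute (x : G) (a : G) := hi ▸ (show Commute (x : G) f from memX.1 x.2).zpow_right i
    show (x : G) * a * (x : G)⁻¹ ∈ P
    rw [hc.eq, mul_inv_cancel_right]
    exact mem_subgroupOf.1 ha⟩
  let π : X →* X ⧸ N := QuotientGroup.mk' N
  have hπ : ∀ a b : X, π a = π b ↔ (a : G)⁻¹ * b ∈ P := fun a b => by
    rw [QuotientGroup.mk'_apply, QuotientGroup.mk'_apply, QuotientGroup.eq, hN, mem_subgroupOf]
    rfl
  have hπ1 : ∀ a : X, π a = 1 ↔ (a : G) ∈ P := fun a => by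
    rw [QuotientGroup.mk'_apply, QuotientGroup.eq_one_iff, hN, mem_subgroupOf]
  have htX : C.S.t ∈ X := memX.2 (Commute.symm (C.Phi_t (C.gel_mem fP)))
  let tX : X := ⟨C.S.t, htX⟩
  set tb := π tX with htb
  have htne : tb ≠ 1 := fun h => by
    have := C.Phi_odd (hPP ((hπ1 tX).1 h))
    rw [show ((tX : X) : G) = C.S.t from rfl, C.S.ht] at this
    exact absurd this (by norm_num)
  have ht2 : tb * tb = 1 := by rw [htb, ← map_mul, show tX * tX = 1 from Subtype.ext C.S.sq_t, map_one]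
  have hto : orderOf tb = 2 := orderOf_eq_prime (by rw [pow_two, ht2]) htne
  have lift_t : ∀ x : X, π x * tb = tb * π x → (x : G) * C.S.t = C.S.t * x := by
    intro x hx
    rw [htb, ← map_mul, ← map_mul, hπ] at hx
    set g := ((x * tX : X) : G)⁻¹ * ((tX * x : X) : G) with hg
    have hxg : C.S.t * (x : G) = x * C.S.t * g := by
      rw [hg, Subgroup.coe_mul, Subgroup.coe_mul]; simp only [tX]; group
    have hgt : Commute g C.S.t := C.Phi_t (hPP hx)
    have e : g * g = 1 := by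
      have h2 : C.S.t * (C.S.t * (x : G)) = x := by rw [← mul_assoc, C.S.sq_t, one_mul]
      obtain ⟨i, hi⟩ := mem_zpowers_iff.1 hx
      have hgx : Commute g (x : G) := hi ▸ (show Commute (x : G) f from memX.1 x.2).symm.zpow_left i
      rw [hxg] at h2
      have h3 : C.S.t * ((x : G) * C.S.t * g) = (x : G) * (g * g) := by
        calc C.S.t * ((x : G) * C.S.t * g) = C.S.t * (x : G) * (C.S.t * g) := by group
          _ = x * C.S.t * g * (C.S.t * g) := by rw [hxg]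
          _ = x * C.S.t * (g * C.S.t) * g := by group
          _ = x * (C.S.t * C.S.t) * (g * g) := by rw [hgt.eq]; group
          _ = x * (g * g) := by rw [C.S.sq_t, mul_one]
      rw [h2] at h3
      exact left_eq_mul.1 h3
    have hg1 : g = 1 := eq_one_of_inv_eq (C.Phi_odd (hPP hx)) (inv_eq_of_mul_eq_one_left e)
    rw [hg1, mul_one] at hxg
    exact hxg.symm
  -- `L₁` in `Q`
  have hLX : C.L1 fP ≤ X := fun z hz => by
    obtain ⟨l, rfl, hc⟩ := C.mem_L1_le hz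
    exact memX.2 hc.symm
  let ι : C.L1 fP →* X := inclusion hLX
  let κ : C.L1 fP →* X ⧸ N := π.comp ι
  have κinj : Function.Injective κ := fun a b h => by
    have h' : (a : G)⁻¹ * b ∈ P := (hπ _ _).1 h
    exact Subtype.ext (inv_mul_eq_one.1 (C.L1_Phi (mul_mem (inv_mem a.2) b.2) (hPP h')))
  obtain ⟨eL⟩ := C.L1_iso fP
  haveI : IsSimpleGroup (Matrix.ProjectiveSpecialLinearGroup (Fin 2) (C.fixF fP)) :=
    S0810.psl_simple_big (by rw [← Nat.card_eq_fintype_card]; omega)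
  haveI hLsimple : IsSimpleGroup (C.L1 fP) := eL.isSimpleGroup
  let sL : C.L1 fP := ⟨C.s, C.s_mem_L1 fP⟩
  have hsL : orderOf (κ sL) = 2 := by
    rw [orderOf_injective κ κinj, Subgroup.orderOf_mk, C.s_eq, orderOf_injective _ C.embL_inj, C.D.hs]
  -- what centralises `L₁`
  have centL : ∀ x : X, π x * tb = tb * π x → (∀ z : C.L1 fP, π x * κ z = κ z * π x) → π x = 1 ∨ π x = tb := by
    intro x hxt hxL
    obtain ⟨-, -, hnorm⟩ := C.vzf_cent (C.mem_vzf (Commute.symm (memX.1 x.2)) (lift_t x hxt))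
    have hcx : ∀ z ∈ C.L1 fP, Commute (x : G) z := fun z hz => by
      have h : (π (x * ι ⟨z, hz⟩ * x⁻¹ * (ι ⟨z, hz⟩)⁻¹)) = 1 := by
        rw [map_mul, map_mul, map_mul, map_inv, map_inv, show π x * π (ι ⟨z, hz⟩) = π (ι ⟨z, hz⟩) * π x from hxL ⟨z, hz⟩]
        group
      have h' : (x : G) * z * (x : G)⁻¹ * z⁻¹ ∈ P := (hπ1 _).1 h
      have := C.L1_Phi (mul_mem (hnorm z hz) (inv_mem hz)) (hPP h')
      exact mul_inv_eq_iff_eq_mul.1 (mul_inv_eq_one.1 this)
    obtain ⟨⟨a, ⟨z, hz⟩, ⟨φ, hφ⟩⟩, e⟩ := C.mem_vzf (Commute.symm (memX.1 x.2)) (lift_t x hxt)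
    change C.tsel a * z * φ = (x : G) at e
    obtain ⟨g, hg, rfl⟩ := hφ
    have hc : ∀ y ∈ C.L1 fP, Commute (z * C.gel ⟨g, hg⟩) y := fun y hy => by
      have hv : Commute (C.tsel a) y := by
        cases a
        · exact Commute.one_left _
        · exact (C.S.comm_t (C.L1_K hy)).symm
      have := hv.inv_left.mul_left (hcx y hy)
      rwa [← e, show (C.tsel a)⁻¹ * (C.tsel a * z * C.S.K.subtype g) = z * (g : G) by
        rw [Subgroup.coe_subtype]; group] at this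
    obtain ⟨rfl, hgm⟩ := C.Phi_cent_L1 h5 hz hc
    cases a
    · refine Or.inl ((hπ1 x).2 ?_)
      rw [← e]; simpa [tsel] using hPPhi _ hgm
    · refine Or.inr (Eq.symm ((hπ tX x).2 ?_))
      rw [← e]; simpa [tsel, tX] using hPPhi _ hgm
  -- lifting involutions, one class
  have hSX : C.Syl ≤ X := fun a ha => memX.2 (Commute.symm (C.Syl_Phi ha (C.gel_mem fP)))
  let T : Sylow 2 X := C.sylow.subtype hSX
  have hclass : ∀ z : X ⧸ N, orderOf z = 2 → ∃ q : X ⧸ N, q * z * q⁻¹ = tb := by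
    intro z hz
    obtain ⟨x, rfl⟩ := QuotientGroup.mk'_surjective N z
    have hz2 : π x * π x = 1 := by rw [← pow_two, ← hz]; exact pow_orderOf_eq_one _
    obtain ⟨m, hm⟩ := C.odd
    set k := 2 * m + 1 with hk
    have hxk : π (x ^ k) = π x := by
      rw [map_pow, hk, pow_succ, pow_mul, pow_two, hz2, one_pow, one_mul]
    have hx2 : (x : G) * x ∈ C.PhiG := hPP ((hπ1 (x * x)).1 (by rw [map_mul, hz2]))
    have hxk2 : (x ^ k) * (x ^ k) = 1 := by
      rw [← (Commute.refl x).mul_pow k]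
      apply Subtype.ext
      show ((x : G) * x) ^ k = 1
      rw [← hm, show Nat.card C.Phi = Nat.card C.PhiG from C.card_PhiG.symm]
      exact congrArg Subtype.val (pow_card_eq_one' (x := (⟨_, hx2⟩ : C.PhiG)))
    have hxk1 : x ^ k ≠ 1 := fun e => by
      rw [e, map_one] at hxk
      rw [← hxk, orderOf_one] at hz
      omega
    obtain ⟨T', hT'⟩ := (IsPGroup.of_card (p := 2) (n := 1) (G := zpowers (x ^ k)) (by
      rw [Nat.card_zpowers, pow_one]
      exact orderOf_eq_prime (by rw [pow_two]; exact hxk2) hxk1)).exists_le_sylow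
    obtain ⟨c, hc⟩ := MulAction.exists_smul_eq X T' T
    have h1 : c * x ^ k * c⁻¹ ∈ (T : Subgroup X) := by
      rw [← hc, Sylow.coe_subgroup_smul]; exact ⟨_, hT' (mem_zpowers _), rfl⟩
    obtain ⟨a, ha, hat⟩ := C.exists_NS (mem_subgroupOf.1 h1) (C.V_le_Syl C.t_mem_V)
      (fun e => hxk1 (conj_eq_one_iff.1 (Subtype.ext e : c * x ^ k * c⁻¹ = 1))) C.t_ne
    have haX : a ∈ X := memX.2 (C.NS_fix ha (C.gel_mem fP))
    refine ⟨π (⟨a, haX⟩ * c), ?_⟩
    rw [← hxk, ← map_inv, ← map_mul, ← map_mul]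
    congr 1
    apply Subtype.ext
    show a * (c : G) * ((x ^ k : X) : G) * (a * (c : G))⁻¹ = C.S.t
    rw [← hat]
    simp only [Subgroup.coe_mul, Subgroup.coe_inv, Subgroup.coe_pow]
    group
  -- `M`
  set M : Subgroup (X ⧸ N) := normalClosure {tb} with hM
  haveI hMn : M.Normal := normalClosure_normal
  have htM : tb ∈ M := subset_normalClosure rfl
  have invM : ∀ z : X ⧸ N, orderOf z = 2 → z ∈ M := fun z hz => by
    obtain ⟨q, hq⟩ := hclass z hz
    have e : z = q⁻¹ * tb * q⁻¹⁻¹ := by rw [← hq]; group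
    rw [e]
    exact hMn.conj_mem _ htM _
  have hLM : ∀ z, κ z ∈ M := by
    intro z
    have hne' : M.comap κ ≠ ⊥ := fun h => by
      have h1 : sL ∈ M.comap κ := invM _ hsL
      rw [h, mem_bot] at h1
      rw [h1, map_one, orderOf_one] at hsL
      omega
    have h2 : z ∈ M.comap κ := by
      rw [((inferInstance : (M.comap κ).Normal).eq_bot_or_eq_top).resolve_left hne']
      exact mem_top _
    exact h2
  -- subgroups of `M` normalised by `M`
  let Inv : Subgroup (X ⧸ N) → Prop := fun N' => N' ≤ M ∧ ∀ m ∈ M, ∀ n ∈ N', m * n * m⁻¹ ∈ N'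
  have inv_map : ∀ (q : X ⧸ N) (N' : Subgroup (X ⧸ N)), Inv N' → Inv (N'.map (MulAut.conj q).toMonoidHom) := by
    rintro q N' ⟨h1, h2⟩
    refine ⟨?_, ?_⟩
    · rintro _ ⟨n, hn, rfl⟩
      exact hMn.conj_mem _ (h1 hn) q
    · rintro m hm _ ⟨n, hn, rfl⟩
      refine ⟨q⁻¹ * m * q⁻¹⁻¹ * n * (q⁻¹ * m * q⁻¹⁻¹)⁻¹, h2 _ (hMn.conj_mem _ hm _) _ hn, ?_⟩
      show q * _ * q⁻¹ = m * (q * n * q⁻¹) * m⁻¹
      group
  -- (A)
  have stepA : ∀ N', Inv N' → (¬ ∀ z, κ z ∈ N') → ∀ n ∈ N', n * tb = tb * n → n = 1 ∨ n = tb := by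
    rintro N' ⟨h1, h2⟩ hnot n hn hnt
    haveI : (N'.comap κ).Normal := ⟨fun a ha b => by
      show κ (b * a * b⁻¹) ∈ N'
      rw [map_mul, map_mul, map_inv]
      exact h2 _ (hLM b) _ ha⟩
    have hbot : N'.comap κ = ⊥ := ((inferInstance : (N'.comap κ).Normal).eq_bot_or_eq_top).resolve_right
      fun h => hnot fun z => (h ▸ mem_top z : z ∈ N'.comap κ)
    obtain ⟨x, rfl⟩ := QuotientGroup.mk'_surjective N n
    refine centL x hnt fun z => ?_
    obtain ⟨-, -, hnorm⟩ := C.vzf_cent (C.mem_vzf (Commute.symm (memX.1 x.2)) (lift_t x hnt))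
    let z' : C.L1 fP := ⟨_, mul_mem (hnorm z z.2) (inv_mem z.2)⟩
    have hz' : κ z' = π x * κ z * (π x)⁻¹ * (κ z)⁻¹ := by
      show π (ι z') = π x * π (ι z) * (π x)⁻¹ * (π (ι z))⁻¹
      rw [← map_inv, ← map_inv, ← map_mul, ← map_mul, ← map_mul]
      rfl
    have hmem : z' ∈ N'.comap κ := by
      show κ z' ∈ N'
      rw [hz', show π x * κ z * (π x)⁻¹ * (κ z)⁻¹ = π x * (κ z * (π x)⁻¹ * (κ z)⁻¹) by group]
      exact mul_mem hn (h2 _ (hLM z) _ (inv_mem hn))
    rw [hbot, mem_bot] at hmem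
    rw [hmem, map_one] at hz'
    exact mul_inv_eq_iff_eq_mul.1 (mul_inv_eq_one.1 hz'.symm)
  -- the four group
  have htS : C.S.t ∈ C.Syl := C.V_le_Syl C.t_mem_V
  obtain ⟨n0, hn0, hn0t⟩ := C.exists_NS htS (C.V_le_Syl C.s_mem_V) C.t_ne C.s_ne
  have hn0X : n0 ∈ X := memX.2 (C.NS_fix hn0 (C.gel_mem fP))
  set q0 := π ⟨n0, hn0X⟩ with hq0
  have hq0t : q0 * tb * q0⁻¹ = κ sL := by
    rw [hq0, htb, ← map_inv, ← map_mul, ← map_mul]
    exact congrArg π (Subtype.ext hn0t)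
  have hts : Commute tb (κ sL) := by
    show π tX * π (ι sL) = π (ι sL) * π tX
    rw [← map_mul, ← map_mul]
    exact congrArg π (Subtype.ext C.s_t.symm)
  have htsne : tb ≠ κ sL := fun e => by
    have h1 : C.S.t⁻¹ * C.s ∈ P := (hπ _ _).1 e
    have h2 : C.S.t⁻¹ ∈ C.S.K := by
      simpa using mul_mem (C.Phi_K (hPP h1)) (inv_mem (show C.s ∈ C.S.K from C.embL_mem_K C.D.s))
    exact C.S.t_not_mem (inv_mem_iff.1 h2)
  -- (O)
  have stepO : ∀ N', Inv N' → Odd (Nat.card N') → N' = ⊥ := by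
    rintro N' hN' hodd
    have noinv : ∀ N'' : Subgroup (X ⧸ N), Odd (Nat.card N'') → ∀ n ∈ N'', orderOf n ≠ 2 := fun N'' ho n hn h => by
      have := odd_order_of_mem ho hn
      rw [h] at this
      exact absurd this (by norm_num)
    have base : ∀ N'' : Subgroup (X ⧸ N), Inv N'' → Odd (Nat.card N'') → ∀ n ∈ N'', n * tb = tb * n → n = 1 := fun N'' hI ho n hn hnt =>
      (stepA N'' hI (fun h => noinv N'' ho _ (h sL) hsL) n hn hnt).resolve_right fun e => noinv N'' ho n hn (e ▸ hto)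
    have fpf : ∀ v, orderOf v = 2 → ∀ n ∈ N', v * n * v = n⁻¹ := by
      intro v hv
      have hv2 : v * v = 1 := by rw [← pow_two, ← hv, pow_orderOf_eq_one]
      refine inv_of_fpf N' hv2 (fun n hn => ?_) fun n hn hc => ?_
      · have := hN'.2 v (invM v hv) n hn
        rwa [inv_eq_of_mul_eq_one_left hv2] at this
      · obtain ⟨q, hq⟩ := hclass v hv
        have h1 := base (N'.map (MulAut.conj q).toMonoidHom) (inv_map q N' hN')
          (by rwa [Subgroup.card_map_of_injective (MulAut.conj q).injective]) (q * n * q⁻¹) ⟨n, hn, rfl⟩ (by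
            rw [← hq, show q * n * q⁻¹ * (q * v * q⁻¹) = q * (n * v) * q⁻¹ by group, hc.eq]; group)
        exact conj_eq_one_iff.1 h1
    rw [eq_bot_iff]
    intro n hn
    have hs2 : κ sL * κ sL = 1 := by rw [← pow_two, ← hsL, pow_orderOf_eq_one]
    have hp : orderOf (tb * κ sL) = 2 := orderOf_eq_prime
      (by rw [pow_two, show tb * κ sL * (tb * κ sL) = tb * (κ sL * tb) * κ sL by group, ← hts.eq,
        show tb * (tb * κ sL) * κ sL = tb * tb * (κ sL * κ sL) by group, ht2, hs2, one_mul])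
      fun e => htsne (eq_inv_of_mul_eq_one_left e |>.trans (inv_eq_of_mul_eq_one_left hs2))
    have e1 := fpf _ hp n hn
    have e2 : tb * κ sL * n * (tb * κ sL) = n := by
      conv_lhs => rw [show tb * κ sL * n * (tb * κ sL) = tb * (κ sL * n * (tb * κ sL)) by group, hts.eq,
        show tb * (κ sL * n * (κ sL * tb)) = tb * (κ sL * n * κ sL) * tb by group, fpf _ hsL n hn,
        fpf _ hto n⁻¹ (inv_mem hn), inv_inv]
    rw [e2] at e1
    rw [mem_bot]
    exact eq_one_of_inv_eq (odd_order_of_mem hodd hn) e1.symm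
  -- (E)
  have hSM : ∀ a (ha : a ∈ C.Syl), π ⟨a, hSX ha⟩ ∈ M := fun a ha => by
    rcases eq_or_ne a 1 with rfl | h1
    · exact (map_one π).symm ▸ one_mem _
    · refine invM _ (orderOf_eq_prime (by rw [pow_two, ← map_mul, show (⟨a, hSX ha⟩ : X) * ⟨a, hSX ha⟩ = 1 from
        Subtype.ext (C.Syl_sq ha), map_one]) fun e => h1 ?_)
      have := C.Phi_odd (hPP ((hπ1 _).1 e))
      exact eq_one_of_inv_eq this (inv_eq_of_mul_eq_one_left (C.Syl_sq ha))
  have stepE : ∀ N', Inv N' → tb ∈ N' → M ≤ N' := by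
    rintro N' hN' htN
    have hL'' : ∀ z, κ z ∈ N'.map (MulAut.conj q0⁻¹).toMonoidHom := by
      by_contra hnot
      set v := q0⁻¹ * tb * q0⁻¹⁻¹ with hv
      have hvo : orderOf v = 2 := by
        rw [hv, show q0⁻¹ * tb * q0⁻¹⁻¹ = MulAut.conj q0⁻¹ tb from rfl, MulEquiv.orderOf_eq, hto]
      have e2 : q0⁻¹ * κ sL * q0⁻¹⁻¹ = tb := by rw [← hq0t]; group
      have hvt : v * tb = tb * v := by
        have h := hts.map (MulAut.conj q0⁻¹)
        rw [MulAut.conj_apply, MulAut.conj_apply, ← hv, e2] at h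
        exact h.eq
      rcases stepA _ (inv_map q0⁻¹ N' hN') hnot v ⟨tb, htN, rfl⟩ hvt with h | h
      · rw [h, orderOf_one] at hvo; omega
      · refine htsne ?_
        calc tb = q0 * v * q0⁻¹ := by rw [hv]; group
          _ = κ sL := by rw [h, hq0t]
    have hin : ∀ z, q0 * κ z * q0⁻¹ ∈ N' := fun z => by
      obtain ⟨n, hn, e⟩ := hL'' z
      rw [← e]
      show q0 * (q0⁻¹ * n * q0⁻¹⁻¹) * q0⁻¹ ∈ N'
      rwa [show q0 * (q0⁻¹ * n * q0⁻¹⁻¹) * q0⁻¹ = n by group]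
    have hLN : ∀ z, κ z ∈ N' := by
      by_contra hnot
      obtain ⟨y, hy, hy1, hyt⟩ : ∃ y : C.L1 fP, (y : G) ∈ C.Syl ∧ y ≠ 1 ∧ n0 * (y : G) * n0⁻¹ ≠ C.S.t := by
        by_cases h : n0 * C.s * n0⁻¹ = C.S.t
        · refine ⟨⟨C.u0, C.u0_mem_L1 fP⟩, C.u0_mem_Syl, fun e => C.u0_ne (congrArg Subtype.val e), fun e => ?_⟩
          have e' : C.u0 = C.s := mul_left_cancel (mul_right_cancel (e.trans h.symm))
          have h' := C.th_u0
          rw [e', C.th_s, e', C.sq_s] at h'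
          exact C.s_ne h'
        · exact ⟨sL, C.V_le_Syl C.s_mem_V, fun e => C.s_ne (congrArg Subtype.val e), h⟩
      have hwS : n0 * (y : G) * n0⁻¹ ∈ C.Syl := (mem_normalizer_iff.1 hn0 _).1 hy
      have ew : q0 * κ y * q0⁻¹ = π ⟨_, hSX hwS⟩ := by
        show π ⟨n0, hn0X⟩ * π (ι y) * (π ⟨n0, hn0X⟩)⁻¹ = _
        rw [← map_inv, ← map_mul, ← map_mul]
        rfl
      have hwt : π ⟨_, hSX hwS⟩ * tb = tb * π ⟨_, hSX hwS⟩ := by
        rw [htb, ← map_mul, ← map_mul]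
        exact congrArg π (Subtype.ext (commute_of_mem C.hab C.sylow.2 hwS htS).eq)
      rcases stepA N' hN' hnot _ (ew ▸ hin y) hwt with h | h
      · refine hy1 (κinj (show κ y = κ 1 from ?_))
        rw [map_one]
        exact conj_eq_one_iff.1 (ew.trans h)
      · refine hyt (inv_mul_eq_one.1 ?_)
        have h1 : (n0 * (y : G) * n0⁻¹)⁻¹ * C.S.t ∈ P := (hπ _ _).1 h
        exact eq_one_of_inv_eq (C.Phi_odd (hPP h1)) (inv_eq_of_mul_eq_one_left
          (C.Syl_sq (mul_mem (inv_mem hwS) htS)))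
    have hSN : ∀ a (ha : a ∈ C.Syl), π ⟨a, hSX ha⟩ ∈ N' := by
      have hsN : π ⟨C.s, hSX (C.V_le_Syl C.s_mem_V)⟩ ∈ N' := hLN sL
      have huN : π ⟨C.u0, hSX C.u0_mem_Syl⟩ ∈ N' := hLN ⟨C.u0, C.u0_mem_L1 fP⟩
      let W : Subgroup G := (N'.comap π).map X.subtype
      have hW : ∀ (a : G) (ha : a ∈ X), π ⟨a, ha⟩ ∈ N' → a ∈ W := fun a ha h => ⟨⟨a, ha⟩, h, rfl⟩
      intro a ha
      have : a ∈ W := by
        obtain ⟨v, hv, hav⟩ := ha
        have hvW : v ∈ W := (sup_le (zpowers_le.2 (hW _ htX htN)) (zpowers_le.2 (hW _ _ hsN)) : C.V ≤ W) hv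
        rcases hav with rfl | rfl
        · exact hvW
        · exact mul_mem hvW (hW _ _ huN)
      obtain ⟨b, hb, e⟩ := this
      have eb : b = ⟨a, hSX ha⟩ := Subtype.ext e
      exact eb ▸ hb
    have hTM : (T : Subgroup X).map π ≤ M := by
      rintro _ ⟨a, ha, rfl⟩
      exact hSM a ha
    let Tb : Sylow 2 M := (T.mapSurjective (QuotientGroup.mk'_surjective N)).subtype hTM
    rw [hM, normalClosure, closure_le]
    intro z hz
    obtain ⟨_, rfl, hc⟩ := Group.mem_conjugatesOfSet_iff.1 hz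
    obtain ⟨c, hc⟩ := isConj_iff.1 hc
    have hzo : orderOf z = 2 := by rw [← hc, show c * tb * c⁻¹ = MulAut.conj c tb from rfl, MulEquiv.orderOf_eq, hto]
    obtain ⟨T', hT'⟩ := (IsPGroup.of_card (p := 2) (n := 1) (G := zpowers (⟨z, invM z hzo⟩ : M)) (by
      rw [Nat.card_zpowers, pow_one, Subgroup.orderOf_mk, hzo])).exists_le_sylow
    obtain ⟨m, hm⟩ := MulAction.exists_smul_eq M T' Tb
    have h1 : m * ⟨z, invM z hzo⟩ * m⁻¹ ∈ (Tb : Subgroup M) := by
      rw [← hm, Sylow.coe_subgroup_smul]; exact ⟨_, hT' (mem_zpowers _), rfl⟩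
    obtain ⟨a, ha, e⟩ := (mem_subgroupOf.1 h1 : ((m * ⟨z, invM z hzo⟩ * m⁻¹ : M) : X ⧸ N) ∈ (T : Subgroup X).map π)
    have h2 : (m : X ⧸ N) * z * (m : X ⧸ N)⁻¹ ∈ N' := by
      rw [← show π a = (m : X ⧸ N) * z * (m : X ⧸ N)⁻¹ from e]
      exact hSN a ha
    have h3 := hN'.2 _ (inv_mem m.2) _ h2
    rwa [show (m : X ⧸ N)⁻¹ * ((m : X ⧸ N) * z * (m : X ⧸ N)⁻¹) * ((m : X ⧸ N)⁻¹)⁻¹ = z by group] at h3
  -- `M` is simple
  haveI hMs : IsSimpleGroup M := by
    haveI : Nontrivial M := ⟨⟨⟨tb, htM⟩, 1, fun e => htne (congrArg Subtype.val e)⟩⟩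
    refine ⟨fun R hR => ?_⟩
    set N' := R.map M.subtype with hN'
    have hI : Inv N' := ⟨map_subtype_le _, by
      rintro m hm _ ⟨n, hn, rfl⟩
      exact ⟨⟨m, hm⟩ * n * ⟨m, hm⟩⁻¹, hR.conj_mem _ hn _, rfl⟩⟩
    by_cases hodd : Odd (Nat.card N')
    · exact Or.inl ((R.map_eq_bot_iff_of_injective M.subtype_injective).1 (stepO N' hI hodd))
    refine Or.inr ?_
    obtain ⟨⟨v, hvN⟩, hv⟩ := exists_prime_orderOf_dvd_card' (G := N') 2
      (Nat.not_odd_iff_even.1 hodd).two_dvd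
    rw [Subgroup.orderOf_mk] at hv
    obtain ⟨q, hq⟩ := hclass v hv
    have hle := stepE _ (inv_map q N' hI) ⟨v, hvN, hq⟩
    have h1 := Subgroup.card_le_of_le hle
    rw [Subgroup.card_map_of_injective (MulAut.conj q).injective,
      Subgroup.card_map_of_injective M.subtype_injective] at h1
    exact Subgroup.eq_top_of_le_card R h1
  -- `Ab2`
  have habQ : Ab2 (X ⧸ N) := by
    intro R
    obtain ⟨S', rfl⟩ := Sylow.mapSurjective_surjective (QuotientGroup.mk'_surjective N) 2 R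
    refine ⟨⟨?_⟩⟩
    rintro ⟨_, a, ha, rfl⟩ ⟨_, b, hb, rfl⟩
    refine Subtype.ext ?_
    show π a * π b = π b * π a
    rw [← map_mul, ← map_mul]
    exact congrArg π (Subtype.ext (commute_of_mem C.hab (S'.2.map X.subtype) ⟨a, ha, rfl⟩ ⟨b, hb, rfl⟩).eq)
  have habM : Ab2 M := of_injective habQ M.subtype M.subtype_injective
  -- the centraliser of `tb` in `M`
  set tM : M := ⟨tb, htM⟩ with htMdef
  set E : Subgroup M := ((C.S.K.subgroupOf X).map π).subgroupOf M with hEdef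
  set Nn : Subgroup M := κ.range.subgroupOf M with hNn'
  have memE : ∀ {w : M}, w ∈ E ↔ ∃ k : X, (k : G) ∈ C.S.K ∧ π k = (w : X ⧸ N) := by
    intro w
    constructor
    · rintro ⟨k, hk, e⟩; exact ⟨k, mem_subgroupOf.1 hk, e⟩
    · rintro ⟨k, hk, e⟩; exact ⟨k, mem_subgroupOf.2 hk, e⟩
  have hEt : ∀ w ∈ E, (w : X ⧸ N) * tb = tb * w := fun w hw => by
    obtain ⟨k, hk, e⟩ := memE.1 hw
    rw [← e, htb, ← map_mul, ← map_mul]
    exact congrArg π (Subtype.ext (C.S.comm_t hk))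
  have htE : tM ∉ E := fun h => by
    obtain ⟨k, hk, e⟩ := memE.1 h
    have h1 : (k : G)⁻¹ * C.S.t ∈ P := (hπ _ _).1 e
    refine C.S.t_not_mem ?_
    simpa using mul_mem hk (C.Phi_K (hPP h1))
  have htM2 : orderOf tM = 2 := by rw [htMdef, Subgroup.orderOf_mk, hto]
  have hE : Cfsg.IsInternalDirectProduct (zpowers tM) E (centralizer ({tM} : Set M)) := by
    have le1 : zpowers tM ≤ centralizer {tM} := zpowers_le.2 (mem_centralizer_singleton_iff.2 rfl)
    have le2 : E ≤ centralizer {tM} := fun w hw => mem_centralizer_singleton_iff.2 (Subtype.ext (hEt w hw))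
    have key : ∀ a ∈ zpowers tM, a = 1 ∨ a = tM := fun a ha => by
      obtain ⟨i, rfl⟩ := mem_zpowers_iff.1 ha
      rw [← zpow_mod_orderOf, htM2]
      rcases Int.emod_two_eq_zero_or_one i with h | h <;> rw [show ((2 : ℕ) : ℤ) = 2 from rfl, h] <;> simp
    refine ⟨le1, le2, ?_, ?_, ?_⟩
    · intro a ha b hb
      rcases key a ha with rfl | rfl
      · simp
      · exact Subtype.ext (hEt b hb).symm
    · rw [eq_bot_iff]
      rintro a ⟨ha, hb⟩
      rcases key a ha with rfl | rfl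
      · exact mem_bot.2 rfl
      · exact absurd hb htE
    · refine le_antisymm (sup_le le1 le2) fun w hw => ?_
      obtain ⟨x, hx⟩ := QuotientGroup.mk'_surjective N (w : X ⧸ N)
      have hxt : π x * tb = tb * π x := by
        rw [show π x = (w : X ⧸ N) from hx]
        exact congrArg Subtype.val (mem_centralizer_singleton_iff.1 hw)
      rcases C.S.split (C.S.mem_C.2 (lift_t x hxt)) with h | h
      · exact mem_sup_right (memE.2 ⟨x, h, hx⟩)
      · have hm : tM * w ∈ E := memE.2 ⟨tX * x, h, by rw [map_mul, show π x = (w : X ⧸ N) from hx]; rfl⟩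
        rw [show w = tM * (tM * w) by rw [← mul_assoc, show tM * tM = 1 from Subtype.ext ht2, one_mul]]
        exact mul_mem (mem_sup_left (mem_zpowers _)) (mem_sup_right hm)
  have hNE : Nn ≤ E := fun w hw => by
    obtain ⟨z, hz⟩ := mem_subgroupOf.1 hw
    exact memE.2 ⟨ι z, C.L1_K z.2, hz⟩
  have hconjN : ∀ e ∈ E, ∀ n ∈ Nn, e * n * e⁻¹ ∈ Nn := fun e he n hn => by
    obtain ⟨k, hk, hek⟩ := memE.1 he
    obtain ⟨z, hz⟩ := mem_subgroupOf.1 hn
    obtain ⟨-, -, hnorm⟩ := C.vzf_cent (C.mem_vzf (Commute.symm (memX.1 k.2)) (C.S.comm_t hk))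
    refine mem_subgroupOf.2 ⟨⟨_, hnorm z z.2⟩, ?_⟩
    show π (ι ⟨_, hnorm z z.2⟩) = (e : X ⧸ N) * n * (e : X ⧸ N)⁻¹
    rw [← hek, ← hz, show κ z = π (ι z) from rfl, ← map_inv, ← map_mul, ← map_mul]
    rfl
  have hCE : E ⊓ centralizer (Nn : Set M) = ⊥ := by
    rw [eq_bot_iff]
    rintro w ⟨hwE, hwc⟩
    obtain ⟨k, hk, e⟩ := memE.1 hwE
    rcases centL k (e ▸ hEt w hwE) (fun z => by
      have := congrArg Subtype.val (mem_centralizer_iff.1 hwc ⟨κ z, hLM z⟩ (mem_subgroupOf.2 ⟨z, rfl⟩))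
      rw [e]; exact this.symm) with h | h
    · exact mem_bot.2 (Subtype.ext (e.symm.trans h))
    · exact absurd ((Subtype.ext (e.symm.trans h) : w = tM) ▸ hwE) htE
  let eN : Nn ≃* Matrix.ProjectiveSpecialLinearGroup (Fin 2) (C.fixF fP) :=
    ((subgroupOfEquivOfLe (by rintro _ ⟨z, rfl⟩; exact hLM z)).trans (MonoidHom.ofInjective κinj).symm).trans eL
  have hcardK : Nat.card (C.fixF fP) ^ orderOf fP = Fintype.card F := C.card_fixF fP
  have hKodd : Odd (Fintype.card (C.fixF fP)) := by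
    refine Odd.of_dvd_nat (show Odd (Fintype.card F) from Nat.odd_iff.2 (by have := C.D.q8; omega)) ?_
    rw [← hcardK, Nat.card_eq_fintype_card]
    exact dvd_pow_self _ (orderOf_pos fP).ne'
  -- orders
  have hPcard : Nat.card N = Nat.card P := Nat.card_congr (subgroupOfEquivOfLe hPX).toEquiv
  have hP1 : 1 < Nat.card P := by
    rw [hP, Nat.card_zpowers, hfdef, C.orderOf_gel]
    have := orderOf_pos fP
    have : orderOf fP ≠ 1 := fun h => hne (orderOf_eq_one_iff.1 h)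
    omega
  have hQX : Nat.card X = Nat.card (X ⧸ N) * Nat.card P := by
    rw [← hPcard]; exact N.card_eq_card_quotient_mul_card_subgroup
  have hlt : Nat.card M < Nat.card G := by
    have h1 : Nat.card M ≤ Nat.card (X ⧸ N) := Subgroup.card_le_card_group M
    have h2 : Nat.card (X ⧸ N) < Nat.card X := by
      rw [hQX]; exact lt_mul_of_one_lt_right Nat.card_pos hP1
    have h3 : Nat.card X ≤ Nat.card G := Subgroup.card_le_card_group X
    omega
  obtain ⟨hconjM, hEN, hord⟩ := jr_order habM htM2 hE hNE hconjN hKodd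
    (by rw [← Nat.card_eq_fintype_card]; omega) eN hCE fun F' _ _ C' => hs M hlt F' C'
  obtain ⟨m, hm1, hKq, hcardM⟩ : ∃ m : ℕ, 1 ≤ m ∧ Fintype.card (C.fixF fP) = 3 ^ (2 * m + 1) ∧
      Nat.card M = (3 ^ (2 * m + 1)) ^ 3 * ((3 ^ (2 * m + 1)) ^ 3 + 1) * (3 ^ (2 * m + 1) - 1) := by
    refine hord.resolve_right fun h => ?_
    rw [← Nat.card_eq_fintype_card] at h
    omega
  rw [← Nat.card_eq_fintype_card] at hKq
  -- counting
  set MX : Subgroup X := M.comap π with hMX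
  set CX : Subgroup X := (centralizer ({C.S.t} : Set G)).subgroupOf X with hCX
  have memCX : ∀ {x : X}, x ∈ CX ↔ (x : G) * C.S.t = C.S.t * x := fun {x} =>
    mem_subgroupOf.trans mem_centralizer_singleton_iff
  have hsup : CX ⊔ MX = ⊤ := by
    rw [eq_top_iff]
    intro x _
    have hz : orderOf (π x * tb * (π x)⁻¹) = 2 := by
      rw [show π x * tb * (π x)⁻¹ = MulAut.conj (π x) tb from rfl, MulEquiv.orderOf_eq, hto]
    obtain ⟨m', hm'⟩ := isConj_iff.1 (hconjM ⟨_, invM _ hz⟩ (by rw [Subgroup.orderOf_mk, hz]))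
    obtain ⟨y, hy⟩ := QuotientGroup.mk'_surjective N (m' : X ⧸ N)
    have e : (m' : X ⧸ N) * tb * (m' : X ⧸ N)⁻¹ = π x * tb * (π x)⁻¹ := congrArg Subtype.val hm'
    rw [← show π y = (m' : X ⧸ N) from hy] at e
    have hc : y⁻¹ * x ∈ CX := memCX.2 (lift_t _ (by
      rw [map_mul, map_inv]
      calc (π y)⁻¹ * π x * tb = (π y)⁻¹ * (π x * tb * (π x)⁻¹) * π x := by group
        _ = tb * ((π y)⁻¹ * π x) := by rw [← e]; group))
    rw [show x = y * (y⁻¹ * x) by group]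
    exact mul_mem (mem_sup_right (show π y ∈ M from (show π y = (m' : X ⧸ N) from hy).symm ▸ m'.2)) (mem_sup_left hc)
  have hc1 : Nat.card CX = 2 * Nat.card (C.L1 fP) * C.e := by
    rw [← Subgroup.card_map_of_injective X.subtype_injective (K := CX), ← C.card_PhiG, ← C.card_vzf fP le_rfl]
    refine Nat.card_congr (Equiv.setCongr (Set.ext fun g => ⟨?_, fun hg => ?_⟩))
    · rintro ⟨x, hx, rfl⟩
      exact C.mem_vzf (Commute.symm (memX.1 x.2)) (memCX.1 hx)
    · obtain ⟨h1, h2, -⟩ := C.vzf_cent hg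
      exact ⟨⟨g, memX.2 h1.symm⟩, memCX.2 h2, rfl⟩
  have hc2 : Nat.card (MX ⊓ CX : Subgroup X) = 2 * Nat.card (C.L1 fP) * Nat.card P := by
    rw [← Subgroup.card_map_of_injective X.subtype_injective (K := MX ⊓ CX), ← C.card_vzf fP hPP]
    refine Nat.card_congr (Equiv.setCongr (Set.ext fun g => ⟨?_, ?_⟩))
    · rintro ⟨x, ⟨hxM, hxC⟩, rfl⟩
      obtain ⟨⟨a, ⟨z, hz⟩, ⟨φ, hφ⟩⟩, e⟩ := C.mem_vzf (Commute.symm (memX.1 x.2)) (memCX.1 hxC)
      change C.tsel a * z * φ = (x : G) at e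
      have hφX : φ ∈ X := memX.2 (C.Phi_comm hφ (C.gel_mem fP))
      have hvX : C.tsel a ∈ X := by cases a; exacts [one_mem _, htX]
      have hvM : π ⟨_, hvX⟩ ∈ M := by
        cases a
        · exact (show π (⟨C.tsel false, hvX⟩ : X) = 1 from map_one π).symm ▸ one_mem _
        · exact htM
      have ex : π x = π ⟨_, hvX⟩ * κ ⟨z, hz⟩ * π ⟨φ, hφX⟩ := by
        show π x = π ⟨_, hvX⟩ * π (ι ⟨z, hz⟩) * π ⟨φ, hφX⟩
        rw [← map_mul, ← map_mul]
        exact congrArg π (Subtype.ext e.symm)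
      have hφM : π ⟨φ, hφX⟩ ∈ M := by
        have := mul_mem (inv_mem (mul_mem hvM (hLM ⟨z, hz⟩))) (show π x ∈ M from hxM)
        rwa [ex, inv_mul_cancel_left] at this
      have hφN : (⟨_, hφM⟩ : M) ∈ Nn := hEN ▸ memE.2 ⟨_, C.Phi_K hφ, rfl⟩
      obtain ⟨z', hz'⟩ := mem_subgroupOf.1 hφN
      have h1 : (z' : G)⁻¹ * φ ∈ P := (hπ _ _).1 hz'
      have h2 : (z' : G) = 1 := C.L1_Phi z'.2 (by
        have := mul_mem hφ (inv_mem (hPP h1))
        rwa [show φ * ((z' : G)⁻¹ * φ)⁻¹ = (z' : G) by group] at this)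
      rw [h2, inv_one, one_mul] at h1
      exact ⟨(a, ⟨z, hz⟩, ⟨φ, h1⟩), e⟩
    · rintro ⟨⟨a, ⟨z, hz⟩, ⟨φ, hφ⟩⟩, rfl⟩
      obtain ⟨h1, h2, -⟩ := C.vzf_cent (fP := fP) ⟨(a, ⟨z, hz⟩, ⟨φ, hPP hφ⟩), rfl⟩
      refine ⟨⟨_, memX.2 h1.symm⟩, ⟨?_, memCX.2 h2⟩, rfl⟩
      show π ⟨C.tsel a * z * φ, _⟩ ∈ M
      have hvX : C.tsel a ∈ X := by cases a; exacts [one_mem _, htX]
      rw [show (⟨C.tsel a * z * φ, memX.2 h1.symm⟩ : X) = ⟨_, hvX⟩ * ι ⟨z, hz⟩ * ⟨φ, hPX hφ⟩ from rfl, map_mul, map_mul,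
        (hπ1 ⟨φ, hPX hφ⟩).2 hφ, mul_one]
      refine mul_mem ?_ (hLM _)
      cases a
      · exact (show π (⟨C.tsel false, hvX⟩ : X) = 1 from map_one π).symm ▸ one_mem _
      · exact htM
  have hc3 : Nat.card MX = Nat.card M * Nat.card P := by
    have h1 := MX.card_mul_index
    rw [hMX, M.index_comap_of_surjective (QuotientGroup.mk'_surjective N), ← hMX, hQX, ← M.card_mul_index] at h1
    exact Nat.eq_of_mul_eq_mul_right (Nat.pos_of_ne_zero (FiniteIndex.index_ne_zero (H := M))) (h1.trans (by ring))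
  haveI : MX.Normal := hMn.comap π
  have hidx : MX.index * Nat.card (MX ⊓ CX : Subgroup X) = Nat.card CX := by
    rw [← relIndex_top_right, ← hsup, relIndex_sup_right, mul_comm]
    have h := (MX.subgroupOf CX).card_mul_index
    rwa [← inf_subgroupOf_right, Nat.card_congr (subgroupOfEquivOfLe inf_le_right).toEquiv, inf_subgroupOf_right] at h
  refine ⟨m, hm1, hKq, ?_⟩
  have hfin : Nat.card X = Nat.card M * C.e := by
    have hpos : 0 < 2 * Nat.card (C.L1 fP) * Nat.card P :=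
      Nat.mul_pos (Nat.mul_pos two_pos Nat.card_pos) Nat.card_pos
    have h1 := MX.card_mul_index
    refine Nat.eq_of_mul_eq_mul_right hpos ?_
    rw [← h1, mul_assoc, ← hc2, hidx, hc1, hc2, hc3]
    ring
  rw [hKq, ← hcardM, hfin, mul_comm]

end Frame

end Cfsg.Agent.Walter.JR
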