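import Cfsg.Agent.Lib.Walter.JR.Quot

/-!
# The fixed points of one element of `Φ` in `L`

For `fP ∈ Φ` the centraliser of `f` in `L` is `L₁ ≅ PSL₂(K)`, `K` the fixed field of `fP`, `|F| = |K| ^ ord(fP)`; an
element of `L₁ Φ` centralising `L₁` lies in `⟨f⟩`.
-/

set_option autoImplicit false
set_option linter.unusedSectionVars false
set_option linter.style.haveILetI false

namespace Cfsg.Agent.Walter.JR

open Subgroup Cfsg.Agent.Char.ReeThree Cfsg.Agent.Char.ReeOrder Cfsg.Agent.Small Cfsg.Agent.Solv.AbelianTwo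

universe u

namespace Frame

variable {G : Type u} [Group G] [Finite G] {F : Type} [Field F] [Fintype F] (C : Frame G F)

/-- `fP` as an element of `G`. -/
abbrev gel (fP : C.Phi) : G := ((fP : C.S.K) : G)

theorem gel_mem (fP : C.Phi) : C.gel fP ∈ C.PhiG := ⟨(fP : C.S.K), fP.2, rfl⟩

theorem orderOf_gel (fP : C.Phi) : orderOf (C.gel fP) = orderOf fP := by
  rw [gel, Subgroup.orderOf_coe, Subgroup.orderOf_coe]

/-- The fixed field. -/
def fixF (fP : C.Phi) : Subfield F where
  carrier := {x | C.alpha fP x = x}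
  zero_mem' := map_zero _
  one_mem' := map_one _
  add_mem' := fun {a b} ha hb => by show C.alpha fP (a + b) = a + b; rw [map_add, ha, hb]
  mul_mem' := fun {a b} ha hb => by show C.alpha fP (a * b) = a * b; rw [map_mul, ha, hb]
  neg_mem' := fun {a} ha => by show C.alpha fP (-a) = -a; rw [map_neg, ha]
  inv_mem' := fun a ha => by show C.alpha fP a⁻¹ = a⁻¹; rw [map_inv₀, ha]

theorem mem_fixF {fP : C.Phi} {x : F} : x ∈ C.fixF fP ↔ C.alpha fP x = x := Iff.rfl

include C in
theorem fix_finrank (P : Subgroup C.Phi) (K : Subfield F)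
    (h : ∀ x : F, x ∈ K → ∀ p ∈ P, C.alpha p x = x) : Nat.card K ^ Nat.card P ≤ Fintype.card F ∧
      ((∀ x : F, (∀ p ∈ P, C.alpha p x = x) → x ∈ K) → Nat.card K ^ Nat.card P = Fintype.card F) := by
  classical
  letI : MulSemiringAction P F := MulSemiringAction.compHom F (C.alpha.comp P.subtype)
  haveI : FaithfulSMul P F := ⟨fun {p q} e => Subtype.ext (C.alpha_inj (RingEquiv.ext e))⟩
  haveI := Fintype.ofFinite P
  have h1 := FixedPoints.finrank_eq_card P F
  have h2 := Module.card_eq_pow_finrank (K := FixedPoints.subfield P F) (V := F)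
  rw [h1, ← Nat.card_eq_fintype_card (α := P), ← Nat.card_eq_fintype_card (α := FixedPoints.subfield P F)] at h2
  have hle : K ≤ FixedPoints.subfield P F := fun x hx p => h x hx p p.2
  refine ⟨h2 ▸ Nat.pow_le_pow_left (Nat.card_le_card_of_injective (fun x : K => (⟨(x : F), hle x.2⟩ :
    FixedPoints.subfield P F)) fun a b e => Subtype.ext (congrArg (fun z : FixedPoints.subfield P F => (z : F)) e)) _, fun hge => ?_⟩
  rw [show K = FixedPoints.subfield P F from le_antisymm hle fun x hx => hge x fun p hp => hx ⟨p, hp⟩, h2]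

theorem alpha_zpowers {fP p : C.Phi} (hp : p ∈ zpowers fP) {x : F} (hx : x ∈ C.fixF fP) : C.alpha p x = x := by
  obtain ⟨n, rfl⟩ := mem_powers_iff_mem_zpowers.2 hp
  clear hp
  show C.alpha (fP ^ n) x = x
  induction n with
  | zero => rw [pow_zero, map_one]; rfl
  | succ n ih => rw [pow_succ, map_mul, RingAut.mul_apply, C.mem_fixF.1 hx, ih]

theorem card_fixF (fP : C.Phi) : Nat.card (C.fixF fP) ^ orderOf fP = Fintype.card F := by
  rw [← Nat.card_zpowers]
  exact (C.fix_finrank (zpowers fP) (C.fixF fP) fun x hx p hp => C.alpha_zpowers hp hx).2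
    fun x hx => hx fP (mem_zpowers _)

/-- Galois. -/
theorem fixF_stab {fP g : C.Phi} (h1 : 1 < Nat.card (C.fixF fP))
    (h : ∀ x ∈ C.fixF fP, C.alpha g x = x) : g ∈ zpowers fP := by
  let S : Subgroup C.Phi :=
    { carrier := {p | ∀ x ∈ C.fixF fP, C.alpha p x = x}
      one_mem' := fun x _ => by rw [map_one]; rfl
      mul_mem' := fun {p q} hp hq x hx => by rw [map_mul, RingAut.mul_apply, hq x hx, hp x hx]
      inv_mem' := fun {p} hp x hx => by
        conv_lhs => rw [← hp x hx, ← RingAut.mul_apply, ← map_mul, inv_mul_cancel, map_one]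
        rfl }
  have hle : zpowers fP ≤ S := fun p hp x hx => C.alpha_zpowers hp hx
  have hS := (C.fix_finrank S (C.fixF fP) fun x hx p hp => hp x hx).1
  rw [← C.card_fixF fP] at hS
  have := (Nat.pow_le_pow_iff_right h1).1 hS
  rw [show zpowers fP = S from eq_of_le_of_card_ge hle (by rw [Nat.card_zpowers]; exact this)]
  exact h

/-- `SL₂(K) → PSL₂(F)`. -/
noncomputable def jK (K : Subfield F) : Matrix.SpecialLinearGroup (Fin 2) K →*
    Matrix.ProjectiveSpecialLinearGroup (Fin 2) F :=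
  PSL2.pr.comp (Matrix.SpecialLinearGroup.map K.subtype)

theorem jK_ker (K : Subfield F) : (jK K).ker = Subgroup.center (Matrix.SpecialLinearGroup (Fin 2) K) := by
  ext A
  rw [MonoidHom.mem_ker, jK, MonoidHom.comp_apply, ← map_one PSL2.pr, PSL2.pr_eq_iff, SL2C.mem_center_iff]
  constructor
  · rintro ⟨ε, hε, h⟩
    have he : ε = K.subtype (A.1 0 0) := by simpa using (congrFun (congrFun h 0) 0).symm
    refine ⟨A.1 0 0, Matrix.ext fun i j => K.subtype.injective ?_⟩
    have := congrFun (congrFun h i) j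
    rw [he] at this
    fin_cases i <;> fin_cases j <;> simpa using this
  · rintro ⟨c, hc⟩
    refine ⟨K.subtype c, ?_, ?_⟩
    · rw [← map_mul, ← map_one K.subtype]
      congr 1
      have hd := A.2
      rw [hc, Matrix.det_smul, Matrix.det_one, mul_one, Fintype.card_fin, pow_two] at hd
      exact hd
    · show A.1.map K.subtype = _
      rw [hc]
      ext i j
      fin_cases i <;> fin_cases j <;> simp

/-- `PSL₂(F) → G`. -/
noncomputable def embP : Matrix.ProjectiveSpecialLinearGroup (Fin 2) F →* G := C.embL.comp C.iso.symm.toMonoidHom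

theorem embP_inj : Function.Injective C.embP := C.embL_inj.comp C.iso.symm.injective

/-- `L₁`. -/
noncomputable def L1 (fP : C.Phi) : Subgroup G := (C.embP.comp (jK (C.fixF fP))).range

theorem L1_iso (fP : C.Phi) :
    Nonempty (C.L1 fP ≃* Matrix.ProjectiveSpecialLinearGroup (Fin 2) (C.fixF fP)) :=
  ⟨(QuotientGroup.quotientKerEquivRange (C.embP.comp (jK (C.fixF fP)))).symm.trans
    (QuotientGroup.quotientMulEquivOfEq (by
      rw [← MonoidHom.comap_ker, (MonoidHom.ker_eq_bot_iff _).2 C.embP_inj, MonoidHom.comap_bot, jK_ker]))⟩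

theorem mem_L1 {fP : C.Phi} {l : C.L} : C.embL l ∈ C.L1 fP ↔ Commute (C.gel fP) (C.embL l) := by
  constructor
  · rintro ⟨A, hA⟩
    have h := C.conj_embL fP l
    have e : C.iso l = jK (C.fixF fP) A := by
      have e1 : C.iso.symm (jK (C.fixF fP) A) = l := C.embL_inj hA
      rw [← e1, C.iso.apply_symm_apply]
    rw [e, show jK (C.fixF fP) A = PSL2.pr (Matrix.SpecialLinearGroup.map (C.fixF fP).subtype A) from rfl,
      Solv.Partition.AutPSL.fieldP_fix (σ := C.alpha fP) (A := Matrix.SpecialLinearGroup.map (C.fixF fP).subtype A)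
        (fun i j => show C.alpha fP ((A.1 i j : C.fixF fP) : F) = _ from (A.1 i j).2),
      ← show jK (C.fixF fP) A = PSL2.pr (Matrix.SpecialLinearGroup.map (C.fixF fP).subtype A) from rfl, ← e,
      C.iso.symm_apply_apply, mul_inv_eq_iff_eq_mul] at h
    exact h
  · intro hc
    obtain ⟨A, hA⟩ := PSL2.pr_surjective (C.iso l)
    have h := C.conj_embL fP l
    rw [hc.eq, mul_inv_cancel_right] at h
    have h' := congrArg C.iso (C.embL_inj h)
    rw [C.iso.apply_symm_apply, ← hA] at h'
    -- the entries are fixed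
    have hfix : ∀ i j, C.alpha fP (A.1 i j) = A.1 i j := by
      intro i j
      set σ := C.alpha fP with hσ
      obtain ⟨ε, hε, he⟩ := (PSL2.pr_eq_iff _ _).1 h'.symm
      have he' : ∀ i j, σ (A.1 i j) = ε * A.1 i j := fun i j => by
        have := congrFun (congrFun he i) j
        rw [Matrix.smul_apply, smul_eq_mul] at this
        exact this
      rcases mul_self_eq_one_iff.1 hε with rfl | rfl
      · rw [he', one_mul]
      have hpow : ∀ k : ℕ, (σ ^ k) (A.1 i j) = (-1) ^ k * A.1 i j := by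
        intro k
        induction k with
        | zero => simp
        | succ k ih =>
          rw [pow_succ' σ, RingAut.mul_apply, ih, map_mul, map_pow, map_neg, map_one, he', pow_succ]
          ring
      have ho : Odd (orderOf σ) := C.odd.of_dvd_nat ((orderOf_map_dvd _ fP).trans (_root_.orderOf_dvd_natCard fP))
      have h1 := hpow (orderOf σ)
      rw [pow_orderOf_eq_one, ho.neg_one_pow, RingAut.one_apply] at h1
      have h0 : A.1 i j = 0 := by
        rcases mul_eq_zero.1 (show (2 : F) * A.1 i j = 0 by linear_combination h1) with h | h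
        · exact absurd h C.two_ne
        · exact h
      rw [h0, map_zero]
    refine ⟨⟨Matrix.of fun i j => ⟨A.1 i j, hfix i j⟩, (C.fixF fP).subtype.injective ?_⟩, ?_⟩
    · rw [RingHom.map_det, map_one]
      exact A.2
    · show C.embL (C.iso.symm (PSL2.pr _)) = _
      conv_rhs => rw [← C.iso.symm_apply_apply l, ← hA]
      rfl

theorem mem_L1_le {fP : C.Phi} {y : G} (hy : y ∈ C.L1 fP) : ∃ l : C.L, C.embL l = y ∧ Commute (C.gel fP) y := by
  obtain ⟨A, rfl⟩ := hy
  exact ⟨_, rfl, C.mem_L1.1 ⟨A, rfl⟩⟩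

theorem L1_norm_Phi {fP : C.Phi} {φ y : G} (hφ : φ ∈ C.PhiG) (hy : y ∈ C.L1 fP) : φ * y * φ⁻¹ ∈ C.L1 fP := by
  obtain ⟨l, rfl, hc⟩ := C.mem_L1_le hy
  obtain ⟨a, ha, rfl⟩ := hφ
  have e := C.conj_embL ⟨a, ha⟩ l
  have hcf : Commute (C.gel fP) (a : G) := C.Phi_comm (C.gel_mem fP) ⟨a, ha, rfl⟩
  have h2 : Commute (C.gel fP) ((a : G) * C.embL l * (a : G)⁻¹) := (hcf.mul_right hc).mul_right hcf.inv_right
  rw [show C.S.K.subtype a * C.embL l * (C.S.K.subtype a)⁻¹ = (a : G) * C.embL l * (a : G)⁻¹ from rfl]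
  rw [e] at h2 ⊢
  exact C.mem_L1.2 h2

/-- What centralises `L₁` in `L₁ Φ`. -/
theorem Phi_cent_L1 {fP g : C.Phi} (h5 : 5 < Nat.card (C.fixF fP)) {z : G} (hz : z ∈ C.L1 fP)
    (hc : ∀ y ∈ C.L1 fP, Commute (z * C.gel g) y) : z = 1 ∧ g ∈ zpowers fP := by
  classical
  set K := C.fixF fP
  obtain ⟨A, rfl⟩ := hz
  have hσK : ∀ {x : F}, x ∈ K → C.alpha g x ∈ K := fun {x} hx => by
    show C.alpha fP (C.alpha g x) = C.alpha g x
    have e : fP * g = g * fP := Subtype.ext (Subtype.ext (C.Phi_comm (C.gel_mem fP) (C.gel_mem g)))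
    rw [← RingAut.mul_apply, ← map_mul, e, map_mul, RingAut.mul_apply, C.mem_fixF.1 hx]
  let τ : K ≃+* K := RingEquiv.ofBijective
    ((((C.alpha g : F ≃+* F) : F →+* F).comp K.subtype).codRestrict K fun x => hσK x.2)
    (Finite.injective_iff_bijective.1 fun a b e => Subtype.ext ((C.alpha g).injective (congrArg Subtype.val e)))
  have hj : ∀ B, PSL2.fieldP (C.alpha g) (jK K B) = jK K (PSL2.fieldSL τ B) := fun B => by
    rw [jK, MonoidHom.comp_apply, MonoidHom.comp_apply, PSL2.fieldP_apply]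
    exact congrArg _ (Subtype.ext rfl)
  have key : MulAut.conj (PSL2.pr A) * PSL2.fieldP τ = 1 := by
    refine MulEquiv.ext fun p => ?_
    obtain ⟨B, rfl⟩ := PSL2.pr_surjective p
    rw [MulAut.mul_apply, PSL2.fieldP_apply, MulAut.conj_apply, MulAut.one_apply, ← map_inv, ← map_mul, ← map_mul,
      ← inv_mul_eq_one, ← map_inv, ← map_mul, PSL2.pr, QuotientGroup.mk'_apply, QuotientGroup.eq_one_iff, ← jK_ker K,
      MonoidHom.mem_ker, map_mul, map_inv, inv_mul_eq_one]
    apply C.embP_inj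
    have e := (hc _ ⟨B, rfl⟩).eq
    have e2 := C.conj_embL g (C.iso.symm (jK K B))
    rw [C.iso.apply_symm_apply, hj] at e2
    rw [map_mul, map_mul, map_inv, map_mul, map_mul, map_inv]
    show C.embP (jK K A) * C.embL (C.iso.symm (jK K (PSL2.fieldSL τ B))) * (C.embP (jK K A))⁻¹ = _
    rw [← e2]
    change C.embP (jK K A) * C.gel g * C.embP (jK K B) = C.embP (jK K B) * (C.embP (jK K A) * C.gel g) at e
    show C.embP (jK K A) * (C.gel g * C.embP (jK K B) * (C.gel g)⁻¹) * (C.embP (jK K A))⁻¹ = _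
    rw [show C.embP (jK K A) * (C.gel g * C.embP (jK K B) * (C.gel g)⁻¹) * (C.embP (jK K A))⁻¹ =
      C.embP (jK K A) * C.gel g * C.embP (jK K B) * (C.embP (jK K A) * C.gel g)⁻¹ by group, e, mul_inv_cancel_right]
  rw [← PSL2.conjP_toGL, mul_eq_one_iff_eq_inv, ← map_inv] at key
  have hτ1 : τ = 1 := inv_eq_one.1 (PSL2.field_eq_one key).1
  refine ⟨?_, C.fixF_stab (show 1 < Nat.card K by omega) fun x hx =>
    (congrArg Subtype.val (DFunLike.congr_fun hτ1 (⟨x, hx⟩ : K)) :)⟩
  rw [hτ1, inv_one, map_one, PSL2.conjP_toGL] at key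
  haveI := Fintype.ofFinite K
  haveI : IsSimpleGroup (Matrix.ProjectiveSpecialLinearGroup (Fin 2) K) :=
    S0810.psl_simple_big (by rw [← Nat.card_eq_fintype_card]; omega)
  have hmem : PSL2.pr A ∈ center (Matrix.ProjectiveSpecialLinearGroup (Fin 2) K) := mem_center_iff.2 fun p => by
    have := DFunLike.congr_fun key p
    rw [MulAut.conj_apply, MulAut.one_apply, mul_inv_eq_iff_eq_mul] at this
    exact this.symm
  rcases (inferInstance : (center (Matrix.ProjectiveSpecialLinearGroup (Fin 2) K)).Normal).eq_bot_or_eq_top with h | h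
  · rw [h, mem_bot, PSL2.pr, QuotientGroup.mk'_apply, QuotientGroup.eq_one_iff, ← jK_ker K, MonoidHom.mem_ker] at hmem
    rw [MonoidHom.comp_apply, hmem, map_one]
  · refine absurd (Group.isSolvable_of_comm fun a b => mem_center_iff.1 (h ▸ mem_top b :
      b ∈ center (Matrix.ProjectiveSpecialLinearGroup (Fin 2) K)) a) (S0810.psl_not_solvable (F := K) ?_)
    rw [← Nat.card_eq_fintype_card]; omega

end Frame

end Cfsg.Agent.Walter.JR
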