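import Cfsg.Agent.Lib.Walter.JR.Support
import Cfsg.Agent.Lib.Char.ReeOrder.Cases

/-!
# The abstract data of one `μ`

The characters belonging to `μ` carry exactly the data of `ReeOrder.Rows`; for the trivial `μ` they carry
`ReeOrder.Coords` with `g = |G| / e`.
-/

set_option autoImplicit false
set_option linter.unusedSectionVars false
set_option linter.unusedSimpArgs false
set_option linter.style.haveILetI false
set_option maxHeartbeats 800000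

open Cfsg
open scoped ComplexConjugate Classical

namespace Cfsg.Agent.Walter.JR

open Subgroup Cfsg.Agent.Char Cfsg.Agent.Char.ReeThree Cfsg.Agent.Char.ReeOrder

universe u

namespace Frame

variable {G : Type u} [Group G] [Finite G] {F : Type} [Field F] [Fintype F] (C : Frame G F) [Fintype G]

/-- The signed `q`. -/
abbrev sQ : ℤ := C.D.ε * Fintype.card F

/-- The constant of the equations. -/
noncomputable def kap : ℚ := (C.D.ε : ℚ) * (Nat.card C.S.C : ℚ) ^ 2 / ((C.e : ℚ) * (Nat.card G : ℚ))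

theorem h_int' : C.sQ - 1 = 2 * ((C.sQ - 1) / 2) := by
  have := Nat.odd_iff.1 C.D.q_odd
  rcases C.D.hε with h | h <;> simp only [sQ, h] <;> omega

theorem card_CK : Nat.card C.S.C = C.e * (Fintype.card F * (Fintype.card F ^ 2 - 1)) := by
  rw [C.S.card_C, C.card_K, ← C.D.card_P]; ring

theorem gen_ind {f : C.L → ℂ} (h : IsGeneralizedCharacter C.L f) :
    IsGeneralizedCharacter C.S.K (indFun C.L f) := by
  obtain ⟨a, b, ha, hb, rfl⟩ := h
  exact ⟨_, _, isCharacter_indFun _ ha, isCharacter_indFun _ hb, indFun_sub _ _ _⟩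

/-- The coordinates of `Ind Z_ψ` in `K`. -/
noncomputable def zc (ψ : C.D.A →* ℂˣ) (ξ : IrrCharacter C.S.K) : ℤ := coord (indFun C.L (C.D.Zf ψ)) ξ

/-- One index for each constituent, with multiplicity. -/
abbrev ZAll : Type u := Σ p : {ψ : C.D.A →* ℂˣ // ψ ∈ C.D.hA} × IrrCharacter C.S.K, Fin (C.zc p.1.1 p.2).natAbs

/-- The signed vector of an index. -/
noncomputable def zv (i : C.ZAll) : IrrCharacter G → ℤ :=
  fun χ => (C.zc i.1.1.1 i.1.2).sign * C.LL (i.1.2 : C.S.K → ℂ) χ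

theorem zc_ne (i : C.ZAll) : C.zc i.1.1.1 i.1.2 ≠ 0 := fun h => by
  have := i.2.pos
  omega

theorem gen_irr (ξ : IrrCharacter C.S.K) : IsGeneralizedCharacter C.S.K (ξ : C.S.K → ℂ) :=
  gen_of_char (irr_isCharacter ξ.2)

theorem sum_zv (χ : IrrCharacter G) : ((∑ i, C.zv i χ : ℤ) : ℂ) =
    ∑ ψ ∈ C.D.hA, classInner (indFun C.L (C.D.Zf ψ)) (C.tf χ) := by
  rw [← Finset.sum_coe_sort C.D.hA, Fintype.sum_sigma, Fintype.sum_prod_type, Int.cast_sum]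
  refine Finset.sum_congr rfl fun ψ _ => ?_
  conv_rhs => rw [coord_expand (C.gen_ind (C.D.gen_Zf ψ.1)), classInner_sum_left]
  rw [Int.cast_sum]
  refine Finset.sum_congr rfl fun ξ _ => ?_
  rw [classInner_smul_left, ← C.LL_cast (C.gen_irr ξ)]
  simp only [zv, Finset.sum_const, Finset.card_univ, Fintype.card_fin, nsmul_eq_mul]
  rw [← mul_assoc, mul_comm (((C.zc ψ.1 ξ).natAbs : ℤ)), Int.sign_mul_natAbs, Int.cast_mul]
  rfl

namespace Dat

variable {C} (d : C.Dat) (μ : C.Phi →* ℂˣ)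

/-- The invariant non-trivial characters of `B`. -/
abbrev Th (_ : C.Dat) : Type u := {θ : C.D.B →* ℂˣ // θ ≠ 1 ∧ C.Inv θ}

/-- The constituents meeting the characters of `μ`. -/
abbrev Zi : Type u := {i : C.ZAll // ∃ χ, d.InJ μ χ ∧ C.zv i χ ≠ 0}

/-- The sum of the `Y`. -/
noncomputable def yS (χ : IrrCharacter G) : ℤ :=
  ∑ θ ∈ C.D.hB.filter (fun θ => C.Inv θ), d.fY μ θ χ

/-- The value at `t`. -/
noncomputable def vv (χ : IrrCharacter G) : ℤ :=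
  d.fF μ 0 χ + (C.sQ - 1) / 2 * (d.fF μ 1 χ + d.fF μ 2 χ) + (C.sQ - 1) * d.yS μ χ +
    (C.sQ + 1) * ∑ i : d.Zi μ, C.zv i.1 χ

theorem zv_props (i : C.ZAll) :
    (∀ z, ¬ Odd (orderOf z) → (i.1.2 : C.S.K → ℂ) z = 0) ∧
    (∀ k ν, classInner (i.1.2 : C.S.K → ℂ) (C.Fmu d.M k ν) = 0) ∧
    (∀ θ ν, θ ≠ 1 → classInner (i.1.2 : C.S.K → ℂ) (C.Yt d.M θ ν) = 0) ∧
    classInner (i.1.2 : C.S.K → ℂ) C.rrK = 0 := by
  have hc : classInner (indFun C.L (C.D.Zf i.1.1.1)) (i.1.2 : C.S.K → ℂ) ≠ 0 := by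
    rw [coord_spec (C.gen_ind (C.D.gen_Zf _))]
    exact_mod_cast C.zc_ne i
  obtain ⟨h1, h2, h3, h4⟩ := C.above_zero d.hM d.hco (C.D.hA_spec.1 _ i.1.1.2) hc
  refine ⟨h1, fun k ν => ?_, h3, h4⟩
  rw [Fmu, classInner_sum_right, Finset.sum_eq_zero fun j _ => ?_]
  rw [classInner_smul_right, h2, mul_zero]

include d in
theorem zv_LL (i : C.ZAll) {Φ : C.S.K → ℂ} (hg : IsGeneralizedCharacter C.S.K Φ) (hcl : IsClassFunction C.S.K Φ)
    (ho : ∀ z, ¬ Odd (orderOf z) → Φ z = 0) (h : classInner (i.1.2 : C.S.K → ℂ) Φ = 0) :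
    ∑ χ, C.zv i χ * C.LL Φ χ = 0 := by
  have h' := C.LL_gram (C.gen_irr i.1.2) hg hcl (d.zv_props i).1 ho
  rw [h, mul_zero, Int.cast_eq_zero] at h'
  simp only [zv, mul_assoc, ← Finset.mul_sum, h', mul_zero]

include d in
theorem zv_norm (i : C.ZAll) : ∑ χ, C.zv i χ * C.zv i χ = 2 := by
  have h := C.LL_gram (C.gen_irr i.1.2) (C.gen_irr i.1.2)
    (isClassFunction_character (irr_isCharacter i.1.2.2)) (d.zv_props i).1 (d.zv_props i).1
  rw [irr_self i.1.2.2, mul_one] at h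
  have h2 : ∑ χ, C.LL (i.1.2 : C.S.K → ℂ) χ * C.LL (i.1.2 : C.S.K → ℂ) χ = 2 := by exact_mod_cast h
  have hs : (C.zc i.1.1.1 i.1.2).sign * (C.zc i.1.1.1 i.1.2).sign = 1 := by
    rcases lt_or_gt_of_ne (C.zc_ne i) with h | h
    · rw [Int.sign_eq_neg_one_of_neg h]; rfl
    · rw [Int.sign_eq_one_of_pos h]; rfl
  simp only [zv, mul_mul_mul_comm _ (C.LL _ _), hs, one_mul, h2]

theorem zv_ort (i : C.ZAll) (Φ : C.S.K → ℂ) (hΦ : d.Foreign μ Φ) : ∑ χ, C.zv i χ * C.LL Φ χ = 0 := by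
  rcases hΦ with ⟨k, ν, -, rfl⟩ | ⟨θ, ν, hθ, -, rfl⟩
  · exact d.zv_LL i (C.gen_Fmu k ν) (C.cl_Fmu k ν) (fun z hz => C.Fmu_even d.hM k ν hz) ((d.zv_props i).2.1 k ν)
  · exact d.zv_LL i (C.gen_Yt θ ν) (C.cl_Yt θ ν) (fun z hz => C.Yt_even d.hM θ ν hz)
      ((d.zv_props i).2.2.1 θ ν hθ)

theorem zv_inJ (i : d.Zi μ) {χ : IrrCharacter G} (h : C.zv i.1 χ ≠ 0) : d.InJ μ χ := by
  obtain ⟨χ0, h0, h1⟩ := i.2
  refine d.supp_inJ μ _ (d.zv_ort μ i.1) ?_ h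
  refine le_trans (d.out_le μ (d.zv_norm i.1) {χ0} ?_) (by norm_num)
  intro x hx
  rw [Finset.mem_singleton.1 hx]
  exact ⟨h0, h1⟩

theorem vv_outside {χ : IrrCharacter G} (h : ¬ d.InJ μ χ) : d.vv μ χ = 0 := by
  have hf : ∀ k, d.fF μ k χ = 0 := fun k => by
    by_contra e
    exact h (d.fF_inJ μ e)
  have hy : d.yS μ χ = 0 := Finset.sum_eq_zero fun θ hθ => by
    by_contra e
    exact h (d.fY_inJ μ (C.D.hB_spec.1 θ (Finset.mem_filter.1 hθ).1) (Finset.mem_filter.1 hθ).2 e)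
  rw [vv, hf, hf, hf, hy, Finset.sum_eq_zero fun i _ => by
    by_contra e
    exact h (d.zv_inJ μ i e)]
  ring

/-- The value at `t` of a character belonging to `μ`. -/
theorem t_val {χ : IrrCharacter G} (hJ : d.InJ μ χ) : (χ : G → ℂ) C.S.t = (d.vv μ χ : ℂ) := by
  haveI := C.hL
  set r : C.L → ℂ := fun l => C.tf χ l with hr
  have hfrob : ∀ f : C.L → ℂ, classInner (indFun C.L f) (C.tf χ) = classInner f r := fun f =>
    Cfsg.Agent.Char.frobenius _ _ (C.cl_tf χ)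
  have hF : ∀ k, classInner (C.Q4.Fk k) r = (d.fF μ k χ : ℂ) := fun k => by
    rw [← hfrob, show indFun C.L (C.Q4.Fk k) = C.IF k from rfl, ← C.sum_Fmu d.hM, classInner_sum_left,
      Finset.sum_eq_single μ]
    · rw [fF, C.LL_cast (C.gen_Fmu k μ)]
    · intro ν _ hν
      rw [← C.LL_cast (C.gen_Fmu k ν), hJ _ (Or.inl ⟨k, ν, hν, rfl⟩), Int.cast_zero]
    · exact fun h => absurd (Finset.mem_univ μ) h
  have hY : ∀ θ, θ ≠ 1 → classInner (C.D.Yf θ) r = if C.Inv θ then (d.fY μ θ χ : ℂ) else 0 := fun θ hθ => by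
    have hidx : ((C.stab θ).index : ℂ) ≠ 0 := Nat.cast_ne_zero.2 Subgroup.index_ne_zero_of_finite
    have e : ((C.stab θ).index : ℂ) * classInner (C.D.Yf θ) r = ∑ ν, (C.LL (C.Yt d.M θ ν) χ : ℂ) := by
      rw [← hfrob, ← classInner_smul_left, ← C.sum_Yt d.hM, classInner_sum_left]
      exact Finset.sum_congr rfl fun ν _ => (C.LL_cast (C.gen_Yt θ ν) χ).symm
    split_ifs with hi
    · rw [show C.stab θ = ⊤ from hi, Subgroup.index_top, Nat.cast_one, one_mul, Finset.sum_eq_single μ] at e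
      · exact e
      · intro ν _ hν
        rw [hJ _ (Or.inr ⟨θ, ν, hθ, fun _ => hν, rfl⟩), Int.cast_zero]
      · exact fun h => absurd (Finset.mem_univ μ) h
    · rw [Finset.sum_eq_zero fun ν _ => by
        rw [hJ _ (Or.inr ⟨θ, ν, hθ, fun h => absurd h hi, rfl⟩), Int.cast_zero]] at e
      exact (mul_eq_zero.1 e).resolve_left hidx
  have hZ : ((∑ i : d.Zi μ, C.zv i.1 χ : ℤ) : ℂ) = ∑ ψ ∈ C.D.hA, classInner (C.D.Zf ψ) r := by
    have e : ∑ i : d.Zi μ, C.zv i.1 χ = ∑ i, C.zv i χ := by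
      rw [← Finset.sum_filter_of_ne (p := fun i => ∃ χ, d.InJ μ χ ∧ C.zv i χ ≠ 0) fun i _ hi => ⟨χ, hJ, hi⟩]
      exact (Finset.sum_subtype (p := fun i => ∃ χ, d.InJ μ χ ∧ C.zv i χ ≠ 0) _ (fun i => by simp)
        fun i => C.zv i χ).symm
    rw [e, C.sum_zv]
    exact Finset.sum_congr rfl fun ψ _ => hfrob _
  have hh : (((C.sQ - 1) / 2 : ℤ) : ℂ) = ((C.D.ε : ℂ) * Fintype.card F - 1) / 2 := by
    have h := congrArg (fun x : ℤ => (x : ℂ)) C.h_int'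
    simp only [sQ] at h ⊢
    push_cast at h
    rw [h]; ring
  have hYs : ∑ θ ∈ C.D.hB, classInner (C.D.Yf θ) r = (d.yS μ χ : ℂ) := by
    rw [yS, Int.cast_sum, Finset.sum_filter]
    exact Finset.sum_congr rfl fun θ hθ => hY θ (C.D.hB_spec.1 θ hθ)
  have key : (d.vv μ χ : ℂ) = conj ((χ : G → ℂ) C.S.t) := by
    rw [vv, Int.cast_add, Int.cast_add, Int.cast_add, Int.cast_mul, Int.cast_mul, Int.cast_mul, Int.cast_add, hh,
      ← hF, ← hF, ← hF, hZ, ← hYs]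
    have e : ∀ f : C.L → ℂ, classInner f r = (Nat.card C.L : ℂ)⁻¹ * ∑ l, f l * conj (r l) := fun f => rfl
    simp only [e, KFacts.Four.Fk, Matrix.cons_val_zero, Matrix.cons_val_one, Matrix.cons_val]
    simp only [← Finset.mul_sum]
    rw [Finset.sum_comm, Finset.sum_comm (s := C.D.hA)]
    simp only [Finset.mul_sum, ← Finset.sum_add_distrib]
    rw [Finset.sum_congr rfl (g := fun l => if l = 1 then conj ((χ : G → ℂ) C.S.t) else 0) fun l _ => ?_,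
      Finset.sum_ite_eq', if_pos (Finset.mem_univ _)]
    have hreg := C.D.regular l
    simp only [← Finset.mul_sum, ← Finset.sum_mul, sQ] at hreg ⊢
    push_cast
    split_ifs at hreg ⊢ with h1
    · subst h1
      have hL0 : (Nat.card C.L : ℂ) ≠ 0 := Nat.cast_ne_zero.2 Nat.card_pos.ne'
      have hr1 : r 1 = (χ : G → ℂ) C.S.t := by simp [hr, tf]
      rw [hr1]
      field_simp
      linear_combination (conj ((χ : G → ℂ) C.S.t)) * 2 * hreg
    · linear_combination ((Nat.card C.L : ℂ)⁻¹ * conj (r l)) * hreg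
  have h := congrArg conj key
  rw [Complex.conj_conj, map_intCast] at h
  exact h.symm

/-- An equation, read on the characters of `μ`. -/
theorem to_equation {f : IrrCharacter G → ℤ} (hf : ∀ χ, f χ ≠ 0 → d.InJ μ χ) :
    (((∑ χ, (f χ : ℚ) * (d.vv μ χ : ℚ) ^ 2 / (d.dJ μ χ : ℚ)) : ℚ) : ℂ) =
      ∑ χ, (f χ : ℂ) * (χ : G → ℂ) C.S.t ^ 2 / (deg (χ : G → ℂ) : ℂ) := by
  push_cast
  refine Finset.sum_congr rfl fun χ _ => ?_
  by_cases h : f χ = 0
  · simp [h]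
  · rw [d.t_val μ (hf χ h), dJ, if_pos (hf χ h)]

theorem zv_eq (i : d.Zi μ) : ∑ χ, (C.zv i.1 χ : ℚ) * (d.vv μ χ : ℚ) ^ 2 / (d.dJ μ χ : ℚ) = 0 := by
  apply Rat.cast_injective (α := ℂ)
  rw [d.to_equation μ fun χ h => d.zv_inJ μ i h, Rat.cast_zero]
  have h := C.equation' (C.gen_irr i.1.1.2)
  rw [(d.zv_props i.1).2.2.2, mul_zero] at h
  simp only [zv, Int.cast_mul, mul_assoc, mul_div_assoc, ← Finset.mul_sum] at h ⊢
  rw [h, mul_zero]

theorem fY_of_dd {θ φ : C.D.B →* ℂˣ} (hθ : θ ≠ 1) (hθi : C.Inv θ) (hφ : φ ≠ 1) (hφi : C.Inv φ) (h : dd θ φ ≠ 0) :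
    d.fY μ θ = d.fY μ φ := by
  have h1 : delta2 θ φ = 1 := by
    rw [← dd_cast, (C.dd_le' hθ φ).resolve_left h, Int.cast_one]
  rw [fY, fY, C.Yt_of_delta hθ hφ hθi hφi d.hM d.hco h1]

/-- The `Y` outside an orbit vanish on it. -/
theorem fY_rel {θ φ : C.D.B →* ℂˣ} (hθ : θ ≠ 1) (hθi : C.Inv θ) (hφ : φ ≠ 1) (hφi : C.Inv φ)
    (h : ∀ k, dd (d.R.orb θ k) φ = 0) {χ : IrrCharacter G} (hχ : d.fY μ θ χ ≠ 0) : d.fY μ φ χ = 0 := by
  refine (d.triple μ hθ hθi).supp_zero _ (le_of_eq ?_) (d.fY_deg μ hφ hφi) (fun k => ?_)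
    (by simpa [Rot.orb] using hχ)
  · simp only [pow_two, d.fY_gram μ hφ hφi hφ hφi, C.dd_self' hφ]; norm_num
  · rw [d.fY_gram μ (d.R.orb_ne hθ k) (d.R.orb_inv hθi k) hφ hφi, h k, mul_zero]

theorem yS_orbit {θ : C.D.B →* ℂˣ} (hθ : θ ≠ 1) (hθi : C.Inv θ) {χ : IrrCharacter G} (hχ : d.fY μ θ χ ≠ 0) :
    d.yS μ χ = ∑ k, d.fY μ (d.R.orb θ k) χ := by
  have hone : ∀ φ ∈ C.D.hB.filter (fun φ => C.Inv φ),
      d.fY μ φ χ = ∑ k, dd φ (d.R.orb θ k) * d.fY μ (d.R.orb θ k) χ := by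
    intro φ hφ
    obtain ⟨hφB, hφi⟩ := Finset.mem_filter.1 hφ
    have hφ1 := C.D.hB_spec.1 φ hφB
    by_cases h : ∀ k, dd (d.R.orb θ k) φ = 0
    · rw [d.fY_rel μ hθ hθi hφ1 hφi h hχ, Finset.sum_eq_zero fun k _ => by rw [C.dd_symm', h k, zero_mul]]
    · push Not at h
      obtain ⟨k, hk⟩ := h
      rw [C.dd_symm'] at hk
      have hother : ∀ l, l ≠ k → dd φ (d.R.orb θ l) = 0 := by
        intro l hl
        by_contra hl'
        have e1 := d.fY_of_dd μ hφ1 hφi (d.R.orb_ne hθ k) (d.R.orb_inv hθi k) hk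
        have e2 := d.fY_of_dd μ hφ1 hφi (d.R.orb_ne hθ l) (d.R.orb_inv hθi l) hl'
        have := (d.triple μ hθ hθi).orth k l (Ne.symm hl)
        simp only [← e1, ← e2, d.fY_gram μ hφ1 hφi hφ1 hφi, C.dd_self' hφ1] at this
        norm_num at this
      rw [Finset.sum_eq_single k (fun l _ hl => by rw [hother l hl, zero_mul])
        (fun h => absurd (Finset.mem_univ k) h), (C.dd_le' hφ1 _).resolve_left hk, one_mul,
        d.fY_of_dd μ hφ1 hφi (d.R.orb_ne hθ k) (d.R.orb_inv hθi k) hk]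
  rw [yS, Finset.sum_congr rfl hone, Finset.sum_comm]
  refine Finset.sum_congr rfl fun k _ => ?_
  rw [← Finset.sum_mul]
  have : ∑ φ ∈ C.D.hB.filter (fun φ => C.Inv φ), dd φ (d.R.orb θ k) = 1 := by
    rw [Finset.sum_filter_of_ne fun φ _ hne => by
      by_contra hn
      exact hne (C.dd_inv_zero hn (d.R.orb_inv hθi k))]
    apply Int.cast_injective (α := ℂ)
    push_cast
    simp only [dd_cast]
    rw [KD.sum_delta2 (X := C.D.B →* ℂˣ) C.D.hB_spec.1 C.D.hB_spec.2, if_neg (d.R.orb_ne hθ k)]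
  rw [this, one_mul]

theorem eq_rr (f : IrrCharacter G → ℤ) (hf : ∀ χ, f χ ≠ 0 → d.InJ μ χ) {Φ : C.S.K → ℂ}
    (hΦ : IsGeneralizedCharacter C.S.K Φ) (he : f = C.LL Φ) {x : ℂ} (hx : (C.e : ℂ) * classInner Φ C.rrK = x) :
    (((∑ χ, (f χ : ℚ) * (d.vv μ χ : ℚ) ^ 2 / (d.dJ μ χ : ℚ)) : ℚ) : ℂ) =
      (C.D.ε : ℂ) * (C.kap : ℂ) * x := by
  rw [d.to_equation μ hf, he, C.equation' hΦ, ← hx, kap]
  have hG : (Nat.card G : ℂ) ≠ 0 := Nat.cast_ne_zero.2 Nat.card_pos.ne'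
  have hE : (C.e : ℂ) ≠ 0 := Nat.cast_ne_zero.2 Nat.card_pos.ne'
  push_cast
  field_simp
  linear_combination (-(classInner Φ C.rrK)) * C.D.εC_sq

include d in
theorem eps_ne : (C.D.ε : ℂ) * Fintype.card F + 1 ≠ 0 := by
  have : C.D.ε * (Fintype.card F : ℤ) + 1 ≠ 0 := by
    have := C.D.q5
    rcases C.D.hε with h | h <;> rw [h] <;> omega
  exact_mod_cast this

/-- The data of `μ`. -/
noncomputable def rows : Rows (IrrCharacter G) d.Th (d.Zi μ) where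
  Q := C.sQ
  h := (C.sQ - 1) / 2
  b := C.D.b
  kap := C.kap
  d := d.dJ μ
  v := d.vv μ
  f := d.fF μ
  yS := d.yS μ
  z := fun i => C.zv i.1
  T := fun θ k => d.fY μ (d.R.orb θ.1 k)
  c := fun θ => d.fc μ θ.1
  θ0 := ⟨(C.exists_theta0 d.h0 d.hco).choose, (C.exists_theta0 d.h0 d.hco).choose_spec⟩
  hQh := by
    have := C.h_int'
    omega
  hQ := by
    have := C.D.hb
    have := C.D.ha
    have := C.D.q8
    have := C.D.q5
    have := Nat.odd_iff.1 C.D.a_odd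
    rcases C.D.hε with h | h <;> simp only [sQ, h] at * <;> omega
  hQ8 := by
    have := C.D.hb
    have := C.D.ha
    have := C.D.q8
    have := Nat.odd_iff.1 C.D.a_odd
    rcases C.D.hε with h | h <;> simp only [sQ, h] at * <;> omega
  hb := by
    have := C.D.hb
    rcases C.D.hε with h | h <;> simp only [sQ, h] at * <;> omega
  hb6 := C.b_mod' d.R d.h0
  dpos := d.dJ_pos μ
  hv := fun χ => rfl
  fnorm := fun k => by simp [pow_two, d.fF_gram μ]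
  fdeg := fun k => d.fF_deg μ k
  ff := fun k l h => by simp [d.fF_gram μ, h]
  znorm := fun i => by simpa [pow_two] using d.zv_norm i.1
  zdeg := fun i => by
    rw [d.sum_dJ μ fun χ h => d.zv_inJ μ i h]
    simp only [zv, mul_assoc, ← Finset.mul_sum, C.LL_deg (C.gen_irr _), mul_zero]
  zf := fun i k => d.zv_LL i.1 (C.gen_Fmu k μ) (C.cl_Fmu k μ) (fun z hz => C.Fmu_even d.hM k μ hz)
    ((d.zv_props i.1).2.1 k μ)
  zT := fun i θ χ hχ => by
    refine (d.triple μ θ.2.1 θ.2.2).supp_zero _ ?_ ?_ (fun k => ?_) hχ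
    · simp only [pow_two, d.zv_norm i.1]; norm_num
    · rw [d.sum_dJ μ fun χ h => d.zv_inJ μ i h]
      simp only [zv, mul_assoc, ← Finset.mul_sum, C.LL_deg (C.gen_irr _), mul_zero]
    · exact (Finset.sum_congr rfl fun χ _ => mul_comm _ _).trans
        (d.zv_LL i.1 (C.gen_Yt (d.R.orb θ.1 k) μ) (C.cl_Yt _ μ) (fun z hz => C.Yt_even d.hM _ μ hz)
          ((d.zv_props i.1).2.2.1 _ μ (d.R.orb_ne θ.2.1 k)))
  triple := fun θ => d.triple μ θ.2.1 θ.2.2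
  fT := fun k θ χ hχ => d.F_off_T μ θ.2.1 θ.2.2 k (by simpa [Rot.orb] using hχ)
  yF := fun k χ hχ => Finset.sum_eq_zero fun θ hθ => by
    by_contra h
    exact hχ (d.F_off_T μ (C.D.hB_spec.1 θ (Finset.mem_filter.1 hθ).1) (Finset.mem_filter.1 hθ).2 k h)
  yT := fun θ χ hχ => by
    rw [d.yS_orbit μ θ.2.1 θ.2.2 (by simpa [Rot.orb] using hχ), Fin.sum_univ_three]
  ysup := fun χ hχ => by
    obtain ⟨θ, hθ, h⟩ := Finset.exists_ne_zero_of_sum_ne_zero hχ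
    exact ⟨⟨θ, C.D.hB_spec.1 θ (Finset.mem_filter.1 hθ).1, (Finset.mem_filter.1 hθ).2⟩, by
      simpa [Rot.orb] using h⟩
  cnorm := fun θ => by
    simp only [pow_two, d.fc_gram μ θ.2.1 θ.2.2 θ.2.1 θ.2.2, C.dd_self' θ.2.1]; norm_num
  cdeg := fun θ => d.fc_deg μ θ.2.1 θ.2.2
  cf0 := fun θ => by simpa using d.fc_F μ θ.2.1 θ.2.2 0
  cf1 := fun θ => by simpa using d.fc_F μ θ.2.1 θ.2.2 1
  cf2 := fun θ => by simpa using d.fc_F μ θ.2.1 θ.2.2 2
  cz := fun θ i => by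
    have hcl := isClassFunction_character (irr_isCharacter i.1.1.2.2)
    have hev := (d.zv_props i.1).1
    have hD : ∀ φ : C.D.B →* ℂˣ, φ ≠ 1 → classInner (C.Df φ (C.stab φ) μ) (i.1.1.2 : C.S.K → ℂ) = 0 := by
      intro φ hφ
      have h1 : classInner (C.Yt d.M φ μ) (i.1.1.2 : C.S.K → ℂ) = 0 := by
        rw [← classInner_symm, (d.zv_props i.1).2.2.1 φ μ hφ, map_zero]
      have h2 : ∀ ν, classInner (C.Yone d.M ν) (i.1.1.2 : C.S.K → ℂ) = 0 := fun ν => by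
        rw [← classInner_symm, Yone, classInner_sub_right, classInner_add_right, (d.zv_props i.1).2.1,
          (d.zv_props i.1).2.1, (d.zv_props i.1).2.1, add_zero, sub_zero, map_zero]
      rw [Yt, classInner_add_left, classInner_sum_left, Finset.sum_eq_zero fun ν _ => by
        rw [classInner_smul_left, h2, mul_zero], add_zero] at h1
      exact h1
    have h : ∑ χ, d.fc μ θ.1 χ * C.LL (i.1.1.2 : C.S.K → ℂ) χ = 0 := by
      apply Int.cast_injective (α := ℂ)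
      rw [fc, C.cPs_LL (C.gen_irr _), d.R.inner_Ps_lift' θ.1 μ hcl hev, hD _ θ.2.1,
        hD _ (d.R.comp_ne_one θ.2.1), hD _ (d.R.comp_ne_one (d.R.comp_ne_one θ.2.1))]
      simp
    simp only [zv, ← mul_assoc, mul_comm _ ((C.zc i.1.1.1.1 i.1.1.2).sign)]
    simp only [mul_assoc, ← Finset.mul_sum, h, mul_zero]
  cT := fun θ k => by
    rw [d.fc_Y μ θ.2.1 θ.2.2 (d.R.orb_ne θ.2.1 k) (d.R.orb_inv θ.2.2 k)]
    change dd (d.R.orb θ.1 0) (d.R.orb θ.1 k) - dd (d.R.orb θ.1 1) (d.R.orb θ.1 k) -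
      dd (d.R.orb θ.1 2) (d.R.orb θ.1 k) = _
    rw [d.R.dd_orb d.hco θ.2.1 θ.2.2, d.R.dd_orb d.hco θ.2.1 θ.2.2, d.R.dd_orb d.hco θ.2.1 θ.2.2]
    fin_cases k <;> simp
  cTT := fun θ φ => by
    by_cases h : ∀ k, dd (d.R.orb θ.1 k) φ.1 = 0
    · refine Or.inr ⟨?_, fun χ hχ => ?_⟩
      · show ∑ χ, d.fc μ θ.1 χ * d.fY μ φ.1 χ = 0
        rw [d.fc_Y μ θ.2.1 θ.2.2 φ.2.1 φ.2.2, show dd θ.1 φ.1 = 0 from h 0,
          show dd (θ.1.comp d.R.rB) φ.1 = 0 from h 1, show dd ((θ.1.comp d.R.rB).comp d.R.rB) φ.1 = 0 from h 2]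
        rfl
      · exact d.fY_rel μ θ.2.1 θ.2.2 φ.2.1 φ.2.2 h (by simpa [Rot.orb] using hχ)
    · push Not at h
      obtain ⟨k, hk⟩ := h
      refine Or.inl fun χ hχ => ((d.triple μ θ.2.1 θ.2.2).supp_iff k χ).1 ?_
      show d.fY μ (d.R.orb θ.1 k) χ ≠ 0
      rw [d.fY_of_dd μ (d.R.orb_ne θ.2.1 k) (d.R.orb_inv θ.2.2 k) φ.2.1 φ.2.2 hk]
      simpa [Rot.orb] using hχ
  cc := fun θ φ => by
    rcases C.dd_le' θ.2.1 φ.1 with h | h
    · refine Or.inr ⟨by rw [d.fc_gram μ θ.2.1 θ.2.2 φ.2.1 φ.2.2, h, add_zero], ?_⟩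
      show ∑ χ, d.fc μ θ.1 χ * d.fY μ φ.1 χ ≠ 1
      rw [d.fc_Y μ θ.2.1 θ.2.2 φ.2.1 φ.2.2, h]
      have := dd_nonneg (θ.1.comp d.R.rB) φ.1
      have := dd_nonneg ((θ.1.comp d.R.rB).comp d.R.rB) φ.1
      omega
    · left
      funext χ
      have h0 : ∑ ψ, (d.fc μ θ.1 ψ - d.fc μ φ.1 ψ) ^ 2 = 0 := by
        rw [Finset.sum_congr rfl (g := fun ψ => d.fc μ θ.1 ψ * d.fc μ θ.1 ψ -
          2 * (d.fc μ θ.1 ψ * d.fc μ φ.1 ψ) + d.fc μ φ.1 ψ * d.fc μ φ.1 ψ) fun ψ _ => by ring,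
          Finset.sum_add_distrib, Finset.sum_sub_distrib, ← Finset.mul_sum,
          d.fc_gram μ θ.2.1 θ.2.2 θ.2.1 θ.2.2, d.fc_gram μ θ.2.1 θ.2.2 φ.2.1 φ.2.2,
          d.fc_gram μ φ.2.1 φ.2.2 φ.2.1 φ.2.2, h, C.dd_self' θ.2.1, C.dd_self' φ.2.1]
        norm_num
      exact sub_eq_zero.1 (sq_eq_zero_iff.1
        ((Finset.sum_eq_zero_iff_of_nonneg fun ψ _ => sq_nonneg _).1 h0 χ (Finset.mem_univ _)))
  eqF0 := by
    apply Rat.cast_injective (α := ℂ)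
    rw [d.eq_rr μ _ (fun χ h => d.fF_inJ μ h) (C.gen_Fmu 0 μ) rfl (C.rr_Fmu d.hM 0 μ),
      show C.Q4.Fk 0 = C.D.Zf 1 from rfl, KFacts.r_Zf, if_pos rfl, C.D.two_aC, sQ]
    push_cast
    linear_combination (-(C.kap : ℂ)) * C.D.εC_sq
  eqF1 := by
    apply Rat.cast_injective (α := ℂ)
    rw [d.eq_rr μ _ (fun χ h => d.fF_inJ μ h) (C.gen_Fmu 1 μ) rfl (C.rr_Fmu d.hM 1 μ),
      show C.Q4.Fk 1 = C.D.Fp false from rfl, sQ]
    push_cast
    rw [eq_div_iff d.eps_ne]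
    linear_combination (C.kap : ℂ) * KFacts.r_Fp C.D false +
      (C.kap : ℂ) * Fintype.card F * classInner (C.D.Fp false) KFacts.rrL * C.D.εC_sq
  eqY := fun θ => by
    apply Rat.cast_injective (α := ℂ)
    rw [show d.R.orb θ.1 0 = θ.1 from rfl, d.eq_rr μ _ (fun χ h => d.fY_inJ μ θ.2.1 θ.2.2 h) (C.gen_Yt θ.1 μ) rfl (C.rr_Yt d.hM θ.2.2 μ), sQ]
    push_cast
    rw [eq_div_iff d.eps_ne]
    linear_combination (C.kap : ℂ) * KFacts.r_Yf C.D θ.2.1 +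
      (C.kap : ℂ) * Fintype.card F * classInner (C.D.Yf θ.1) KFacts.rrL * C.D.εC_sq
  eqC := fun θ => by
    apply Rat.cast_injective (α := ℂ)
    rw [d.to_equation μ fun χ h => d.fc_inJ μ θ.2.1 θ.2.2 h, Rat.cast_zero]
    exact C.equation_Ps d.R d.h0 d.hco θ.1 μ
  cong8 := fun χ => by
    by_cases h : d.InJ μ χ
    · rw [dJ, if_pos h]
      exact C.cong_eight' χ (d.t_val μ h)
    · rw [dJ, if_neg h, d.vv_outside μ h]
      norm_num
  congb := fun χ k hk c0 hc => by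
    obtain ⟨θ0, h01, h0i⟩ := C.exists_theta0 d.h0 d.hco
    have hJ := d.fF_inJ μ hk
    rw [dJ, if_pos hJ]
    exact d.cong_b' μ h01 h0i hk (d.t_val μ hJ) fun θ h1 h2 => hc ⟨θ, h1, h2⟩

theorem oneG_inJ : d.InJ 1 (oneG (G := G)) := by
  rintro Φ (⟨k, ν, hν, rfl⟩ | ⟨θ, ν, hθ, -, rfl⟩)
  · apply Int.cast_injective (α := ℂ)
    rw [C.LL_one (C.gen_Fmu k ν), ← C.ext0 d.hM 1, Fmu, classInner_sum_left, Int.cast_zero]
    refine Finset.sum_eq_zero fun i _ => ?_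
    rw [classInner_smul_left, C.inner_ext d.hM, if_neg fun h => hν h.2, mul_zero]
  · apply Int.cast_injective (α := ℂ)
    rw [C.LL_one (C.gen_Yt θ ν), ← C.ext0 d.hM 1, C.Yt_ext hθ d.hM d.hco, Int.cast_zero]

theorem fF_one (k : Fin 3) : d.fF μ k (oneG (G := G)) = if μ = 1 then C.Q4.cF k 0 else 0 := by
  apply Int.cast_injective (α := ℂ)
  rw [fF, C.LL_one (C.gen_Fmu k μ), ← C.ext0 d.hM 1, Fmu, classInner_sum_left, Finset.sum_eq_single 0]
  · rw [classInner_smul_left, C.inner_ext d.hM]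
    split_ifs <;> simp_all
  · intro i _ hi
    rw [classInner_smul_left, C.inner_ext d.hM, if_neg fun h => hi h.1, mul_zero]
  · exact fun h => absurd (Finset.mem_univ _) h

theorem deg_oneG : deg ((oneG : IrrCharacter G) : G → ℂ) = 1 := by
  have h : ((oneG : IrrCharacter G) : G → ℂ) 1 = (deg ((oneG : IrrCharacter G) : G → ℂ) : ℂ) :=
    char_one_eq_deg (irr_isCharacter (oneG : IrrCharacter G).2)
  exact_mod_cast h.symm.trans (show ((oneG : IrrCharacter G) : G → ℂ) 1 = ((1 : ℕ) : ℂ) by simp [oneG])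

/-- The data of the principal block. -/
noncomputable def coords : Coords (IrrCharacter G) d.Th (d.Zi 1) where
  toRows := d.rows 1
  g := Nat.card G / C.e
  o := oneG
  hpp := by
    show IsPrimePow (C.D.ε * (Fintype.card F : ℤ)).natAbs
    have : (C.D.ε * (Fintype.card F : ℤ)).natAbs = Fintype.card F := by
      rcases C.D.hε with h | h <;> rw [h] <;> simp
    rw [this]
    exact FiniteField.isPrimePow_card F
  gpos := by
    refine Nat.div_pos (Nat.le_of_dvd Nat.card_pos ?_) Nat.card_pos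
    exact ((Dvd.intro _ rfl).trans C.card_CK.symm.dvd).trans (Subgroup.card_subgroup_dvd_card _)
  gdvd := by
    show (C.D.ε * (Fintype.card F : ℤ)).natAbs * ((C.D.ε * (Fintype.card F : ℤ)).natAbs ^ 2 - 1) ∣ _
    have : (C.D.ε * (Fintype.card F : ℤ)).natAbs = Fintype.card F := by
      rcases C.D.hε with h | h <;> rw [h] <;> simp
    rw [this]
    refine Nat.dvd_div_of_mul_dvd ?_
    rw [← C.card_CK]
    exact Subgroup.card_subgroup_dvd_card _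
  hg := by
    show C.kap * ((Nat.card G / C.e : ℕ) : ℚ) = ((C.D.ε * (Fintype.card F : ℤ)).natAbs : ℚ) *
      ((C.D.ε * (Fintype.card F : ℤ) : ℤ) : ℚ) * (((C.D.ε * (Fintype.card F : ℤ) : ℤ) : ℚ) ^ 2 - 1) ^ 2
    have hdvd : C.e ∣ Nat.card G :=
      ((Dvd.intro _ rfl).trans C.card_CK.symm.dvd).trans (Subgroup.card_subgroup_dvd_card _)
    have hE : (C.e : ℚ) ≠ 0 := Nat.cast_ne_zero.2 Nat.card_pos.ne'
    have hG : (Nat.card G : ℚ) ≠ 0 := Nat.cast_ne_zero.2 Nat.card_pos.ne'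
    have hab : (((C.D.ε * (Fintype.card F : ℤ)).natAbs : ℕ) : ℚ) = (Fintype.card F : ℚ) := by
      rcases C.D.hε with h | h <;> rw [h] <;> simp
    have hq : 1 ≤ Fintype.card F ^ 2 := Nat.one_le_pow _ _ Fintype.card_pos
    rw [hab, kap, C.card_CK, Nat.cast_div hdvd hE, Nat.cast_mul, Nat.cast_mul, Nat.cast_sub hq]
    field_simp
    rcases C.D.hε with h | h <;> rw [h] <;> push_cast <;> ring
  d_o := by
    show d.dJ 1 oneG = 1
    rw [dJ, if_pos d.oneG_inJ, deg_oneG]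
  fo0 := by
    show d.fF 1 0 oneG = 1
    rw [d.fF_one, if_pos rfl]; rfl
  fo1 := by
    show d.fF 1 1 oneG = 0
    rw [d.fF_one, if_pos rfl]; rfl
  fo2 := by
    show d.fF 1 2 oneG = 0
    rw [d.fF_one, if_pos rfl]; rfl
  yo := by
    show d.yS 1 oneG = 0
    refine Finset.sum_eq_zero fun θ hθ => ?_
    apply Int.cast_injective (α := ℂ)
    rw [fY, C.LL_one (C.gen_Yt θ 1), ← C.ext0 d.hM 1,
      C.Yt_ext (C.D.hB_spec.1 θ (Finset.mem_filter.1 hθ).1) d.hM d.hco, Int.cast_zero]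
  zo := fun i => by
    show C.zv i.1 oneG = 0
    have hc : classInner (indFun C.L (C.D.Zf i.1.1.1.1)) (i.1.1.2 : C.S.K → ℂ) ≠ 0 := by
      rw [coord_spec (C.gen_ind (C.D.gen_Zf _))]
      exact_mod_cast C.zc_ne i.1
    have h : C.LL (i.1.1.2 : C.S.K → ℂ) (oneG (G := G)) = 0 := by
      apply Int.cast_injective (α := ℂ)
      rw [C.LL_one (C.gen_irr _), ← C.ext0 d.hM 1,
        (C.above_zero d.hM d.hco (C.D.hA_spec.1 _ i.1.1.1.2) hc).2.1, Int.cast_zero]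
    rw [zv, h, mul_zero]
  co := fun θ => d.R.cPs_one θ.1 1

end Dat

end Frame

end Cfsg.Agent.Walter.JR
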