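import Cfsg.Agent.Lib.Walter.JR.Local

/-!
# `e` is prime to `b` in a simple group

If a prime `r` divides both, an element `f` of `Φ` of order `r` fixes an element `y` of order `r` of `B`. The
involutions of `C(f)` are `3` modulo `r`, as `C(y) ≤ N(V)`; the transfer into `E/L ≅ Φ` maps `f` to the power of `f`
with this exponent, so `r = 3`; but then `y` is fixed by `Φ` and by the rotation.
-/

set_option autoImplicit false
set_option linter.unusedSectionVars false
set_option linter.style.haveILetI false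

namespace Cfsg.Agent.Walter.JR

open Subgroup Cfsg.Agent.Char.ReeThree Cfsg.Agent.Char.ReeOrder Cfsg.Agent.Solv.AbelianTwo

universe u

namespace Frame

variable {G : Type u} [Group G] [Finite G] {F : Type} [Field F] [Fintype F] (C : Frame G F)

/-- `B` has one subgroup of each prime order. -/
theorem mem_zpowers_of_order {y z : G} (hy : y ∈ C.BG) (hz : z ∈ C.BG) {r : ℕ} (hr : r.Prime) (hyr : orderOf y = r)
    (hzr : z ^ r = 1) : z ∈ zpowers y := by
  classical
  haveI := C.B_cyclic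
  haveI := Fintype.ofFinite C.BG
  set y' : C.BG := ⟨y, hy⟩
  have hy' : orderOf y' = r := by rw [Subgroup.orderOf_mk, hyr]
  have hsub : Finset.univ.filter (fun a : C.BG => a ∈ zpowers y') ⊆
      Finset.univ.filter (fun a : C.BG => a ^ r = 1) := by
    intro a ha
    rw [Finset.mem_filter] at ha ⊢
    refine ⟨Finset.mem_univ _, orderOf_dvd_iff_pow_eq_one.1 ?_⟩
    exact hy' ▸ orderOf_dvd_of_mem_zpowers ha.2
  have hcard : (Finset.univ.filter (fun a : C.BG => a ∈ zpowers y')).card = r := by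
    rw [← hy', ← Nat.card_zpowers, Nat.card_eq_fintype_card, Fintype.card_subtype]
  have heq := Finset.eq_of_subset_of_card_le hsub (by
    rw [hcard]
    exact IsCyclic.card_pow_eq_one_le hr.pos)
  have hmem : (⟨z, hz⟩ : C.BG) ∈ Finset.univ.filter (fun a : C.BG => a ^ r = 1) :=
    Finset.mem_filter.2 ⟨Finset.mem_univ _, Subtype.ext hzr⟩
  rw [← heq, Finset.mem_filter] at hmem
  obtain ⟨k, hk⟩ := mem_zpowers_iff.1 hmem.2
  exact mem_zpowers_iff.2 ⟨k, congrArg Subtype.val hk⟩

/-- An element of order `r` of `Φ` fixes the elements of order `r` of `B`. -/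
theorem fix_same_order {f y : G} (hf : f ∈ C.PhiG) (hy : y ∈ C.BG) {r : ℕ} (hr : r.Prime) (hfr : f ^ r = 1)
    (hyr : orderOf y = r) : f * y = y * f := by
  haveI := Fact.mk hr
  obtain ⟨k, hk⟩ : ∃ k : ℕ, y ^ k = f * y * f⁻¹ := by
    refine (isOfFinOrder_of_finite y).mem_powers_iff_mem_zpowers.2 (C.mem_zpowers_of_order hy (C.conj_mem_BG hf hy) hr hyr ?_)
    rw [conj_pow, ← hyr, pow_orderOf_eq_one, mul_one, mul_inv_cancel]
  have hiter : ∀ n : ℕ, f ^ n * y * (f ^ n)⁻¹ = y ^ k ^ n := by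
    intro n
    induction n with
    | zero => simp
    | succ n ih =>
      rw [pow_succ', show f * f ^ n * y * (f * f ^ n)⁻¹ = f * (f ^ n * y * (f ^ n)⁻¹) * f⁻¹ by group, ih, ← conj_pow,
        ← hk, ← pow_mul, ← pow_succ']
  have h1 := hiter r
  rw [hfr, one_mul, inv_one, mul_one] at h1
  have h2 : (k : ZMod r) ^ r = 1 := by
    have := pow_eq_pow_iff_modEq.1 ((pow_one y).trans h1)
    rw [hyr, ← ZMod.natCast_eq_natCast_iff] at this
    push_cast at this
    exact this.symm
  rw [ZMod.pow_card] at h2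
  have h3 : y ^ k = y := by
    conv_rhs => rw [← pow_one y]
    rw [pow_eq_pow_iff_modEq, hyr, ← ZMod.natCast_eq_natCast_iff]
    simpa using h2
  rw [hk] at h3
  exact mul_inv_eq_iff_eq_mul.1 h3

/-- `B` has no element of order three. -/
theorem no_three {y : G} (hy : y ∈ C.BG) : orderOf y ≠ 3 := by
  intro hy3
  have hy1 : y ≠ 1 := fun e => by rw [e, orderOf_one] at hy3; omega
  have two : ∀ z ∈ C.BG, orderOf z = 3 → z = y ∨ z = y⁻¹ := by
    intro z hz hz3
    obtain ⟨k, rfl⟩ : ∃ k : ℕ, y ^ k = z := (isOfFinOrder_of_finite y).mem_powers_iff_mem_zpowers.2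
      (C.mem_zpowers_of_order hy hz Nat.prime_three hy3 (hz3 ▸ pow_orderOf_eq_one z))
    rw [← pow_mod_orderOf, hy3] at hz3 ⊢
    rcases (show k % 3 = 0 ∨ k % 3 = 1 ∨ k % 3 = 2 by omega) with h | h | h <;> rw [h] at hz3 ⊢
    · rw [pow_zero, orderOf_one] at hz3; omega
    · exact Or.inl (pow_one y)
    · refine Or.inr (eq_inv_of_mul_eq_one_left ?_)
      rw [← pow_succ]
      exact (show y ^ 3 = 1 by rw [← hy3, pow_orderOf_eq_one])
  have ho : ∀ g : G, orderOf (g * y * g⁻¹) = 3 := fun g => by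
    rw [show g * y * g⁻¹ = MulAut.conj g y from rfl, MulEquiv.orderOf_eq, hy3]
  have hy0 : y ∈ C.B0 := by
    refine Subgroup.mem_inf.2 ⟨hy, mem_centralizer_iff.2 fun g hg => ?_⟩
    rcases two _ (C.conj_mem_BG hg hy) (ho g) with h | h
    · exact mul_inv_eq_iff_eq_mul.1 h
    · exact absurd (C.Phi_no_inv hg hy h) hy1
  obtain ⟨R⟩ := C.exists_rot
  rcases two _ (R.rho_B hy) (ho R.rho) with h | h
  · exact R.moved hy0 hy1 (mul_inv_eq_iff_eq_mul.1 h)
  · refine hy1 (eq_one_of_inv_eq (C.BG_odd hy) ?_)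
    have cinv : R.rho * y⁻¹ * R.rho⁻¹ = (R.rho * y * R.rho⁻¹)⁻¹ := by group
    calc y⁻¹ = R.rho * (R.rho * (R.rho * y * R.rho⁻¹) * R.rho⁻¹) * R.rho⁻¹ := by
          rw [h, cinv, h, inv_inv, h]
      _ = (R.rho * (R.rho * R.rho)) * y * (R.rho * (R.rho * R.rho))⁻¹ := by group
      _ = y := by rw [← pow_two, ← pow_succ', R.rho3]; group

/-- The involutions commuting with `f` are `3` modulo `r`. -/
theorem card_invol_mod (h0 : C.B0 ≠ ⊥) {f y : G} (hf : f ∈ C.PhiG) (hy : y ∈ C.BG) {r : ℕ} (hr : r.Prime)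
    (hyr : orderOf y = r) (hfy : f * y = y * f) :
    Nat.card {x : G // orderOf x = 2 ∧ x * f = f * x} ≡ 3 [MOD r] := by
  classical
  haveI := Fact.mk hr
  haveI := Fact.mk Nat.prime_two
  haveI := Fintype.ofFinite G
  have hy1 : y ≠ 1 := fun e => by rw [e, orderOf_one] at hyr; exact hr.one_lt.ne hyr
  let T := {x : G // orderOf x = 2 ∧ x * f = f * x}
  let e : Equiv.Perm T :=
    { toFun := fun x => ⟨y * x * y⁻¹, (MulEquiv.orderOf_eq (MulAut.conj y) x.1).trans x.2.1, by
        rw [← conj_iff_commute_aux hfy x.2.2]⟩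
      invFun := fun x => ⟨y⁻¹ * x * y⁻¹⁻¹, (MulEquiv.orderOf_eq (MulAut.conj y⁻¹) x.1).trans x.2.1, by
        rw [← conj_iff_commute_aux (Commute.inv_right hfy).eq x.2.2]⟩
      left_inv := fun x => Subtype.ext (show y⁻¹ * (y * x.1 * y⁻¹) * y⁻¹⁻¹ = x.1 by group)
      right_inv := fun x => Subtype.ext (show y * (y⁻¹ * x.1 * y⁻¹⁻¹) * y⁻¹ = x.1 by group) }
  have hpow : ∀ (n : ℕ) (x : T), ((e ^ n) x : G) = y ^ n * x * (y ^ n)⁻¹ := by
    intro n
    induction n with
    | zero => intro x; simp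
    | succ n ih =>
      intro x
      rw [pow_succ', Equiv.Perm.mul_apply]
      show y * ((e ^ n) x : G) * y⁻¹ = _
      rw [ih, pow_succ']
      group
  have he : e ^ r ^ 1 = 1 := by
    rw [pow_one]
    refine Equiv.ext fun x => Subtype.ext ?_
    rw [hpow, ← hyr, pow_orderOf_eq_one]
    simp
  have h := Equiv.Perm.card_compl_support_modEq (p := r) (n := 1) he
  have hV : ∀ x : T, e x = x ↔ (x : G) ∈ C.V := by
    intro x
    constructor
    · intro hx
      have hxy : (x : G) * y = y * x := (mul_inv_eq_iff_eq_mul.1 (congrArg Subtype.val hx)).symm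
      have hxN : zpowers (x : G) ≤ normalizer (C.V : Set G) :=
        zpowers_le.2 (C.cent_BG h0 hy hy1 (mem_centralizer_singleton_iff.2 hxy))
      have hxp : IsPGroup 2 (zpowers (x : G)) := IsPGroup.of_card (n := 1) (by rw [Nat.card_zpowers, x.2.1, pow_one])
      have hsup : IsPGroup 2 (zpowers (x : G) ⊔ C.V : Subgroup G) := hxp.to_sup_of_normal_right' C.V_pgroup hxN
      have hle : zpowers (x : G) ⊔ C.V ≤ centralizer ({y} : Set G) :=
        sup_le (zpowers_le.2 (mem_centralizer_singleton_iff.2 hxy)) (C.V_le_cent hy)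
      rw [← C.two_eq_V hy hy1 hsup le_sup_right hle]
      exact mem_sup_left (mem_zpowers _)
    · intro hx
      refine Subtype.ext ?_
      show y * (x : G) * y⁻¹ = x
      rw [(C.V_BG hx hy).eq, mul_inv_cancel_right]
  have hthree : (Equiv.Perm.support e)ᶜ.card = 3 := by
    have himg : (Equiv.Perm.support e)ᶜ.image (fun x : T => (x : G)) = {C.S.t, C.s, C.S.t * C.s} := by
      ext z
      simp only [Finset.mem_image, Finset.mem_compl, Equiv.Perm.mem_support, not_not, Finset.mem_insert,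
        Finset.mem_singleton]
      constructor
      · rintro ⟨x, hx, rfl⟩
        rcases C.mem_V.1 ((hV x).1 hx) with h | h
        · have := x.2.1
          rw [h, orderOf_one] at this
          omega
        · exact h
      · intro hz
        have hzV : z ∈ C.V := C.mem_V.2 (Or.inr hz)
        have hz1 : z ≠ 1 := by
          rcases hz with rfl | rfl | rfl
          · exact C.t_ne
          · exact C.s_ne
          · exact fun e => C.t_ne_s (by rw [← mul_one C.S.t, ← C.sq_s, ← mul_assoc, e, one_mul])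
        exact ⟨⟨z, orderOf_eq_prime (by rw [pow_two]; exact C.V_sq hzV) hz1, (C.V_Phi hzV hf).symm.eq⟩,
          (hV _).2 hzV, rfl⟩
    have := congrArg Finset.card himg
    rw [Finset.card_image_of_injective _ Subtype.val_injective] at this
    rw [this]
    have n1 : C.S.t * C.s ≠ C.S.t := fun e => C.s_ne (mul_eq_left.1 e)
    have n2 : C.S.t * C.s ≠ C.s := fun e => C.t_ne (mul_eq_right.1 e)
    simp [C.t_ne_s, n1.symm, n2.symm]
  rw [hthree] at h
  rw [Nat.card_eq_fintype_card]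
  exact h.symm
where
  conj_iff_commute_aux {f y x : G} (hfy : f * y = y * f) (hx : x * f = f * x) :
      y * x * y⁻¹ * f = f * (y * x * y⁻¹) := by
    have h1 : Commute f y := hfy
    have h2 : Commute f x := hx.symm
    exact ((h1.mul_right h2).mul_right h1.inv_right).symm.eq

theorem Phi_part_unique {v v' : G} (hv : v = 1 ∨ v = C.S.t) (hv' : v' = 1 ∨ v' = C.S.t) {l l' : C.L} {f f' : G}
    (hf : f ∈ C.PhiG) (hf' : f' ∈ C.PhiG) (h : v * C.embL l * f = v' * C.embL l' * f') : f = f' := by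
  have hk : C.embL l * f ∈ C.S.K := mul_mem (C.embL_mem_K _) (C.Phi_K hf)
  have hk' : C.embL l' * f' ∈ C.S.K := mul_mem (C.embL_mem_K _) (C.Phi_K hf')
  rw [mul_assoc, mul_assoc] at h
  have hvv : v = v' := by
    rcases hv with rfl | rfl <;> rcases hv' with rfl | rfl
    · rfl
    · rw [one_mul] at h; exact absurd (h ▸ hk) (C.S.not_both hk')
    · rw [one_mul] at h; exact absurd (h ▸ hk') (C.S.not_both hk)
    · rfl
  subst hvv
  have h2 := mul_left_cancel h
  have h3 : C.embL (l'⁻¹ * l) = f' * f⁻¹ := by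
    rw [map_mul, map_inv, eq_mul_inv_iff_mul_eq, mul_assoc, h2, inv_mul_cancel_left]
  have h4 : f' * f⁻¹ ∈ C.PhiG := mul_mem hf' (inv_mem hf)
  have h5 := C.L_inter_Phi (x := l'⁻¹ * l) (h3 ▸ h4)
  rw [h5, map_one, eq_comm, mul_inv_eq_one] at h3
  exact h3.symm

/-- The transfer into `E / L ≅ Φ`: in a simple group `r` divides the number of involutions of `C(f)`. -/
theorem dvd_card_invol [IsSimpleGroup G] {f : G} (hf : f ∈ C.PhiG) {r : ℕ} (hr : r.Prime) (hfr : orderOf f = r) :
    r ∣ Nat.card {x : G // orderOf x = 2 ∧ x * f = f * x} := by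
  classical
  letI : CommGroup C.PhiG :=
    { (inferInstance : Group C.PhiG) with mul_comm := fun a b => Subtype.ext (C.Phi_comm a.2 b.2) }
  have hdec : ∀ x : C.S.C, ∃ φ : C.PhiG, ∃ v, (v = 1 ∨ v = C.S.t) ∧ ∃ l : C.L, (x : G) = v * C.embL l * φ := fun x => by
    obtain ⟨v, hv, l, f', hf', e⟩ := C.cent_t (C.S.mem_C.1 x.2)
    exact ⟨⟨f', hf'⟩, v, hv, l, e⟩
  choose φ hφ using hdec
  have huniq : ∀ (x : C.S.C) (v : G) (l : C.L) (f' : C.PhiG), (v = 1 ∨ v = C.S.t) →
      (x : G) = v * C.embL l * f' → φ x = f' := by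
    intro x v l f' hv e
    obtain ⟨v', hv', l', e'⟩ := hφ x
    exact Subtype.ext (C.Phi_part_unique hv' hv (φ x).2 f'.2 (e'.symm.trans e))
  let π : C.S.C →* C.PhiG := MonoidHom.mk' φ fun a b => by
    obtain ⟨v, hv, l, ea⟩ := hφ a
    obtain ⟨w, hw, m, eb⟩ := hφ b
    obtain ⟨a', ha', ea'⟩ := (φ a).2
    have hm := C.conj_embL ⟨a', ha'⟩ m
    set m' := C.iso.symm (Cfsg.Agent.Small.PSL2.fieldP (C.alpha ⟨a', ha'⟩) (C.iso m))
    have hm' : ((φ a : C.PhiG) : G) * C.embL m * ((φ a : C.PhiG) : G)⁻¹ = C.embL m' := by rw [← ea']; simp only [Subgroup.coe_subtype]; exact hm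
    have hwc : ∀ k ∈ C.S.K, Commute k w := fun k hk => by
      rcases hw with rfl | rfl
      · exact Commute.one_right k
      · exact C.S.comm_t hk
    refine huniq _ (v * w) (l * m') (φ a * φ b) ?_ ?_
    · rcases hv with rfl | rfl <;> rcases hw with rfl | rfl <;> simp [C.S.sq_t]
    · rw [Subgroup.coe_mul, Subgroup.coe_mul, ea, eb, map_mul, ← hm']
      have c1 : Commute (C.embL l * ((φ a : C.PhiG) : G)) w := hwc _ (mul_mem (C.embL_mem_K l) (C.Phi_K (φ a).2))
      calc v * C.embL l * (φ a : G) * (w * C.embL m * (φ b : G))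
          = v * ((C.embL l * (φ a : G)) * w) * C.embL m * (φ b : G) := by group
        _ = v * (w * (C.embL l * (φ a : G))) * C.embL m * (φ b : G) := by rw [c1.eq]
        _ = _ := by group
  have hfC : f ∈ C.S.C := C.S.mem_C.2 (C.Phi_t hf)
  have hπf : π ⟨f, hfC⟩ = ⟨f, hf⟩ := huniq _ 1 1 ⟨f, hf⟩ (Or.inl rfl) (by simp)
  -- the transfer is trivial
  have htriv : MonoidHom.transfer π f = 1 := by
    rcases IsSimpleGroup.eq_bot_or_eq_top_of_normal (MonoidHom.transfer π).ker inferInstance with hk | hk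
    · exfalso
      have hinj := (MonoidHom.ker_eq_bot_iff _).1 hk
      have hts : C.th * C.s = C.s * C.th := hinj (by rw [map_mul, map_mul, mul_comm])
      have h := C.th_s
      rw [hts, mul_inv_cancel_right] at h
      have h' := C.th_u0
      rw [← h, C.th_s, ← h, C.sq_s] at h'
      exact C.s_ne h'
    · exact MonoidHom.mem_ker.1 (hk ▸ mem_top f)
  -- evaluate it
  letI := C.S.C.fintypeQuotientOfFiniteIndex
  rw [MonoidHom.transfer_eq_prod_quotient_orbitRel_zpowers_quot] at htriv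
  set Q := Quotient (MulAction.orbitRel (zpowers f) (G ⧸ C.S.C))
  have hper : ∀ q : Q, Function.minimalPeriod (f • ·) q.out = 1 ∨ Function.minimalPeriod (f • ·) q.out = r := fun q => by
    refine (Nat.dvd_prime hr).1 ?_
    refine Function.IsPeriodicPt.minimalPeriod_dvd ?_
    show (f • ·)^[r] q.out = q.out
    rw [smul_iterate, show f ^ r = 1 by rw [← hfr]; exact pow_orderOf_eq_one f]
    exact one_smul _ _
  have hfixed : ∀ q : Q, Function.minimalPeriod (f • ·) q.out = 1 →
      q.out.out⁻¹ * f * q.out.out ∈ C.S.C := fun q hq => by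
    have h := Function.minimalPeriod_eq_one_iff_isFixedPt.1 hq
    change f • q.out = q.out at h
    rw [← QuotientGroup.out_eq' q.out] at h
    have h' : ((f * q.out.out : G) : G ⧸ C.S.C) = (q.out.out : G ⧸ C.S.C) := h
    rw [eq_comm, QuotientGroup.eq, ← mul_assoc] at h'
    exact h'
  have xinv : ∀ g : G, g⁻¹ * f * g ∈ C.S.C → g * C.S.t * g⁻¹ * f = f * (g * C.S.t * g⁻¹) := by
    intro g hg
    have h := C.S.mem_C.1 hg
    calc g * C.S.t * g⁻¹ * f = g * (C.S.t * (g⁻¹ * f * g)) * g⁻¹ := by group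
      _ = g * ((g⁻¹ * f * g) * C.S.t) * g⁻¹ := by rw [h]
      _ = f * (g * C.S.t * g⁻¹) := by group
  have hval : ∀ q : Q, π ⟨q.out.out⁻¹ * f ^ Function.minimalPeriod (f • ·) q.out * q.out.out,
      QuotientGroup.out_conj_pow_minimalPeriod_mem C.S.C f q.out⟩ =
        if Function.minimalPeriod (f • ·) q.out = 1 then (⟨f, hf⟩ : C.PhiG) else 1 := by
    intro q
    rcases hper q with h | h
    · rw [if_pos h]
      set g := q.out.out
      have hg : g⁻¹ * f * g ∈ C.S.C := hfixed q h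
      have e : (⟨g⁻¹ * f ^ Function.minimalPeriod (f • ·) q.out * g,
          QuotientGroup.out_conj_pow_minimalPeriod_mem C.S.C f q.out⟩ : C.S.C) = ⟨g⁻¹ * f * g, hg⟩ :=
        Subtype.ext (show g⁻¹ * f ^ Function.minimalPeriod (f • ·) q.out * g = g⁻¹ * f * g by rw [h, pow_one])
      rw [e]
      -- bring `g t g⁻¹` to `t` inside `C(f)`
      haveI := Fact.mk Nat.prime_two
      set x := g * C.S.t * g⁻¹ with hx
      have hxf : x * f = f * x := xinv g hg
      set X := centralizer ({f} : Set G)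
      have hSX : C.Syl ≤ X := fun a ha => mem_centralizer_singleton_iff.2 (C.Syl_Phi ha hf).symm.eq
      let P : Sylow 2 X := C.sylow.subtype hSX
      have hxo : orderOf x = 2 := (MulEquiv.orderOf_eq (MulAut.conj g) C.S.t).trans C.S.ht
      let xX : X := ⟨x, mem_centralizer_singleton_iff.2 hxf⟩
      obtain ⟨T, hT⟩ := (IsPGroup.of_card (p := 2) (n := 1) (G := zpowers xX) (by
        rw [Nat.card_zpowers, pow_one, Subgroup.orderOf_mk, hxo])).exists_le_sylow
      obtain ⟨c, hc⟩ := MulAction.exists_smul_eq X T P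
      have h1 : c * xX * c⁻¹ ∈ (P : Subgroup X) := by
        rw [← hc, Sylow.coe_subgroup_smul]; exact ⟨_, hT (mem_zpowers _), rfl⟩
      have hx1 : (c : G) * x * (c : G)⁻¹ ≠ 1 := fun e => by
        rw [conj_eq_one_iff.1 e, orderOf_one] at hxo; omega
      obtain ⟨n, hn, hnt⟩ := C.exists_NS (show (c : G) * x * (c : G)⁻¹ ∈ C.Syl from mem_subgroupOf.1 h1)
        (C.V_le_Syl C.t_mem_V) hx1 C.t_ne
      have hcf : (n * (c : G)) * f = f * (n * c) := by
        rw [mul_assoc, mem_centralizer_singleton_iff.1 c.2, ← mul_assoc, C.NS_fix hn hf, mul_assoc]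
      set h' := n * (c : G) * g
      have hh' : h' ∈ C.S.C := C.S.mem_C.2 (by
        show n * (c : G) * g * C.S.t = C.S.t * (n * (c : G) * g)
        calc n * (c : G) * g * C.S.t = n * ((c : G) * (g * C.S.t * g⁻¹) * (c : G)⁻¹) * n⁻¹ * (n * (c : G) * g) := by
              group
          _ = _ := by rw [← hx, hnt])
      have e2 : (⟨g⁻¹ * f * g, hg⟩ : C.S.C) = (⟨h', hh'⟩ : C.S.C)⁻¹ * ⟨f, hfC⟩ * ⟨h', hh'⟩ := by
        apply Subtype.ext
        show g⁻¹ * f * g = h'⁻¹ * f * h'
        rw [show h'⁻¹ * f * h' = g⁻¹ * ((n * (c : G))⁻¹ * (f * (n * c))) * g by simp only [h']; group, ← hcf]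
        group
      rw [e2, map_mul, map_mul, map_inv, hπf, mul_comm ((π ⟨h', hh'⟩)⁻¹), inv_mul_cancel_right]
    · rw [if_neg (by rw [h]; exact hr.one_lt.ne'), ← map_one π]
      congr 1
      apply Subtype.ext
      show q.out.out⁻¹ * f ^ Function.minimalPeriod (f • ·) q.out * q.out.out = 1
      rw [h, ← hfr, pow_orderOf_eq_one]; group
  rw [Finset.prod_congr rfl fun q _ => hval q, Finset.prod_ite, Finset.prod_const, Finset.prod_const_one, mul_one]
    at htriv
  have hdvd := orderOf_dvd_of_pow_eq_one htriv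
  rw [Subgroup.orderOf_mk, hfr] at hdvd
  refine hdvd.trans (dvd_of_eq ?_)
  rw [← Nat.card_eq_finsetCard]
  let ψ : {q : Q // q ∈ Finset.univ.filter fun q : Q => Function.minimalPeriod (f • ·) q.out = 1} →
      {x : G // orderOf x = 2 ∧ x * f = f * x} := fun q =>
    ⟨q.1.out.out * C.S.t * q.1.out.out⁻¹, (MulEquiv.orderOf_eq (MulAut.conj q.1.out.out) C.S.t).trans C.S.ht,
      xinv _ (hfixed q.1 (Finset.mem_filter.1 q.2).2)⟩
  refine Nat.card_eq_of_bijective ψ ⟨fun a b hab => ?_, fun x => ?_⟩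
  · have e := congrArg Subtype.val hab
    change a.1.out.out * C.S.t * a.1.out.out⁻¹ = b.1.out.out * C.S.t * b.1.out.out⁻¹ at e
    have hm : a.1.out.out⁻¹ * b.1.out.out ∈ C.S.C := C.S.mem_C.2 (by
      calc a.1.out.out⁻¹ * b.1.out.out * C.S.t
          = a.1.out.out⁻¹ * (b.1.out.out * C.S.t * b.1.out.out⁻¹) * b.1.out.out := by group
        _ = C.S.t * (a.1.out.out⁻¹ * b.1.out.out) := by rw [← e]; group)
    have h2 : a.1.out = b.1.out := by
      rw [← QuotientGroup.out_eq' a.1.out, ← QuotientGroup.out_eq' b.1.out, QuotientGroup.eq]; exact hm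
    exact Subtype.ext (by rw [← Quotient.out_eq a.1, ← Quotient.out_eq b.1, h2])
  · obtain ⟨g, hg⟩ := isConj_iff.1 (C.hconj x.1 x.2.1)
    have hgf : g⁻¹ * f * g ∈ C.S.C := C.S.mem_C.2 (by
      have h := x.2.2
      rw [← hg] at h
      calc g⁻¹ * f * g * C.S.t = g⁻¹ * (f * (g * C.S.t * g⁻¹)) * g := by group
        _ = g⁻¹ * ((g * C.S.t * g⁻¹) * f) * g := by rw [h]
        _ = C.S.t * (g⁻¹ * f * g) := by group)
    have hfix : f • (g : G ⧸ C.S.C) = (g : G ⧸ C.S.C) := by
      show ((f * g : G) : G ⧸ C.S.C) = _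
      rw [eq_comm, QuotientGroup.eq, ← mul_assoc]
      exact hgf
    set q : Q := Quotient.mk'' (g : G ⧸ C.S.C)
    have hq : q.out = (g : G ⧸ C.S.C) := by
      obtain ⟨⟨z, hz⟩, e⟩ : q.out ∈ MulAction.orbit (zpowers f) (g : G ⧸ C.S.C) :=
        MulAction.orbitRel_apply.1 (Quotient.eq''.1 (Quotient.out_eq' q))
      rw [← e]
      obtain ⟨k, rfl⟩ := mem_zpowers_iff.1 hz
      show f ^ k • (g : G ⧸ C.S.C) = _
      have hst : f ∈ MulAction.stabilizer G (g : G ⧸ C.S.C) := hfix
      exact zpow_mem hst k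
    refine ⟨⟨q, Finset.mem_filter.2 ⟨Finset.mem_univ _, ?_⟩⟩, Subtype.ext ?_⟩
    · exact Function.minimalPeriod_eq_one_iff_isFixedPt.2 (show f • q.out = q.out by rw [hq]; exact hfix)
    · show q.out.out * C.S.t * q.out.out⁻¹ = x.1
      have hm : g⁻¹ * q.out.out ∈ C.S.C := by
        rw [← QuotientGroup.eq, QuotientGroup.out_eq', hq]
      have hc := C.S.mem_C.1 hm
      rw [← hg]
      calc q.out.out * C.S.t * q.out.out⁻¹ = g * (g⁻¹ * q.out.out * C.S.t) * q.out.out⁻¹ := by group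
        _ = g * (C.S.t * (g⁻¹ * q.out.out)) * q.out.out⁻¹ := by rw [hc]
        _ = g * C.S.t * g⁻¹ := by group

theorem coprime_eb [IsSimpleGroup G] (h0 : C.B0 ≠ ⊥) : Nat.Coprime C.e C.D.b := by
  refine Nat.coprime_of_dvd fun r hr hre hrb => ?_
  haveI := Fact.mk hr
  rw [← C.card_PhiG] at hre
  rw [← C.card_BG] at hrb
  obtain ⟨f, hfo⟩ := exists_prime_orderOf_dvd_card' r hre
  obtain ⟨y, hyo⟩ := exists_prime_orderOf_dvd_card' r hrb
  rw [← Subgroup.orderOf_coe] at hfo hyo
  have hfy := C.fix_same_order f.2 y.2 hr (hfo ▸ pow_orderOf_eq_one (f : G)) hyo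
  have h1 := C.dvd_card_invol f.2 hr hfo
  have h2 := C.card_invol_mod h0 f.2 y.2 hr hyo hfy
  have h3 : r ∣ 3 := (Nat.ModEq.dvd_iff h2 dvd_rfl).1 h1
  exact C.no_three y.2 ((Nat.prime_dvd_prime_iff_eq hr Nat.prime_three).1 h3 ▸ hyo)

end Frame

/-- The local half. -/
theorem localStatement : LocalStatement.{u} := fun G _ _ F _ _ C h0 =>
  ⟨fun _ hy hy1 => C.cent_BG h0 hy hy1, fun _ hy hy1 => C.cent_B0 hy hy1, fun h => by
    haveI := h
    exact C.coprime_eb h0⟩

end Cfsg.Agent.Walter.JR
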