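import Cfsg.Agent.Lib.Char.ReeOrder.Assemble
import Cfsg.Agent.Lib.Char.ReeOrder.LocalPsl
import Cfsg.Agent.Lib.Char.PSL2Degrees
import Cfsg.Agent.Lib.Char.Coherence
import Cfsg.Agent.Lib.Lead.GLTwoThree.Decomp

/-!
# Facts about `L ≅ PSL₂(q)`, `q ≡ 3, 5 (mod 8)`: the four characters of odd degree in the functions `F₁, F₂, F₃`, the
defect zero functions `Z_ψ`, and the number of inverting involutions
-/

set_option autoImplicit false
set_option linter.unusedSectionVars false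
set_option linter.unusedSimpArgs false
set_option linter.style.haveILetI false

open Cfsg
open scoped ComplexConjugate Classical

namespace Cfsg.Agent.Walter.JR

open Subgroup Cfsg.Agent.Char Cfsg.Agent.Char.ReeOrder

universe u v

variable {P : Type u} [Group P] [Fintype P] {F : Type v} [Field F] [Fintype F] (D : KD P F)

namespace KFacts

theorem inner_ind_one {H : Subgroup P} (θ : H →* ℂˣ) :
    classInner (indFun H fun x => (θ x : ℂ)) (fun _ => (1 : ℂ)) = if θ = 1 then 1 else 0 := by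
  rw [inner_ind_const H θ (fun _ _ => rfl) (c := 1) fun _ _ _ => rfl]
  simp

theorem one_GS : classInner D.GS (fun _ => (1 : ℂ)) = 0 := by
  rw [KD.GS, classInner_add_left, KD.Gam, KD.Gam, inner_ind_one, inner_ind_one, if_neg (D.lam_ne _),
    if_neg (D.lam_ne _), add_zero]

theorem one_Zf (ψ : D.A →* ℂˣ) : classInner (D.Zf ψ) (fun _ => (1 : ℂ)) = if ψ = 1 then 1 else 0 := by
  rw [KD.Zf, classInner_sub_left, one_GS, sub_zero, KD.IA, inner_ind_one]

theorem one_Yf (θ : D.B →* ℂˣ) : classInner (D.Yf θ) (fun _ => (1 : ℂ)) = if θ = 1 then -1 else 0 := by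
  rw [KD.Yf, classInner_sub_left, classInner_smul_left, one_GS, KD.IB, inner_ind_one, mul_zero]
  split_ifs <;> ring

theorem one_Fp (i : Bool) : classInner (D.Fp i) (fun _ => (1 : ℂ)) = 0 := by
  rw [KD.Fp, classInner_sub_left, classInner_sub_left, classInner_smul_left, KD.Gam, inner_ind_one,
    if_neg (D.lam_ne _), classInner_sum_left, classInner_sum_left,
    Finset.sum_eq_zero fun θ hθ => (one_Yf D θ).trans (if_neg (D.hB_spec.1 θ hθ)),
    Finset.sum_eq_zero (s := D.hA) fun ψ hψ => (one_Zf D ψ).trans (if_neg (D.hA_spec.1 ψ hψ))]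
  ring

theorem delta2_one_one {X : Type u} [Monoid X] : delta2 (1 : X) 1 = 2 := by simp [delta2]; norm_num

theorem hom_one_mul {H : Subgroup P} : (1 : H →* ℂˣ) * 1 = 1 := MonoidHom.ext fun _ => mul_one _

theorem delta2_hom_one {H : Subgroup P} : delta2 (1 : H →* ℂˣ) 1 = 2 := by
  simp [delta2, hom_one_mul]; norm_num

/-- `Y₁ = F₂ + F₃ - F₁`. -/
theorem Yf_one : D.Yf 1 = D.Fp false + D.Fp true - D.Zf 1 := by
  rw [← sub_eq_zero]
  refine classInner_self_eq_zero ?_
  have hYF : ∀ i, classInner (D.Yf 1) (D.Fp i) = 2 := fun i => by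
    rw [← classInner_symm, D.inner_FY, if_pos rfl, map_ofNat]
  have hZF : ∀ i, classInner (D.Zf 1) (D.Fp i) = 1 := fun i => by
    rw [← classInner_symm, D.inner_FZ, if_pos rfl, map_one]
  simp only [classInner_sub_left, classInner_sub_right, classInner_add_left, classInner_add_right, D.inner_YY,
    D.inner_YZ, D.inner_ZY, D.inner_ZZ, D.inner_FY, D.inner_FZ, D.inner_FF, hYF, hZF, delta2_hom_one]
  norm_num

theorem deg_eq {a : IrrCharacter P} {s z : ℤ} (hs : s = 1 ∨ s = -1) (h : (s : ℂ) * (a : P → ℂ) 1 = (z : ℂ)) :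
    deg (a : P → ℂ) = z.natAbs := by
  rw [char_one_eq_deg (irr_isCharacter a.2)] at h
  have h' : s * (deg (a : P → ℂ) : ℤ) = z := by exact_mod_cast h
  rw [← h', Int.natAbs_mul, Int.natAbs_natCast]
  rcases hs with rfl | rfl <;> simp

theorem Fp_one (i : Bool) : D.Fp i 1 = (3 * ((D.ε : ℂ) * Fintype.card F) - 1) / 2 := by
  have hY : ∀ θ, D.Yf θ 1 = 2 * ((D.ε : ℂ) * Fintype.card F - 1) := fun θ => by
    simp only [KD.Yf, KD.GS, Pi.sub_apply, Pi.smul_apply, Pi.add_apply, smul_eq_mul, D.Gam_one, D.IB_one]; ring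
  have hZ : ∀ ψ, D.Zf ψ 1 = (D.ε : ℂ) * Fintype.card F + 1 := fun ψ => by
    simp only [KD.Zf, KD.GS, Pi.sub_apply, Pi.add_apply, D.Gam_one, D.IA_one]; ring
  simp only [KD.Fp, Pi.sub_apply, Pi.smul_apply, Finset.sum_apply, smul_eq_mul, D.Gam_one, hY, hZ, Finset.sum_const,
    nsmul_eq_mul]
  linear_combination ((D.ε : ℂ) * Fintype.card F - 1) * (-D.card_hB) +
    (-1 / 2 : ℂ) * ((D.ε : ℂ) * Fintype.card F + 1) * D.card_hA +
    (-1 / 4 : ℂ) * ((D.ε : ℂ) * Fintype.card F - 1) * D.four_bC +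
    (-1 / 4 : ℂ) * ((D.ε : ℂ) * Fintype.card F + 1) * D.two_aC +
    (-(D.ε : ℂ) / 2) * D.εC_sq * 0

theorem Zf_one (ψ : D.A →* ℂˣ) : D.Zf ψ 1 = (D.ε : ℂ) * Fintype.card F + 1 := by
  simp only [KD.Zf, KD.GS, Pi.sub_apply, Pi.add_apply, D.Gam_one, D.IA_one]; ring

/-- The four characters of odd degree. -/
structure Four where
  η : Fin 4 → IrrCharacter P
  sg : Fin 4 → ℤ
  inj : Function.Injective η
  sg0 : sg 0 = 1
  unit : ∀ i, sg i = 1 ∨ sg i = -1
  η0 : (η 0 : P → ℂ) = fun _ => 1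
  odd : ∀ i, Odd (deg (η i : P → ℂ))
  Z1 : D.Zf 1 = (η 0 : P → ℂ) + (sg 1 : ℂ) • (η 1 : P → ℂ)
  Fp0 : D.Fp false = (sg 1 : ℂ) • (η 1 : P → ℂ) + (sg 2 : ℂ) • (η 2 : P → ℂ)
  Fp1 : D.Fp true = (sg 1 : ℂ) • (η 1 : P → ℂ) + (sg 3 : ℂ) • (η 3 : P → ℂ)

/-- A generalised character of norm two. -/
theorem two_terms {f : P → ℂ} (hf : IsGeneralizedCharacter P f) (h : classInner f f = 2) :
    ∃ (a b : IrrCharacter P) (s r : ℤ), a ≠ b ∧ (s = 1 ∨ s = -1) ∧ (r = 1 ∨ r = -1) ∧
      f = (s : ℂ) • (a : P → ℂ) + (r : ℂ) • (b : P → ℂ) ∧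
      ∀ χ : IrrCharacter P, classInner f (χ : P → ℂ) = (if χ = a then (s : ℂ) else 0) + if χ = b then (r : ℂ) else 0 := by
  have h2 : ∑ χ, coord f χ ^ 2 = 2 := by
    apply Int.cast_injective (α := ℂ)
    rw [Finset.sum_congr rfl (g := fun χ => coord f χ * coord f χ) fun χ _ => pow_two _, coord_inner hf hf, h]
    simp
  obtain ⟨a, b, s, r, hab, hs, hr, hc⟩ := Lead.GLTwoThree.norm_two h2
  have hco : ∀ χ : IrrCharacter P, classInner f (χ : P → ℂ) =
      (if χ = a then (s : ℂ) else 0) + if χ = b then (r : ℂ) else 0 := fun χ => by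
    rw [coord_spec hf, hc]
    simp [Lead.GLTwoThree.ind]
  refine ⟨a, b, s, r, hab, hs, hr, ?_, hco⟩
  conv_lhs => rw [coord_expand hf]
  simp only [← coord_spec hf, hco, add_smul, ite_smul, zero_smul, Finset.sum_add_distrib, Finset.sum_ite_eq',
    Finset.mem_univ, if_true]

theorem exists_four : Nonempty (Four D) := by
  have h2 : classInner (D.Zf 1) (D.Zf 1) = 2 := by rw [D.inner_ZZ, delta2_hom_one]
  obtain ⟨a, b, s, r, hab, hs, hr, hZ, hZc⟩ := two_terms (D.gen_Zf 1) h2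
  let one : IrrCharacter P := ⟨fun _ => 1, isIrrCharacter_one⟩
  have h1 := hZc one
  rw [show (one : P → ℂ) = fun _ => 1 from rfl, one_Zf, if_pos rfl] at h1
  -- make the principal character the first term
  obtain ⟨x, t, ht, hx, hZ, hZc⟩ : ∃ (x : IrrCharacter P) (t : ℤ), (t = 1 ∨ t = -1) ∧ x ≠ one ∧
      D.Zf 1 = (one : P → ℂ) + (t : ℂ) • (x : P → ℂ) ∧
      ∀ χ : IrrCharacter P, classInner (D.Zf 1) (χ : P → ℂ) =
        (if χ = one then 1 else 0) + if χ = x then (t : ℂ) else 0 := by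
    by_cases ha : one = a
    · rw [if_pos ha, if_neg (fun e => hab (ha.symm.trans e)), add_zero] at h1
      subst ha
      rw [← h1] at hZ hZc
      exact ⟨b, r, hr, Ne.symm hab, by rw [hZ, one_smul], hZc⟩
    · rw [if_neg ha, zero_add] at h1
      by_cases hb : one = b
      · rw [if_pos hb] at h1
        subst hb
        rw [← h1] at hZ hZc
        exact ⟨a, s, hs, hab, by rw [hZ, one_smul, add_comm], fun χ => by rw [hZc, add_comm]⟩
      · rw [if_neg hb] at h1
        exact absurd h1 one_ne_zero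
  have third : ∀ i, ∃ (y : IrrCharacter P) (w : ℤ), (w = 1 ∨ w = -1) ∧ y ≠ one ∧ y ≠ x ∧
      D.Fp i = (t : ℂ) • (x : P → ℂ) + (w : ℂ) • (y : P → ℂ) := by
    intro i
    obtain ⟨c, d, u, w, hcd, hu, hw, hF, hFc⟩ := two_terms (D.gen_Fp i) (by rw [D.inner_FF, if_pos rfl])
    have f1 := hFc one
    rw [show (one : P → ℂ) = fun _ => 1 from rfl, one_Fp] at f1
    have hu0 : (u : ℂ) ≠ 0 := by rcases hu with e | e <;> rw [e] <;> norm_num
    have hw0 : (w : ℂ) ≠ 0 := by rcases hw with e | e <;> rw [e] <;> norm_num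
    have hc1 : one ≠ c := fun e => by rw [if_pos e, if_neg (fun e' => hcd (e.symm.trans e')), add_zero] at f1; exact hu0 f1.symm
    have hd1 : one ≠ d := fun e => by rw [if_pos e, if_neg hc1, zero_add] at f1; exact hw0 f1.symm
    -- the pairing with `F₁`
    have hp : classInner (D.Zf 1) (D.Fp i) = 1 := by rw [← classInner_symm, D.inner_FZ, if_pos rfl, map_one]
    rw [hF, classInner_add_right, classInner_smul_right, classInner_smul_right, hZc, hZc, if_neg (Ne.symm hc1),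
      if_neg (Ne.symm hd1), map_intCast, map_intCast, zero_add, zero_add] at hp
    by_cases hcx : c = x
    · subst hcx
      rw [if_pos rfl, if_neg (Ne.symm hcd), mul_zero, add_zero] at hp
      refine ⟨d, w, hw, Ne.symm hd1, Ne.symm hcd, ?_⟩
      have : u = t := by
        rcases hu with rfl | rfl <;> rcases ht with rfl | rfl <;> first | rfl | norm_num at hp
      rw [hF, this]
    · rw [if_neg hcx, mul_zero, zero_add] at hp
      by_cases hdx : d = x
      · subst hdx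
        rw [if_pos rfl] at hp
        refine ⟨c, u, hu, Ne.symm hc1, hcd, ?_⟩
        have : w = t := by
          rcases hw with rfl | rfl <;> rcases ht with rfl | rfl <;> first | rfl | norm_num at hp
        rw [hF, this, add_comm]
      · rw [if_neg hdx, mul_zero] at hp
        exact absurd hp zero_ne_one
  obtain ⟨y, w, hw, hy1, hyx, hy⟩ := third false
  obtain ⟨y', w', hw', hy1', hyx', hy'⟩ := third true
  have hyy : y ≠ y' := by
    rintro rfl
    have h := D.inner_FF false true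
    rw [hy, hy', if_neg (by decide)] at h
    simp only [classInner_add_left, classInner_add_right, classInner_smul_left, classInner_smul_right,
      irr_orth x.2 x.2, irr_orth x.2 y.2, irr_orth y.2 x.2, irr_orth y.2 y.2, map_intCast,
      if_pos, if_neg (show ¬ (x : P → ℂ) = (y : P → ℂ) from fun e => hyx (Subtype.ext e).symm),
      if_neg (show ¬ (y : P → ℂ) = (x : P → ℂ) from fun e => hyx (Subtype.ext e))] at h
    rcases ht with e | e <;> rcases hw with e' | e' <;> rcases hw' with e'' | e'' <;> rw [e, e', e''] at h <;>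
      norm_num at h
  -- the degrees
  have hq := Nat.odd_iff.1 D.q_odd
  have hq8 := D.q8
  have hx1 : Odd (deg (x : P → ℂ)) := by
    have h := congrFun hZ 1
    rw [Zf_one, Pi.add_apply, Pi.smul_apply, smul_eq_mul, show (one : P → ℂ) 1 = 1 from rfl] at h
    rw [deg_eq ht (z := D.ε * Fintype.card F) (by push_cast; linear_combination -h), Int.natAbs_mul]
    rcases D.hε with e | e <;> simp [e, D.q_odd]
  have hyodd : ∀ (i : Bool) (y : IrrCharacter P) (w : ℤ), (w = 1 ∨ w = -1) →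
      D.Fp i = (t : ℂ) • (x : P → ℂ) + (w : ℂ) • (y : P → ℂ) → Odd (deg (y : P → ℂ)) := by
    intro i y w hw hy
    have hx' := congrFun hZ 1
    have h := congrFun hy 1
    rw [Zf_one, Pi.add_apply, Pi.smul_apply, smul_eq_mul, show (one : P → ℂ) 1 = 1 from rfl] at hx'
    rw [Fp_one, Pi.add_apply, Pi.smul_apply, Pi.smul_apply, smul_eq_mul, smul_eq_mul] at h
    obtain ⟨k, hk⟩ : ∃ k : ℤ, D.ε * (Fintype.card F : ℤ) = 2 * k + 1 ∧ Odd k := by
      rcases D.hε with e | e
      · refine ⟨(Fintype.card F - 1) / 2, ?_⟩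
        have := D.hb
        have := Nat.odd_iff.1 D.b_odd
        rw [e] at *
        rw [Int.odd_iff]
        omega
      · refine ⟨(-(Fintype.card F : ℤ) - 1) / 2, ?_⟩
        have := D.hb
        have := Nat.odd_iff.1 D.b_odd
        rw [e] at *
        rw [Int.odd_iff]
        omega
    have hkC : (D.ε : ℂ) * Fintype.card F = 2 * (k : ℂ) + 1 := by exact_mod_cast hk.1
    rw [deg_eq hw (z := k) (by linear_combination -h + hx' + (1 / 2 : ℂ) * hkC), Int.natAbs_odd]
    exact hk.2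
  exact ⟨{
    η := ![one, x, y, y'], sg := ![1, t, w, w']
    inj := by
      intro i j h
      fin_cases i <;> fin_cases j <;> first
        | rfl
        | exact absurd h hx.symm | exact absurd h hx | exact absurd h hy1.symm | exact absurd h hy1
        | exact absurd h hyx | exact absurd h hyx.symm | exact absurd h hy1' | exact absurd h hy1'.symm
        | exact absurd h hyx' | exact absurd h hyx'.symm | exact absurd h hyy | exact absurd h hyy.symm
    sg0 := rfl
    unit := fun i => by fin_cases i <;> simp [ht, hw, hw']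
    η0 := rfl
    odd := fun i => by
      fin_cases i
      · show Odd (deg (fun _ : P => (1 : ℂ)))
        simp [deg]
      · exact hx1
      · exact hyodd _ _ _ hw hy
      · exact hyodd _ _ _ hw' hy'
    Z1 := hZ, Fp0 := hy, Fp1 := hy' }⟩

namespace Four

variable {D} (Q : Four D)

/-- The coefficients of `F₁, F₂, F₃`. -/
def cF (k : Fin 3) : Fin 4 → ℤ :=
  ![![1, Q.sg 1, 0, 0], ![0, Q.sg 1, Q.sg 2, 0], ![0, Q.sg 1, 0, Q.sg 3]] k

/-- The coefficients of `Y₁`. -/
def cY : Fin 4 → ℤ := ![-1, Q.sg 1, Q.sg 2, Q.sg 3]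

/-- The three functions. -/
noncomputable def Fk (_ : Four D) (k : Fin 3) : P → ℂ := ![D.Zf 1, D.Fp false, D.Fp true] k

theorem Fk_eq (k : Fin 3) : Q.Fk k = ∑ i, (Q.cF k i : ℂ) • (Q.η i : P → ℂ) := by
  fin_cases k <;> simp [Fk, cF, Fin.sum_univ_four, Q.Z1, Q.Fp0, Q.Fp1]

theorem Y1_eq : D.Yf 1 = ∑ i, (Q.cY i : ℂ) • (Q.η i : P → ℂ) := by
  rw [Yf_one, Q.Z1, Q.Fp0, Q.Fp1]
  simp [cY, Fin.sum_univ_four]
  abel

theorem inner_η (i j : Fin 4) : classInner (Q.η i : P → ℂ) (Q.η j : P → ℂ) = if i = j then 1 else 0 := by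
  rw [irr_orth (Q.η i).2 (Q.η j).2]
  refine if_congr ?_ rfl rfl
  exact ⟨fun h => Q.inj (Subtype.ext h), fun h => h ▸ rfl⟩

/-- `Y_θ` is orthogonal to the four characters. -/
theorem Y_η {θ : D.B →* ℂˣ} (hθ : θ ≠ 1) (i : Fin 4) : classInner (D.Yf θ) (Q.η i : P → ℂ) = 0 := by
  have h0 : classInner (D.Yf θ) (Q.η 0 : P → ℂ) = 0 := by rw [Q.η0, one_Yf, if_neg hθ]
  have hF : ∀ k, classInner (D.Yf θ) (Q.Fk k) = 0 := fun k => by
    fin_cases k <;> simp [Fk, D.inner_YZ, ← classInner_symm (D.Fp _), D.inner_FY, hθ]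
  have hs : ∀ i, (Q.sg i : ℂ) ≠ 0 := fun i => by rcases Q.unit i with e | e <;> rw [e] <;> norm_num
  have e1 : classInner (D.Yf θ) (Q.η 1 : P → ℂ) = 0 := by
    have h := hF 0
    simp only [Fk, Matrix.cons_val_zero, Q.Z1, classInner_add_right, classInner_smul_right, map_intCast, h0,
      zero_add] at h
    exact (mul_eq_zero.1 h).resolve_left (hs 1)
  fin_cases i
  · exact h0
  · exact e1
  · have h := hF 1
    simp only [Fk, Matrix.cons_val_one, Matrix.cons_val_zero, Q.Fp0, classInner_add_right, classInner_smul_right,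
      map_intCast, e1, mul_zero, zero_add] at h
    exact (mul_eq_zero.1 h).resolve_left (hs 2)
  · have h := hF 2
    simp only [Fk, Matrix.cons_val, Q.Fp1, classInner_add_right, classInner_smul_right, map_intCast, e1, mul_zero,
      zero_add] at h
    exact (mul_eq_zero.1 h).resolve_left (hs 3)

end Four

/-- `±Z_ψ` is irreducible of degree `4b`. -/
theorem Zf_irr {ψ : D.A →* ℂˣ} (hψ : ψ ≠ 1) : ∃ (s : ℤ) (ζ : IrrCharacter P), (s = 1 ∨ s = -1) ∧
    D.Zf ψ = (s : ℂ) • (ζ : P → ℂ) ∧ 4 ∣ deg (ζ : P → ℂ) := by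
  have hsq : ψ * ψ ≠ 1 := fun e => hψ (hom_eq_one_of_sq (D.card_A.symm ▸ D.a_odd) e)
  obtain ⟨s, ζ, hs, hζ⟩ := exists_sign_of_norm_one (D.gen_Zf ψ) (by rw [D.inner_ZZ]; simp [delta2, hsq])
  refine ⟨s, ζ, hs, hζ, D.b, ?_⟩
  have h := congrFun hζ 1
  rw [Zf_one, Pi.smul_apply, smul_eq_mul] at h
  rw [deg_eq hs (z := D.ε * (4 * (D.b : ℤ))) (by
    rw [← h]; push_cast; linear_combination (-(D.ε : ℂ)) * D.four_bC - D.εC_sq), Int.natAbs_mul]
  rcases D.hε with e | e <;> simp [e, Int.natAbs_mul]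

/-! ### Odd degrees -/

/-- At most two irreducible characters share an odd degree. -/
theorem card_odd_deg_le (e : P ≃* Matrix.ProjectiveSpecialLinearGroup (Fin 2) F) (hq : 5 ≤ Fintype.card F)
    (hodd : Odd (Fintype.card F)) (χ : IrrCharacter P) (hχ : Odd (deg (χ : P → ℂ))) :
    Nat.card {ψ : IrrCharacter P // deg (ψ : P → ℂ) = deg (χ : P → ℂ)} ≤ 2 := by
  haveI := Fintype.ofFinite (Matrix.ProjectiveSpecialLinearGroup (Fin 2) F)
  have tr : ∀ ψ : IrrCharacter P, ∃ ψ' : IrrCharacter (Matrix.ProjectiveSpecialLinearGroup (Fin 2) F),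
      ∀ x, (ψ' : Matrix.ProjectiveSpecialLinearGroup (Fin 2) F → ℂ) x = (ψ : P → ℂ) (e.symm x) := fun ψ =>
    ⟨⟨_, isIrrCharacter_comp_equiv e.symm ψ.2⟩, fun _ => rfl⟩
  choose T hT using tr
  have hdeg : ∀ ψ : IrrCharacter P, charDegree (T ψ : Matrix.ProjectiveSpecialLinearGroup (Fin 2) F → ℂ) = deg (ψ : P → ℂ) := fun ψ => by
    simp [charDegree, deg, hT]
  have hd := PSL2Deg.psl_degree (T χ)
  rw [hdeg] at hd
  have hc := ((Cfsg.Agent.S2299.result (F := F) hodd).2 hq)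
  obtain ⟨h1, h2, -, -, h5, h6⟩ := hc
  refine (Nat.card_le_card_of_injective (fun ψ => (⟨T ψ.1, (hdeg _).trans ψ.2⟩ :
    {ψ' : IrrCharacter (Matrix.ProjectiveSpecialLinearGroup (Fin 2) F) // charDegree (ψ' : Matrix.ProjectiveSpecialLinearGroup (Fin 2) F → ℂ) = deg (χ : P → ℂ)}))
    fun a b h => Subtype.ext (Subtype.ext (funext fun x => ?_))).trans ((PSL2Deg.card_irr_deg_le _).trans ?_)
  · have := congrFun (congrArg (fun z : IrrCharacter (Matrix.ProjectiveSpecialLinearGroup (Fin 2) F) => (z : Matrix.ProjectiveSpecialLinearGroup (Fin 2) F → ℂ)) (congrArg Subtype.val h)) (e x)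
    simpa [hT] using this
  rw [Nat.odd_iff] at hχ hodd
  rcases hd with h | h | h | h | ⟨-, h | h⟩ <;> rw [h] at hχ ⊢
  · rw [Nat.cast_one, h1]; norm_num
  · rw [h2]; norm_num
  · omega
  · omega
  · rw [h5]
  · rw [h6]

/-! ### Inverting involutions -/

theorem inv_B {x : P} (hx : x ∈ D.B) (h1 : x ≠ 1) :
    Nat.card {g : P // orderOf g = 2 ∧ g * x * g⁻¹ = x⁻¹} = 2 * D.b := by
  have hne : x ≠ x⁻¹ := fun e => h1 (eq_one_of_inv_eq (D.B_odd hx) e.symm)
  have hsq : ∀ g : P, g * x * g⁻¹ = x⁻¹ → g * g = 1 := by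
    intro g hg
    obtain ⟨u, hu, huW⟩ := D.exists_outside
    obtain ⟨hu2, hui⟩ := D.outside hu huW
    have hc : u * g * x = x * (u * g) := by
      rw [← mul_inv_eq_iff_eq_mul, show u * g * x * (u * g)⁻¹ = u * (g * x * g⁻¹) * u⁻¹ by group, hg,
        hui _ (inv_mem hx), inv_inv]
    have hW := D.centB hx h1 hc
    have hgs : g * D.s = D.s * g := by
      have h := Commute.mul_left (show Commute u D.s from hu).inv_left
        (show Commute (u * g) D.s from mem_centralizer_singleton_iff.1 (D.W_le hW))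
      rwa [inv_mul_cancel_left] at h
    refine (D.outside hgs fun hgW => huW ?_).1
    have := mul_mem hW (inv_mem hgW)
    rwa [mul_inv_cancel_right] at this
  rw [Nat.card_congr (Equiv.subtypeEquivRight fun g => KD.inv_iff g (hsq g) hne),
    D.cntB x hx h1 _ (inv_mem hx), if_pos (Or.inr rfl)]

/-- Twice the number of inverting involutions. -/
noncomputable def rrL : P → ℂ := fun x => 2 * (Nat.card {g : P // orderOf g = 2 ∧ g * x * g⁻¹ = x⁻¹} : ℂ)

theorem rrL_one : rrL (1 : P) = Fintype.card F * ((Fintype.card F : ℂ) - D.ε) := by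
  rw [← D.two_invol, rrL]
  congr 2
  exact Nat.card_congr (Equiv.subtypeEquivRight fun x => by simp)

theorem rrL_cl : IsClassFunction P (rrL : P → ℂ) := fun g h => by
  simp only [rrL]
  congr 2
  refine (Nat.card_congr ((MulAut.conj h).toEquiv.subtypeEquiv fun u => ?_)).symm
  show _ ↔ orderOf (MulAut.conj h u) = 2 ∧
    MulAut.conj h u * (MulAut.conj h g) * (MulAut.conj h u)⁻¹ = (MulAut.conj h g)⁻¹
  rw [← map_inv, ← map_inv, ← map_mul, ← map_mul, MulEquiv.orderOf_eq, (MulAut.conj h).injective.eq_iff]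

theorem rrL_A {x : P} (hx : x ∈ D.A) (h1 : x ≠ 1) : rrL x = 2 * (D.a : ℂ) := by rw [rrL, D.inv_A hx h1]

theorem rrL_B {x : P} (hx : x ∈ D.B) (h1 : x ≠ 1) : rrL x = 4 * (D.b : ℂ) := by
  rw [rrL, inv_B D hx h1]; push_cast; ring

theorem rrL_U {x : P} (hx : x ∈ D.U) (h1 : x ≠ 1) : rrL x = Fintype.card F * (1 - (D.ε : ℂ)) := by
  obtain ⟨m, rfl⟩ := hx
  obtain ⟨z, rfl⟩ := Multiplicative.ofAdd.surjective m
  rw [← D.inv_U (fun e : z = 0 => h1 (by rw [e, ofAdd_zero, map_one]))]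
  rfl

theorem r_Zf (ψ : D.A →* ℂˣ) : classInner (D.Zf ψ) rrL = if ψ = 1 then 2 * (D.a : ℂ) else 0 :=
  D.r_Zf rrL_cl (rrL_one D) (fun _ hx h1 => rrL_A D hx h1) (fun _ hx h1 => rrL_U D hx h1) ψ

theorem r_Yf {θ : D.B →* ℂˣ} (hθ : θ ≠ 1) :
    ((Fintype.card F : ℂ) + D.ε) * classInner (D.Yf θ) rrL = 8 * (D.ε : ℂ) * Fintype.card F :=
  D.r_Yf rrL_cl (rrL_one D) (fun _ hx h1 => rrL_B D hx h1) (fun _ hx h1 => rrL_U D hx h1) θ hθ

theorem r_Fp (i : Bool) :
    ((Fintype.card F : ℂ) + D.ε) * classInner (D.Fp i) rrL = 3 * (D.ε : ℂ) * Fintype.card F - 1 :=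
  D.r_Fp rrL_cl (rrL_one D) (fun _ hx h1 => rrL_A D hx h1) (fun _ hx h1 => rrL_B D hx h1)
    (fun _ hx h1 => rrL_U D hx h1) i

end KFacts

end Cfsg.Agent.Walter.JR
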