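import Cfsg.Agent.Lib.Walter.JR.EGroup
import Cfsg.Agent.Lib.Walter.JR.KFacts
import Cfsg.Agent.Lib.Char.SectionPart
import Cfsg.Agent.Lib.Char.PrincipalExtension
import Cfsg.Agent.Lib.Char.PrimeDegrees
import Cfsg.Agent.Lib.Char.Height
import Cfsg.Agent.Lib.Char.FreeTrace
import Cfsg.Agent.Lib.Char.CoherenceExt

/-!
# The `e` blocks of full defect of `E`: extensions of the four characters of odd degree

For a linear character `ν` of `Φ` the block of `ν ∘ pr` contains exactly one extension of each of the four characters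
of odd degree of `L`, and the three functions `F` extend to functions vanishing on elements of even order.
-/

set_option autoImplicit false
set_option linter.unusedSectionVars false
set_option linter.unusedSimpArgs false
set_option linter.style.haveILetI false
set_option maxHeartbeats 800000

open Cfsg
open scoped ComplexConjugate Classical

namespace Cfsg.Agent.Walter.JR

open Subgroup Cfsg.Agent.Char Cfsg.Agent.Char.ReeThree Cfsg.Agent.Char.ReeOrder

universe u

namespace Frame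

variable {G : Type u} [Group G] [Finite G] {F : Type} [Field F] [Fintype F] (C : Frame G F)

theorem card_K_val : Nat.card C.S.K = 4 * (Fintype.card F * C.D.a * C.D.b * C.e) := by
  haveI := Fintype.ofFinite C.L
  have h : (2 * Nat.card C.L : ℤ) = 2 * (4 * (Fintype.card F * C.D.a * C.D.b)) := by
    have hP : (2 * Nat.card C.L : ℤ) = (Fintype.card F : ℤ) * (((Fintype.card F : ℤ)) ^ 2 - 1) := by
      have h := C.D.card_P
      have h1 : 1 ≤ Fintype.card F ^ 2 := Nat.one_le_pow _ _ Fintype.card_pos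
      zify [h1] at h
      exact h
    have hε : C.D.ε * C.D.ε = 1 := by rcases C.D.hε with e | e <;> rw [e] <;> norm_num
    linear_combination hP - (Fintype.card F : ℤ) * (4 * (C.D.b : ℤ)) * C.D.ha
      - (Fintype.card F : ℤ) * ((Fintype.card F : ℤ) - C.D.ε) * C.D.hb + (Fintype.card F : ℤ) * hε
  rw [C.card_K, show Nat.card C.L = 4 * (Fintype.card F * C.D.a * C.D.b) by exact_mod_cast mul_left_cancel₀ two_ne_zero h]
  ring

theorem odd_part : Odd (Fintype.card F * C.D.a * C.D.b * C.e) :=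
  haveI := Fintype.ofFinite C.L
  ((C.D.q_odd.mul C.D.a_odd).mul C.D.b_odd).mul C.odd

theorem fact_two_K : (Nat.card C.S.K).factorization 2 = 2 := by
  have ho := C.odd_part
  rw [C.card_K_val, Nat.factorization_mul (by norm_num) (fun h => by rw [h] at ho; simp at ho), Finsupp.add_apply,
    Nat.factorization_eq_zero_of_not_dvd (fun h => Nat.not_even_iff_odd.2 ho (even_iff_two_dvd.2 h)),
    show (4 : ℕ) = 2 ^ 2 by norm_num, Nat.Prime.factorization_pow Nat.prime_two, Finsupp.single_eq_same]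

theorem L_index : C.L.index = C.e := C.compl.symm.index_eq_card

theorem s_mul_s : (C.D.s : C.S.K) * (C.D.s : C.S.K) = 1 := congrArg Subtype.val C.D.s_sq

theorem u_mul_u : (C.uL : C.S.K) * (C.uL : C.S.K) = 1 := congrArg Subtype.val C.uL_spec.2.1

/-- The four group of `L` as a homomorphism. -/
noncomputable def vK : ℤˣ × ℤˣ →* C.S.K :=
  MonoidHom.noncommCoprod (invHom C.s_mul_s) (invHom C.u_mul_u)
    (invHom_comm C.s_mul_s C.u_mul_u (congrArg Subtype.val C.uL_spec.1).symm)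

theorem vK_inj : Function.Injective C.vK := by
  intro p p' h
  have key : ∀ p : ℤˣ × ℤˣ, C.vK p = (C.vq (decide (p.1 ≠ 1), decide (p.2 ≠ 1)) : C.S.K) := by
    rintro ⟨a, b⟩
    rcases Int.units_eq_one_or a with rfl | rfl <;> rcases Int.units_eq_one_or b with rfl | rfl <;>
      simp [vK, invHom, vq]
  rw [key, key] at h
  have hv := C.vq_inj (v := (decide (p.1 ≠ 1), decide (p.2 ≠ 1))) (v' := (decide (p'.1 ≠ 1), decide (p'.2 ≠ 1)))
    (by rw [Subtype.val_injective h, inv_mul_cancel]; exact one_mem _)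
  obtain ⟨a, b⟩ := p
  obtain ⟨a', b'⟩ := p'
  rcases Int.units_eq_one_or a with rfl | rfl <;> rcases Int.units_eq_one_or b with rfl | rfl <;>
    rcases Int.units_eq_one_or a' with rfl | rfl <;> rcases Int.units_eq_one_or b' with rfl | rfl <;>
    first | rfl | simp at hv

theorem vK_Phi (p : ℤˣ × ℤˣ) (f : C.Phi) : Commute (f : C.S.K) (C.vK p) := by
  have hs : Commute (f : C.S.K) (C.D.s : C.S.K) := Subtype.ext (C.s_fix ⟨f, f.2, rfl⟩)
  have hu : Commute (f : C.S.K) (C.uL : C.S.K) := Subtype.ext (C.u0_fix ⟨f, f.2, rfl⟩)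
  obtain ⟨a, b⟩ := p
  rcases Int.units_eq_one_or a with rfl | rfl <;> rcases Int.units_eq_one_or b with rfl | rfl <;>
    simp [vK, invHom, hs, hu, hs.mul_right hu]

theorem odd_index_cent (f : C.Phi) : Odd (centralizer ({(f : C.S.K)} : Set C.S.K)).index := by
  have h4 : 4 ∣ Nat.card (centralizer ({(f : C.S.K)} : Set C.S.K)) := by
    have h := Subgroup.card_dvd_of_le (show C.vK.range ≤ centralizer ({(f : C.S.K)} : Set C.S.K) by
      rintro _ ⟨p, rfl⟩
      exact mem_centralizer_singleton_iff.2 (C.vK_Phi p f).eq.symm)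
    rwa [show Nat.card C.vK.range = 4 by
      rw [← Nat.card_congr (MonoidHom.ofInjective C.vK_inj).toEquiv, Nat.card_eq_fintype_card]; rfl] at h
  obtain ⟨c, hc⟩ := h4
  have h := (centralizer ({(f : C.S.K)} : Set C.S.K)).card_mul_index
  rw [hc, C.card_K_val, mul_assoc] at h
  exact C.odd_part.of_dvd_nat ⟨c, by rw [mul_comm _ c]; exact (mul_left_cancel₀ (by norm_num) h).symm⟩

section Fin

variable [Fintype G]

/-! ### Linear characters of `E/L` and their blocks -/

/-- `ν ∘ pr` as an irreducible character. -/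
noncomputable def lin (ν : C.Phi →* ℂˣ) : IrrCharacter C.S.K :=
  ⟨fun x => ((ν.comp C.pr) x : ℂ), isIrrCharacter_linear _⟩

theorem lin_apply (ν : C.Phi →* ℂˣ) (x : C.S.K) : (C.lin ν : C.S.K → ℂ) x = (ν (C.pr x) : ℂ) := rfl

theorem lin_one : (C.lin 1 : C.S.K → ℂ) = fun _ => 1 := rfl

theorem isIrr_twist (ν : C.Phi →* ℂˣ) {χ : C.S.K → ℂ} (h : IsIrrCharacter C.S.K χ) :
    IsIrrCharacter C.S.K fun x => (ν (C.pr x) : ℂ) * χ x := by
  refine isIrr_of_norm_one (isCharacter_mul (irr_isCharacter (C.lin ν).2) (irr_isCharacter h)) ?_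
  rw [← irr_self h]
  simp only [classInner]
  refine congrArg _ (Finset.sum_congr rfl fun x _ => ?_)
  have h1 : (ν (C.pr x) : ℂ) * conj (ν (C.pr x) : ℂ) = 1 := by rw [conj_lin, map_inv]; simp
  show (ν (C.pr x) : ℂ) * χ x * conj ((ν (C.pr x) : ℂ) * χ x) = _
  rw [map_mul]
  linear_combination (χ x * conj (χ x)) * h1

/-- The product with `ν ∘ pr`. -/
noncomputable def twist (ν : C.Phi →* ℂˣ) (χ : IrrCharacter C.S.K) : IrrCharacter C.S.K :=
  ⟨fun x => (ν (C.pr x) : ℂ) * (χ : C.S.K → ℂ) x, C.isIrr_twist ν χ.2⟩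

theorem twist_apply (ν : C.Phi →* ℂˣ) (χ : IrrCharacter C.S.K) (x : C.S.K) :
    (C.twist ν χ : C.S.K → ℂ) x = (ν (C.pr x) : ℂ) * (χ : C.S.K → ℂ) x := rfl

theorem twist_L (ν : C.Phi →* ℂˣ) (χ : IrrCharacter C.S.K) (x : C.L) :
    (C.twist ν χ : C.S.K → ℂ) x = (χ : C.S.K → ℂ) x := by rw [C.twist_apply, C.pr_L]; simp

theorem twist_lin (ν : C.Phi →* ℂˣ) : C.twist ν (C.lin 1) = C.lin ν :=
  Subtype.ext (funext fun x => by rw [C.twist_apply, C.lin_apply, C.lin_apply]; simp)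

variable {M : Ideal AlgInt} (hM : IsPModular 2 M)
include hM

theorem twist_same {ν : C.Phi →* ℂˣ} {χ ψ : IrrCharacter C.S.K} (h : SameBlock M (χ : C.S.K → ℂ) (ψ : C.S.K → ℂ)) :
    SameBlock M (C.twist ν χ : C.S.K → ℂ) (C.twist ν ψ : C.S.K → ℂ) := by
  intro g
  have e : ∀ ξ : IrrCharacter C.S.K, centralChar (C.twist ν ξ : C.S.K → ℂ) g =
      (ν (C.pr g) : ℂ) * centralChar (ξ : C.S.K → ℂ) g := fun ξ => by
    rw [centralChar, centralChar, C.twist_apply, C.twist_apply, map_one, map_one, Units.val_one, one_mul]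
    ring
  rw [e, e, ← mul_sub]
  exact memLI_mul_left (pmod_prime hM) (memLR_char (pmod_prime hM) (irr_isCharacter (C.lin ν).2) g) (h g)

theorem lin_block {μ ν : C.Phi →* ℂˣ} (h : SameBlock M (C.lin μ : C.S.K → ℂ) (C.lin ν : C.S.K → ℂ)) : μ = ν := by
  have hP := pmod_prime hM
  refine MonoidHom.ext fun f => Units.ext ?_
  have hodd := C.odd_index_cent f
  set k := (centralizer ({(f : C.S.K)} : Set C.S.K)).index with hk
  have hk2 : ¬ 2 ∣ k := fun hd => Nat.not_even_iff_odd.2 hodd (even_iff_two_dvd.2 hd)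
  have h1 := memLI_mul_left hP (memLR_inv_natCast hM hk2) (h (f : C.S.K))
  have hk0 : (k : ℂ) ≠ 0 := Nat.cast_ne_zero.2 hodd.pos.ne'
  simp only [centralChar, C.lin_apply, C.pr_Phi, map_one, Units.val_one, div_one, ← hk] at h1
  rw [show (k : ℂ)⁻¹ * ((k : ℂ) * (μ f : ℂ) - (k : ℂ) * (ν f : ℂ)) = (μ f : ℂ) - (ν f : ℂ) by field_simp] at h1
  have hpow : ∀ l : C.Phi →* ℂˣ, ((l f : ℂˣ) : ℂ) ^ C.e = 1 := fun l => by
    rw [← Units.val_pow_eq_pow_val, ← map_pow, pow_card_eq_one', map_one, Units.val_one]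
  exact PrincExt.root_eq_of_congr hM (fun hd => Nat.not_even_iff_odd.2 C.odd (even_iff_two_dvd.2 hd)) (hpow μ) (hpow ν) h1

omit hM

/-- The block of `ν ∘ pr`. -/
noncomputable abbrev U (M : Ideal AlgInt) (ν : C.Phi →* ℂˣ) : Set (IrrCharacter C.S.K) :=
  blockOf M (C.lin ν : C.S.K → ℂ)

include hM

theorem U_inj {μ ν : C.Phi →* ℂˣ} {χ : IrrCharacter C.S.K} (h : χ ∈ C.U M μ) (h' : χ ∈ C.U M ν) : μ = ν :=
  C.lin_block hM (sameBlock_trans (pmod_prime hM) h (sameBlock_symm (pmod_prime hM) h'))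

omit hM

/-! ### The four characters -/

/-- The four characters of odd degree of `L`. -/
noncomputable def Q4 : KFacts.Four C.D := (KFacts.exists_four C.D).some

theorem η_conj (i : Fin 4) (g : C.S.K) (l : C.L) :
    (C.Q4.η i : C.L → ℂ) (haveI := C.hL; MulAut.conjNormal g l) = (C.Q4.η i : C.L → ℂ) l := by
  haveI := C.hL
  set η := C.Q4.η i with hη
  let act : C.S.K → IrrCharacter C.L := fun g => irrComp (MulAut.conjNormal g) η
  have act_L : ∀ x : C.L, act (x : C.S.K) = η := fun x => Subtype.ext (funext fun l => by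
    show (η : C.L → ℂ) (MulAut.conjNormal (x : C.S.K) l) = _
    rw [show MulAut.conjNormal (x : C.S.K) l = x * l * x⁻¹ from Subtype.ext (by simp [MulAut.conjNormal_apply])]
    exact isClassFunction_character (irr_isCharacter η.2) l x)
  have act_mul : ∀ g g', act g = η → act (g * g') = act g' := fun g g' hg => Subtype.ext (funext fun l => by
    show (η : C.L → ℂ) (MulAut.conjNormal (g * g') l) = (η : C.L → ℂ) (MulAut.conjNormal g' l)
    rw [map_mul, MulAut.mul_apply]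
    exact congrFun (congrArg Subtype.val hg) _)
  have act_pow : ∀ g, act g = η → ∀ k : ℕ, act (g ^ k) = η := fun g hg k => by
    induction k with
    | zero => rw [pow_zero]; exact act_L 1
    | succ k ih => rw [pow_succ, act_mul _ _ ih, hg]
  have hdeg : ∀ g, deg (act g : C.L → ℂ) = deg (η : C.L → ℂ) := fun g => by
    simp [deg, act, irrComp_apply]
  have act_Phi : ∀ f : C.Phi, act (f : C.S.K) = η := by
    intro f
    by_contra hne
    have h2 := KFacts.card_odd_deg_le C.iso (le_of_lt C.D.q5) C.D.q_odd η (C.Q4.odd i)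
    have hff : act ((f : C.S.K) * (f : C.S.K)) ≠ η := fun e => hne (by
      obtain ⟨k, hk⟩ := sq_pow (x := (f : C.S.K)) (by
        rw [orderOf_coe]; exact C.odd.of_dvd_nat (orderOf_dvd_natCard f))
      rw [hk, pow_two]
      exact act_pow _ e k)
    have hff' : act (f : C.S.K) ≠ act ((f : C.S.K) * (f : C.S.K)) := fun e => hne (Subtype.ext (funext fun l => by
      have h := congrFun (congrArg Subtype.val e) ((MulAut.conjNormal (f : C.S.K)).symm l)
      simp only [act, irrComp_apply, map_mul, MulAut.mul_apply, MulEquiv.apply_symm_apply] at h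
      exact h.symm))
    let T : Fin 3 → {ψ : IrrCharacter C.L // deg (ψ : C.L → ℂ) = deg (η : C.L → ℂ)} :=
      ![⟨η, rfl⟩, ⟨act (f : C.S.K), hdeg _⟩, ⟨act ((f : C.S.K) * (f : C.S.K)), hdeg _⟩]
    have hT : Function.Injective T := by
      intro a b h
      have h' := congrArg Subtype.val h
      fin_cases a <;> fin_cases b <;> first
        | rfl
        | exact absurd h' hne | exact absurd h'.symm hne | exact absurd h' hff | exact absurd h'.symm hff
        | exact absurd h' hff' | exact absurd h'.symm hff'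
    have := Nat.card_le_card_of_injective T hT
    rw [Nat.card_fin] at this
    omega
  have hg : act g = η := by
    rw [← C.lp_mul_pr g, act_mul _ _ (act_L _)]
    exact act_Phi _
  exact congrFun (congrArg Subtype.val hg) l

/-- `⟨χ|L, ηᵢ⟩`. -/
noncomputable def res (i : Fin 4) (χ : IrrCharacter C.S.K) : ℂ :=
  classInner (fun l : C.L => (χ : C.S.K → ℂ) l) (C.Q4.η i : C.L → ℂ)

theorem res_eq {i : Fin 4} {χ : IrrCharacter C.S.K} (h : C.res i χ ≠ 0) :
    (fun l : C.L => (χ : C.S.K → ℂ) l) = C.res i χ • (C.Q4.η i : C.L → ℂ) := by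
  haveI := C.hL
  have hc : cliffOrbit C.L (C.Q4.η i) = {C.Q4.η i} := by
    refine Finset.eq_singleton_iff_unique_mem.2 ⟨self_mem_cliffOrbit _, fun ψ hψ => ?_⟩
    obtain ⟨g, rfl⟩ := mem_cliffOrbit.1 hψ
    exact Subtype.ext (funext fun l => by rw [irrComp_apply]; exact C.η_conj i g l)
  have h' := clifford_restrict χ (C.Q4.η i) h
  rwa [hc, Finset.sum_singleton] at h'

theorem res_unique {i j : Fin 4} {χ : IrrCharacter C.S.K} (h : C.res i χ ≠ 0) (hne : j ≠ i) : C.res j χ = 0 := by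
  rw [res, C.res_eq h, classInner_smul_left, C.Q4.inner_η, if_neg (Ne.symm hne), mul_zero]

theorem res_nat (i : Fin 4) (χ : IrrCharacter C.S.K) : ∃ n : ℕ, C.res i χ = n :=
  classInner_natCast (isCharacter_comp C.L.subtype (irr_isCharacter χ.2)) (irr_isCharacter (C.Q4.η i).2)

theorem inner_indη (i : Fin 4) (χ : IrrCharacter C.S.K) :
    classInner (indFun C.L (C.Q4.η i : C.L → ℂ)) (χ : C.S.K → ℂ) = C.res i χ := by
  rw [Cfsg.Agent.Char.frobenius _ _ (isClassFunction_character (irr_isCharacter χ.2)), ← classInner_symm,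
    show classInner (fun l : C.L => (χ : C.S.K → ℂ) l) (C.Q4.η i : C.L → ℂ) = C.res i χ from rfl]
  obtain ⟨n, hn⟩ := C.res_nat i χ
  rw [hn]; simp

/-- `Ind_L F_k`. -/
noncomputable def IF (k : Fin 3) : C.S.K → ℂ := indFun C.L (C.Q4.Fk k)

theorem Fk_even (k : Fin 3) {x : C.L} (hx : ¬ Odd (orderOf x)) : C.Q4.Fk k x = 0 := by
  fin_cases k
  · exact C.D.Zf_even 1 hx
  · exact C.D.Fp_even false hx
  · exact C.D.Fp_even true hx

theorem IF_even (k : Fin 3) {z : C.S.K} (hz : ¬ Odd (orderOf z)) : C.IF k z = 0 := by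
  haveI := C.hL
  rw [IF, indFun, Finset.sum_eq_zero fun g _ => ?_, mul_zero]
  by_cases hg : g⁻¹ * z * g ∈ C.L
  · rw [extendByZero_mem _ _ hg]
    refine C.Fk_even k fun ho => hz ?_
    rw [Subgroup.orderOf_mk, show g⁻¹ * z * g = MulAut.conj g⁻¹ z by simp, MulEquiv.orderOf_eq] at ho
    exact ho
  · exact extendByZero_not_mem _ _ hg

theorem inner_IF (k : Fin 3) (χ : IrrCharacter C.S.K) :
    classInner (C.IF k) (χ : C.S.K → ℂ) = ∑ i, (C.Q4.cF k i : ℂ) * C.res i χ := by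
  rw [IF, C.Q4.Fk_eq, indFun_sum, classInner_sum_left]
  refine Finset.sum_congr rfl fun i _ => ?_
  rw [indFun_smul, classInner_smul_left, C.inner_indη]

include hM

theorem blockPart_even {ϑ : C.S.K → ℂ} (hcl : IsClassFunction C.S.K ϑ)
    (h0 : ∀ z : C.S.K, ¬ Odd (orderOf z) → ϑ z = 0) {B : Set (IrrCharacter C.S.K)} (hB : IsPBlock M B)
    {z : C.S.K} (hz : ¬ Odd (orderOf z)) : blockPart B ϑ z = 0 := by
  obtain ⟨x, hx⟩ : ∃ x, IsPPart 2 z x := exists_isPPart Nat.prime_two z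
  have hx' := hx
  obtain ⟨y, rfl, hxy, hxk, hy⟩ := hx'
  refine blockPart_eq_zero_of_isPPart hM hxk hcl (fun w c hw hc => h0 w fun ho => hz ?_) hB hx (IsConj.refl x)
  have ey : Odd (orderOf y) := Nat.not_even_iff_odd.1 fun h => hy (even_iff_two_dvd.1 h)
  obtain ⟨y', rfl, hcy, hck, hy'⟩ := hw
  have hoc : orderOf c = orderOf x := by
    obtain ⟨g, rfl⟩ := isConj_iff.1 hc
    exact MulEquiv.orderOf_eq (MulAut.conj g) x
  obtain ⟨n, hn⟩ := hxk
  have hn0 : n = 0 := by
    by_contra hne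
    have hcop : (orderOf c).Coprime (orderOf y') := by
      rw [hoc, hn]; exact Nat.Coprime.pow_left _ ((Nat.prime_two.coprime_iff_not_dvd).2 hy')
    rw [hcy.orderOf_mul_eq_mul_orderOf_of_coprime hcop, hoc, hn] at ho
    exact Nat.not_even_iff_odd.2 ho (even_iff_two_dvd.2 (dvd_mul_of_dvd_left (dvd_pow_self 2 hne) _))
  rw [hn0, pow_zero, orderOf_eq_one_iff] at hn
  subst hn
  rwa [one_mul]

omit hM

theorem not_odd_sK : ¬ Odd (orderOf (C.D.s : C.S.K)) := by
  rw [orderOf_coe, C.D.hs]; decide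

/-- The sum of the squared multiplicities over the first block. -/
noncomputable def nB (M : Ideal AlgInt) (i : Fin 4) : ℂ :=
  ∑ χ : IrrCharacter C.S.K with χ ∈ C.U M 1, C.res i χ ^ 2

theorem res_IF (M : Ideal AlgInt) (k : Fin 3) (l : C.L) :
    blockPart (C.U M 1) (C.IF k) (l : C.S.K) =
      ∑ i, (C.Q4.cF k i : ℂ) * C.nB M i * (C.Q4.η i : C.L → ℂ) l := by
  simp only [blockPart_eq, nB, Finset.mul_sum, Finset.sum_mul, C.inner_IF]
  rw [Finset.sum_comm]
  refine Finset.sum_congr rfl fun i _ => Finset.sum_congr rfl fun χ _ => ?_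
  by_cases h : C.res i χ = 0
  · rw [h]; ring
  · rw [show (χ : C.S.K → ℂ) l = C.res i χ * (C.Q4.η i : C.L → ℂ) l from congrFun (C.res_eq h) l]
    ring

theorem exists_lin {χ : IrrCharacter C.S.K} (h : C.res 0 χ ≠ 0) : ∃ ν, C.lin ν = χ := by
  haveI := C.hL
  haveI := finite_hom_units C.Phi
  letI : Fintype (C.Phi →* ℂˣ) := Fintype.ofFinite _
  have e : indFun C.L (C.Q4.η 0 : C.L → ℂ) = ∑ ν : C.Phi →* ℂˣ, (C.lin ν : C.S.K → ℂ) := by
    funext z
    simp only [Finset.sum_apply, C.lin_apply, sum_hom_apply C.Phi_comm', C.Q4.η0]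
    by_cases hz : z ∈ C.L
    · rw [if_pos (C.pr_eq_one.2 hz)]
      refine (indFun_invariant C.L (fun _ => (1 : ℂ)) (fun _ _ => rfl) ⟨z, hz⟩).trans ?_
      rw [C.L_index, mul_one]
    · rw [if_neg fun h => hz (C.pr_eq_one.1 h), indFun, Finset.sum_eq_zero fun g _ => ?_, mul_zero]
      refine extendByZero_not_mem _ _ fun h => hz ?_
      have := C.hL.conj_mem _ h g
      simpa [mul_assoc] using this
  rw [← C.inner_indη, e, classInner_sum_left] at h
  obtain ⟨ν, -, hν⟩ := Finset.exists_ne_zero_of_sum_ne_zero h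
  refine ⟨ν, Subtype.ext ?_⟩
  rw [irr_orth (C.lin ν).2 χ.2] at hν
  by_contra hne
  exact hν (if_neg hne)

include hM

theorem nB_zero : C.nB M 0 = 1 := by
  haveI := C.hL
  have h1 : C.res 0 (C.lin 1) = 1 := by
    rw [res, C.Q4.η0, C.lin_one]
    exact irr_self isIrrCharacter_one
  rw [nB, Finset.sum_eq_single (C.lin 1), h1, one_pow]
  · intro χ hχ hne
    by_contra h0
    have h0' : C.res 0 χ ≠ 0 := fun e => h0 (by rw [e]; ring)
    obtain ⟨ν, hν⟩ := C.exists_lin h0'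
    rw [← hν] at hχ hne
    exact hne (congrArg C.lin (C.U_inj hM (self_mem_blockOf (pmod_prime hM) (C.lin ν))
      (Finset.mem_filter.1 hχ).2))
  · intro h
    exact absurd (Finset.mem_filter.2 ⟨Finset.mem_univ _, self_mem_blockOf (pmod_prime hM) (C.lin 1)⟩) h

theorem nB_eq (i : Fin 4) : C.nB M i = 1 := by
  have hv : ∀ k, ∑ j, (C.Q4.cF k j : ℂ) * C.nB M j * (C.Q4.η j : C.L → ℂ) C.D.s = 0 := fun k => by
    rw [← C.res_IF]
    exact C.blockPart_even hM (isClassFunction_indFun _ _) (fun z hz => C.IF_even k hz) (isPBlock_blockOf M _)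
      C.not_odd_sK
  have hw : ∀ k, ∑ j, (C.Q4.cF k j : ℂ) * (C.Q4.η j : C.L → ℂ) C.D.s = 0 := fun k => by
    have h := congrFun (C.Q4.Fk_eq k) C.D.s
    rw [C.Fk_even k (by rw [C.D.hs]; decide), Finset.sum_apply] at h
    exact h.symm
  have hs : ∀ j, (C.Q4.sg j : ℂ) ≠ 0 := fun j => by rcases C.Q4.unit j with e | e <;> rw [e] <;> norm_num
  have h0 := C.nB_zero hM
  have hη : (C.Q4.η 0 : C.L → ℂ) C.D.s = 1 := by rw [C.Q4.η0]
  have a0 := hv 0
  have b0 := hw 0
  simp only [KFacts.Four.cF, Fin.sum_univ_four, Matrix.cons_val_zero, Matrix.cons_val_one, Matrix.cons_val,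
    Int.cast_one, Int.cast_zero, zero_mul, add_zero, one_mul, h0, hη] at a0 b0
  have e1 : (C.Q4.η 1 : C.L → ℂ) C.D.s ≠ 0 := fun e => by rw [e, mul_zero, add_zero] at b0; exact one_ne_zero b0
  have g1 : C.nB M 1 = 1 := by
    refine mul_left_cancel₀ (mul_ne_zero (hs 1) e1) ?_
    linear_combination a0 - b0
  fin_cases i
  · exact h0
  · exact g1
  · have a := hv 1
    have b := hw 1
    simp only [KFacts.Four.cF, Fin.sum_univ_four, Matrix.cons_val_zero, Matrix.cons_val_one, Matrix.cons_val,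
      Int.cast_one, Int.cast_zero, zero_mul, add_zero, zero_add, g1, mul_one] at a b
    refine mul_left_cancel₀ (mul_ne_zero (hs 2) (fun e : (C.Q4.η 2 : C.L → ℂ) C.D.s = 0 => ?_)) ?_
    · rw [e, mul_zero, add_zero] at b
      exact mul_ne_zero (hs 1) e1 b
    · show _ * C.nB M 2 = _ * 1
      linear_combination a - b
  · have a := hv 2
    have b := hw 2
    simp only [KFacts.Four.cF, Fin.sum_univ_four, Matrix.cons_val_zero, Matrix.cons_val_one, Matrix.cons_val,
      Int.cast_one, Int.cast_zero, zero_mul, add_zero, zero_add, g1, mul_one] at a b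
    refine mul_left_cancel₀ (mul_ne_zero (hs 3) (fun e : (C.Q4.η 3 : C.L → ℂ) C.D.s = 0 => ?_)) ?_
    · rw [e, mul_zero, add_zero] at b
      exact mul_ne_zero (hs 1) e1 b
    · show _ * C.nB M 3 = _ * 1
      linear_combination a - b

theorem exists_ext (i : Fin 4) : ∃ χ : IrrCharacter C.S.K, χ ∈ C.U M 1 ∧ C.res i χ = 1 ∧
    ∀ ψ, ψ ∈ C.U M 1 → ψ ≠ χ → C.res i ψ = 0 := by
  have h := C.nB_eq hM i
  choose n hn using fun χ => C.res_nat i χ
  rw [nB, Finset.sum_congr rfl fun χ _ => by rw [hn χ]] at h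
  have h' : ∑ χ : IrrCharacter C.S.K with χ ∈ C.U M 1, n χ ^ 2 = 1 := by exact_mod_cast h
  obtain ⟨χ, hχ, hne⟩ := Finset.exists_ne_zero_of_sum_ne_zero (by rw [h']; exact one_ne_zero)
  rw [← Finset.add_sum_erase _ _ hχ] at h'
  have h1 : n χ = 1 := by
    have : 1 ≤ n χ ^ 2 := Nat.one_le_iff_ne_zero.2 hne
    have : n χ ^ 2 = 1 := by omega
    simpa using this
  refine ⟨χ, (Finset.mem_filter.1 hχ).2, by rw [hn, h1, Nat.cast_one], fun ψ hψ hne' => ?_⟩
  rw [h1, one_pow] at h'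
  have := Finset.sum_eq_zero_iff.1 (show ∑ x ∈ (Finset.univ.filter (· ∈ C.U M 1)).erase χ, n x ^ 2 = 0 by omega) ψ
    (Finset.mem_erase.2 ⟨hne', Finset.mem_filter.2 ⟨Finset.mem_univ _, hψ⟩⟩)
  rw [hn, pow_eq_zero_iff two_ne_zero |>.1 this, Nat.cast_zero]

omit hM

/-- The extension of `ηᵢ` in the principal block. -/
noncomputable def ext1 (M : Ideal AlgInt) (i : Fin 4) : IrrCharacter C.S.K :=
  if hM : IsPModular 2 M then (C.exists_ext hM i).choose else C.lin 1

/-- The extension of `ηᵢ` in the block of `ν`. -/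
noncomputable def ext (M : Ideal AlgInt) (i : Fin 4) (ν : C.Phi →* ℂˣ) : IrrCharacter C.S.K :=
  C.twist ν (C.ext1 M i)

include hM

theorem ext1_spec (i : Fin 4) : C.ext1 M i ∈ C.U M 1 ∧ C.res i (C.ext1 M i) = 1 ∧
    ∀ ψ, ψ ∈ C.U M 1 → ψ ≠ C.ext1 M i → C.res i ψ = 0 := by
  rw [ext1, dif_pos hM]
  exact (C.exists_ext hM i).choose_spec

theorem ext1_L (i : Fin 4) (l : C.L) : (C.ext1 M i : C.S.K → ℂ) l = (C.Q4.η i : C.L → ℂ) l := by
  have h := congrFun (C.res_eq (i := i) (χ := C.ext1 M i) (by rw [(C.ext1_spec hM i).2.1]; exact one_ne_zero)) l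
  rwa [(C.ext1_spec hM i).2.1, one_smul] at h

theorem ext_L (i : Fin 4) (ν : C.Phi →* ℂˣ) (l : C.L) :
    (C.ext M i ν : C.S.K → ℂ) l = (C.Q4.η i : C.L → ℂ) l := by rw [ext, C.twist_L, C.ext1_L hM]

theorem ext_mem (i : Fin 4) (ν : C.Phi →* ℂˣ) : C.ext M i ν ∈ C.U M ν := by
  have h := C.twist_same hM (ν := ν) (χ := C.lin 1) (ψ := C.ext1 M i) (C.ext1_spec hM i).1
  rwa [C.twist_lin] at h

theorem ext_inj {i j : Fin 4} {μ ν : C.Phi →* ℂˣ} (h : C.ext M i μ = C.ext M j ν) : i = j ∧ μ = ν := by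
  refine ⟨C.Q4.inj (Subtype.ext (funext fun l => ?_)), C.U_inj hM (C.ext_mem hM i μ) (h ▸ C.ext_mem hM j ν)⟩
  rw [← C.ext_L hM i μ l, h, C.ext_L hM]

theorem ext0 (ν : C.Phi →* ℂˣ) : C.ext M 0 ν = C.lin ν := by
  rw [ext, ← C.twist_lin]
  congr 1
  by_contra hne
  have h := (C.ext1_spec hM 0).2.2 _ (self_mem_blockOf (pmod_prime hM) (C.lin 1)) (Ne.symm hne)
  rw [res, C.Q4.η0, C.lin_one, irr_self isIrrCharacter_one] at h
  exact one_ne_zero h

theorem inner_ext (i j : Fin 4) (μ ν : C.Phi →* ℂˣ) :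
    classInner (C.ext M i μ : C.S.K → ℂ) (C.ext M j ν : C.S.K → ℂ) = if i = j ∧ μ = ν then 1 else 0 := by
  rw [irr_orth (C.ext M i μ).2 (C.ext M j ν).2]
  refine if_congr ⟨fun h => C.ext_inj hM (Subtype.ext h), fun h => by rw [h.1, h.2]⟩ rfl rfl

omit hM

/-- The function `F_k` of the block of `ν`. -/
noncomputable def Fmu (M : Ideal AlgInt) (k : Fin 3) (ν : C.Phi →* ℂˣ) : C.S.K → ℂ :=
  ∑ i, (C.Q4.cF k i : ℂ) • (C.ext M i ν : C.S.K → ℂ)

theorem gen_Fmu (k : Fin 3) (ν : C.Phi →* ℂˣ) : IsGeneralizedCharacter C.S.K (C.Fmu M k ν) :=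
  isGenChar_sum _ _ fun i _ => isGenChar_int_smul (gen_of_char (irr_isCharacter (C.ext M i ν).2)) _

theorem cl_Fmu (k : Fin 3) (ν : C.Phi →* ℂˣ) : IsClassFunction C.S.K (C.Fmu M k ν) := fun a h => by
  simp only [Fmu, Finset.sum_apply, Pi.smul_apply,
    isClassFunction_character (irr_isCharacter (C.ext M _ ν).2) a h]

theorem Fmu_twist (k : Fin 3) (ν : C.Phi →* ℂˣ) (z : C.S.K) :
    C.Fmu M k ν z = (ν (C.pr z) : ℂ) * C.Fmu M k 1 z := by
  simp only [Fmu, Finset.sum_apply, Pi.smul_apply, smul_eq_mul, ext, C.twist_apply, Finset.mul_sum,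
    MonoidHom.one_apply, Units.val_one, one_mul]
  exact Finset.sum_congr rfl fun i _ => by ring

include hM

theorem Fmu_L (k : Fin 3) (ν : C.Phi →* ℂˣ) (l : C.L) : C.Fmu M k ν l = C.Q4.Fk k l := by
  rw [C.Q4.Fk_eq]
  simp only [Fmu, Finset.sum_apply, Pi.smul_apply, C.ext_L hM]

theorem blockPart_IF (k : Fin 3) : blockPart (C.U M 1) (C.IF k) = C.Fmu M k 1 := by
  funext z
  rw [blockPart_eq]
  simp only [C.inner_IF, Finset.sum_mul]
  rw [Finset.sum_comm, Fmu, Finset.sum_apply]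
  refine Finset.sum_congr rfl fun i _ => ?_
  have he : C.ext M i 1 = C.ext1 M i := Subtype.ext (funext fun x => by simp [ext, twist_apply])
  obtain ⟨h1, h2, h3⟩ := C.ext1_spec hM i
  rw [Finset.sum_eq_single (C.ext1 M i), h2, he, Pi.smul_apply, smul_eq_mul, mul_one]
  · intro χ hχ hne
    rw [h3 χ (Finset.mem_filter.1 hχ).2 hne]; ring
  · intro h
    exact absurd (Finset.mem_filter.2 ⟨Finset.mem_univ _, h1⟩) h

theorem Fmu_even (k : Fin 3) (ν : C.Phi →* ℂˣ) {z : C.S.K} (hz : ¬ Odd (orderOf z)) : C.Fmu M k ν z = 0 := by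
  rw [C.Fmu_twist, ← C.blockPart_IF hM]
  simp only [U, IF] at *
  rw [    C.blockPart_even hM (isClassFunction_indFun _ _) (fun z hz => C.IF_even k hz) (isPBlock_blockOf M _) hz, mul_zero]

theorem inner_Fmu (k l : Fin 3) (μ ν : C.Phi →* ℂˣ) :
    classInner (C.Fmu M k μ) (C.Fmu M l ν) = if μ = ν then classInner (C.Q4.Fk k) (C.Q4.Fk l) else 0 := by
  have e : classInner (C.Q4.Fk k) (C.Q4.Fk l) = ∑ i, (C.Q4.cF k i : ℂ) * (C.Q4.cF l i : ℂ) := by
    rw [C.Q4.Fk_eq, C.Q4.Fk_eq]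
    simp only [classInner_sum_left, classInner_sum_right, classInner_smul_left, classInner_smul_right,
      C.Q4.inner_η, map_intCast, mul_ite, mul_one, mul_zero, Finset.sum_ite_eq, Finset.sum_ite_eq', Finset.mem_univ,
      if_true]
    exact Finset.sum_congr rfl fun i _ => mul_comm _ _
  rw [Fmu, Fmu]
  simp only [classInner_sum_left, classInner_sum_right, classInner_smul_left, classInner_smul_right,
    C.inner_ext hM, map_intCast]
  split_ifs with h
  · subst h
    rw [e]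
    simp [mul_comm]
  · simp [h]

theorem sum_ext (i : Fin 4) [Fintype (C.Phi →* ℂˣ)] :
    ∑ ν : C.Phi →* ℂˣ, (C.ext M i ν : C.S.K → ℂ) = indFun C.L (C.Q4.η i : C.L → ℂ) := by
  haveI := C.hL
  funext z
  simp only [Finset.sum_apply, ext, C.twist_apply, ← Finset.sum_mul, sum_hom_apply C.Phi_comm']
  by_cases hz : z ∈ C.L
  · rw [if_pos (C.pr_eq_one.2 hz),
      show indFun C.L (C.Q4.η i : C.L → ℂ) z = (C.L.index : ℂ) * (C.Q4.η i : C.L → ℂ) ⟨z, hz⟩ from
        indFun_invariant C.L _ (fun g n => C.η_conj i g n) ⟨z, hz⟩, C.L_index,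
      show (C.ext1 M i : C.S.K → ℂ) z = (C.Q4.η i : C.L → ℂ) ⟨z, hz⟩ from C.ext1_L hM i ⟨z, hz⟩]
  · rw [if_neg fun h => hz (C.pr_eq_one.1 h), zero_mul, indFun, Finset.sum_eq_zero fun g _ => ?_, mul_zero]
    refine extendByZero_not_mem _ _ fun h => hz ?_
    have := C.hL.conj_mem _ h g
    simpa [mul_assoc] using this

theorem sum_Fmu (k : Fin 3) [Fintype (C.Phi →* ℂˣ)] : ∑ ν : C.Phi →* ℂˣ, C.Fmu M k ν = C.IF k := by
  rw [IF, C.Q4.Fk_eq, indFun_sum]
  simp only [Fmu]
  rw [Finset.sum_comm]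
  exact Finset.sum_congr rfl fun i _ => by rw [indFun_smul, ← Finset.smul_sum, C.sum_ext hM i]

theorem ext_unique {i : Fin 4} {χ : IrrCharacter C.S.K} [Fintype (C.Phi →* ℂˣ)] (h : C.res i χ ≠ 0) :
    ∃ ν, C.ext M i ν = χ := by
  rw [← C.inner_indη, ← C.sum_ext hM i, classInner_sum_left] at h
  obtain ⟨ν, -, hν⟩ := Finset.exists_ne_zero_of_sum_ne_zero h
  refine ⟨ν, Subtype.ext ?_⟩
  rw [irr_orth (C.ext M i ν).2 χ.2] at hν
  by_contra hne
  exact hν (if_neg hne)

/-- A character of degree divisible by four vanishes on elements of even order. -/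
theorem four_dvd_vanish {χ : IrrCharacter C.S.K} (h4 : 4 ∣ deg (χ : C.S.K → ℂ)) {z : C.S.K}
    (hz : ¬ Odd (orderOf z)) : (χ : C.S.K → ℂ) z = 0 := by
  have hdeg0 := (deg_pos χ.2).ne'
  have hde : dexp 2 (χ : C.S.K → ℂ) = (Nat.card C.S.K).factorization 2 := by
    refine le_antisymm ((Nat.factorization_le_iff_dvd hdeg0 Nat.card_pos.ne').2 (deg_dvd_card χ.2) 2) ?_
    rw [C.fact_two_K, dexp]
    exact (Nat.prime_two.pow_dvd_iff_le_factorization hdeg0).1 h4
  have hB := (singleton_iff_dexp hM χ).2 hde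
  have h := weak_orthogonality hM (isPBlock_blockOf M χ) (x := (1 : C.S.K)) (y := z) (by rw [orderOf_one]; decide)
    (even_iff_two_dvd.1 (Nat.not_odd_iff_even.1 hz))
  rw [hB, finsum_mem_singleton] at h
  exact (map_eq_zero (starRingEnd ℂ)).1 ((mul_eq_zero.1 h).resolve_left (irr_one_ne_zero χ.2))

end Fin

end Frame

end Cfsg.Agent.Walter.JR
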