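import Cfsg.Agent.Lib.Walter.JR.Basic
import Cfsg.Agent.Lib.Char.ReeOrder.KInner
import Cfsg.Agent.Lib.Char.ReeOrder.LocalPsl

/-!
# `E = L Φ` and the functions induced from `B P`, `P ≤ Φ`

`D(θ, P, μ)` is induced from `μ (1 - θ)` on `B P`, where `P` fixes the character `θ` of `B`. Its inner products follow
from the fusion of `B P` in `E`: an element conjugating `1 ≠ y ∈ B` into `B` lies in `⟨s, u₀⟩ B Φ`.
-/

set_option autoImplicit false
set_option linter.unusedSectionVars false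
set_option linter.style.haveILetI false
set_option maxHeartbeats 800000

open Cfsg
open scoped ComplexConjugate Classical

namespace Cfsg.Agent.Walter.JR

open Subgroup Cfsg.Agent.Char Cfsg.Agent.Char.ReeThree Cfsg.Agent.Char.ReeOrder

universe u

namespace Frame

variable {G : Type u} [Group G] [Finite G] {F : Type} [Field F] [Fintype F] (C : Frame G F)

/-! ### The projection `E → Φ` -/

/-- The projection on `Φ`. -/
noncomputable def pr : C.S.K →* C.Phi :=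
  haveI := C.hL
  C.compl.symm.QuotientMulEquiv.toMonoidHom.comp (QuotientGroup.mk' C.L)

theorem pr_eq_one {x : C.S.K} : C.pr x = 1 ↔ x ∈ C.L := by
  haveI := C.hL
  show C.compl.symm.QuotientMulEquiv _ = 1 ↔ _
  rw [← map_one C.compl.symm.QuotientMulEquiv, EquivLike.apply_eq_iff_eq, QuotientGroup.mk'_apply,
    QuotientGroup.eq_one_iff]

theorem pr_Phi (f : C.Phi) : C.pr (f : C.S.K) = f := by
  haveI := C.hL
  show C.compl.symm.QuotientMulEquiv _ = f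
  rw [← MulEquiv.eq_symm_apply, QuotientGroup.mk'_apply]
  rfl

theorem pr_L (l : C.L) : C.pr (l : C.S.K) = 1 := C.pr_eq_one.2 l.2

/-- The component in `L`. -/
noncomputable def lp (x : C.S.K) : C.L :=
  ⟨x * (C.pr x : C.S.K)⁻¹, C.pr_eq_one.1 (by rw [map_mul, map_inv, C.pr_Phi, mul_inv_cancel])⟩

theorem lp_mul_pr (x : C.S.K) : (C.lp x : C.S.K) * (C.pr x : C.S.K) = x := inv_mul_cancel_right _ _

theorem pr_mul (l : C.L) (f : C.Phi) : C.pr ((l : C.S.K) * (f : C.S.K)) = f := by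
  rw [map_mul, C.pr_L, C.pr_Phi, one_mul]

theorem lp_mul (l : C.L) (f : C.Phi) : C.lp ((l : C.S.K) * (f : C.S.K)) = l := by
  refine Subtype.ext ?_
  show (l : C.S.K) * (f : C.S.K) * (C.pr _ : C.S.K)⁻¹ = l
  rw [C.pr_mul, mul_inv_cancel_right]

theorem Phi_comm' (f g : C.Phi) : f * g = g * f :=
  Subtype.ext (Subtype.ext (C.Phi_comm ⟨f, f.2, rfl⟩ ⟨g, g.2, rfl⟩))

theorem card_K : Nat.card C.S.K = Nat.card C.L * C.e := C.compl.card_mul_card.symm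

/-! ### The action on `B` -/

/-- `β` as an element of `E`. -/
abbrev bK : C.D.B →* C.S.K := C.L.subtype.comp C.D.B.subtype

theorem bK_inj : Function.Injective C.bK := C.L.subtype_injective.comp C.D.B.subtype_injective

theorem bK_mem_L (β : C.D.B) : C.bK β ∈ C.L := (β : C.L).2

theorem bK_G (β : C.D.B) : ((C.bK β : C.S.K) : G) = C.embL (β : C.L) := rfl

theorem exists_bconj (f : C.Phi) (β : C.D.B) :
    ∃ β' : C.D.B, (f : C.S.K) * C.bK β * (f : C.S.K)⁻¹ = C.bK β' := by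
  obtain ⟨y, hy, e⟩ := C.conj_mem_BG (f := ((f : C.S.K) : G)) (x := C.embL (β : C.L)) ⟨f, f.2, rfl⟩ ⟨β, β.2, rfl⟩
  exact ⟨⟨y, hy⟩, Subtype.ext e.symm⟩

/-- Conjugation of `B` by `Φ`. -/
noncomputable def bconj (f : C.Phi) : C.D.B →* C.D.B where
  toFun β := (C.exists_bconj f β).choose
  map_one' := C.bK_inj (by rw [← (C.exists_bconj f 1).choose_spec, map_one, mul_one, mul_inv_cancel])
  map_mul' a b := C.bK_inj (by
    rw [← (C.exists_bconj f _).choose_spec, map_mul, map_mul, ← (C.exists_bconj f _).choose_spec,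
      ← (C.exists_bconj f _).choose_spec]
    group)

theorem bconj_spec (f : C.Phi) (β : C.D.B) : (f : C.S.K) * C.bK β * (f : C.S.K)⁻¹ = C.bK (C.bconj f β) :=
  (C.exists_bconj f β).choose_spec

theorem bconj_one (β : C.D.B) : C.bconj 1 β = β :=
  C.bK_inj (by rw [← C.bconj_spec]; simp)

theorem bconj_mul (f g : C.Phi) (β : C.D.B) : C.bconj (f * g) β = C.bconj f (C.bconj g β) :=
  C.bK_inj (by rw [← C.bconj_spec, ← C.bconj_spec, ← C.bconj_spec, Subgroup.coe_mul]; group)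

theorem bconj_inv_spec (f : C.Phi) (β : C.D.B) :
    (f : C.S.K)⁻¹ * C.bK β * (f : C.S.K) = C.bK (C.bconj f⁻¹ β) := by
  rw [← C.bconj_spec]; simp

theorem B_comm' (a b : C.D.B) : a * b = b * a := Subtype.ext (C.D.B_comm a a.2 b b.2)

theorem b_ne : (C.D.b : ℂ) ≠ 0 := Nat.cast_ne_zero.2 C.D.b_odd.pos.ne'

/-- The character conjugated by `f`. -/
noncomputable abbrev cj (θ : C.D.B →* ℂˣ) (f : C.Phi) : C.D.B →* ℂˣ := θ.comp (C.bconj f)

theorem cj_one (θ : C.D.B →* ℂˣ) : C.cj θ 1 = θ := MonoidHom.ext fun β => congrArg θ (C.bconj_one β)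

theorem cj_mul (θ : C.D.B →* ℂˣ) (f g : C.Phi) : C.cj (C.cj θ f) g = C.cj θ (f * g) :=
  MonoidHom.ext fun β => congrArg θ (C.bconj_mul f g β).symm

/-- The stabiliser of a character of `B`. -/
def stab (θ : C.D.B →* ℂˣ) : Subgroup C.Phi where
  carrier := {f | C.cj θ f = θ}
  one_mem' := C.cj_one θ
  mul_mem' := by
    intro f g hf hg
    show C.cj θ (f * g) = θ
    rw [← C.cj_mul, show C.cj θ f = θ from hf]
    exact hg
  inv_mem' := by
    intro f hf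
    show C.cj θ f⁻¹ = θ
    conv_lhs => rw [← show C.cj θ f = θ from hf]
    rw [C.cj_mul, mul_inv_cancel, C.cj_one]

theorem mem_stab {θ : C.D.B →* ℂˣ} {f : C.Phi} : f ∈ C.stab θ ↔ C.cj θ f = θ := Iff.rfl

/-- A character fixed by `Φ`. -/
abbrev Inv (θ : C.D.B →* ℂˣ) : Prop := C.stab θ = ⊤

theorem inv_cj {θ : C.D.B →* ℂˣ} (h : C.Inv θ) (f : C.Phi) : C.cj θ f = θ :=
  C.mem_stab.1 (h ▸ mem_top f)

theorem cj_ne {θ : C.D.B →* ℂˣ} (hθ : θ ≠ 1) (f : C.Phi) : C.cj θ f ≠ 1 := fun h => hθ (by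
  rw [← C.cj_one θ, ← mul_inv_cancel f, ← C.cj_mul, h]; rfl)

/-! ### The four group of `L` -/

/-- The involution `u₀` in `L`. -/
noncomputable def uL : C.L := C.exists_klein.choose

theorem uL_spec : C.uL * C.D.s = C.D.s * C.uL ∧ C.uL * C.uL = 1 ∧ C.uL ∉ C.D.W :=
  ⟨C.exists_klein.choose_spec.choose_spec.1, C.exists_klein.choose_spec.choose_spec.2.1,
    C.exists_klein.choose_spec.choose_spec.2.2.1⟩

theorem uL_G : C.embL C.uL = C.u0 := rfl

/-- The four elements `sⁱ u₀ʲ`. -/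
noncomputable def vq (v : Bool × Bool) : C.L :=
  (if v.1 then C.D.s else 1) * (if v.2 then C.uL else 1)

/-- `β` or its inverse. -/
def sgnB (v : Bool × Bool) (β : C.D.B) : C.D.B := if v.2 then β⁻¹ else β

theorem vq_B (v : Bool × Bool) (β : C.D.B) : (C.vq v)⁻¹ * (β : C.L) * C.vq v = (C.sgnB v β : C.D.B) := by
  obtain ⟨u1, u2, u3⟩ := C.uL_spec
  obtain ⟨-, hinv⟩ := C.D.outside u1 u3
  have hi : C.uL⁻¹ = C.uL := inv_eq_of_mul_eq_one_left u2
  have hu : C.uL⁻¹ * (β : C.L) * C.uL = (β : C.L)⁻¹ := by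
    have h := hinv β β.2
    rw [hi] at h ⊢
    exact h
  have hs : C.D.s⁻¹ * (β : C.L) * C.D.s = (β : C.L) := by
    rw [mul_assoc, ← C.D.B_s β β.2, inv_mul_cancel_left]
  obtain ⟨i, j⟩ := v
  cases i <;> cases j <;> simp only [vq, sgnB, if_true, Bool.false_eq_true, if_false, mul_one, one_mul, inv_one]
  · rw [hu]; rfl
  · exact hs
  · rw [show (C.D.s * C.uL)⁻¹ * (β : C.L) * (C.D.s * C.uL) = C.uL⁻¹ * (C.D.s⁻¹ * (β : C.L) * C.D.s) * C.uL by group,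
      hs, hu]
    rfl

theorem vq_Phi (v : Bool × Bool) (f : C.Phi) : (f : C.S.K) * (C.vq v : C.S.K) = (C.vq v : C.S.K) * (f : C.S.K) := by
  have hs : Commute (f : C.S.K) (C.D.s : C.S.K) := Subtype.ext (C.s_fix ⟨f, f.2, rfl⟩)
  have hu : Commute (f : C.S.K) (C.uL : C.S.K) := Subtype.ext (C.u0_fix ⟨f, f.2, rfl⟩)
  obtain ⟨i, j⟩ := v
  cases i <;> cases j <;> simp [vq]
  · exact hu.eq
  · exact hs.eq
  · exact (hs.mul_right hu).eq

theorem vq_inj {v v' : Bool × Bool} (h : (C.vq v)⁻¹ * C.vq v' ∈ C.D.B) : v = v' := by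
  obtain ⟨u1, u2, u3⟩ := C.uL_spec
  have sW : C.D.s ∈ C.D.W := C.D.mem_W.2 (Or.inr (by rw [C.D.s_sq]; exact one_mem _))
  have hW := C.D.B_le_W h
  obtain ⟨i, j⟩ := v
  obtain ⟨i', j'⟩ := v'
  have hi : C.uL⁻¹ = C.uL := inv_eq_of_mul_eq_one_left u2
  have hjj : j = j' := by
    by_contra hne
    have e1 : ∀ i : Bool, (if i then C.D.s else 1 : C.L) ∈ C.D.W := fun i => by
      cases i <;> simp [sW, one_mem]
    have e2 : ∀ i : Bool, Commute (if i then C.D.s else 1 : C.L) C.uL := fun i => by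
      cases i
      · simp
      · exact u1.symm
    apply u3
    cases j <;> cases j' <;> try exact absurd rfl hne
    · simp only [vq, if_true, Bool.false_eq_true, if_false, mul_one, ← mul_assoc] at hW
      exact (Subgroup.mul_mem_cancel_left _ (mul_mem (inv_mem (e1 i)) (e1 i'))).1 hW
    · simp only [vq, if_true, Bool.false_eq_true, if_false, mul_one, mul_inv_rev, hi] at hW
      rw [mul_assoc] at hW
      exact (Subgroup.mul_mem_cancel_right _ (mul_mem (inv_mem (e1 i)) (e1 i'))).1 hW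
  subst hjj
  have hc : Commute C.D.s (if j then C.uL else 1 : C.L) := by
    cases j
    · simp
    · exact u1.symm
  have hs : C.D.s⁻¹ = C.D.s := inv_eq_of_mul_eq_one_left C.D.s_sq
  simp only [vq] at h
  generalize (if j then C.uL else 1 : C.L) = w at h hc
  have hws : w⁻¹ * (C.D.s * w) = C.D.s := by rw [hc.eq, inv_mul_cancel_left]
  cases i <;> cases i' <;> simp only [if_true, Bool.false_eq_true, if_false, one_mul] at h
  · rfl
  · rw [hws] at h; exact absurd h C.D.s_not_B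
  · rw [mul_inv_rev, hs, mul_assoc, hws] at h; exact absurd h C.D.s_not_B
  · rfl

/-- The elements `sⁱ u₀ʲ f β`. -/
noncomputable def rep (p : (Bool × Bool) × C.Phi × C.D.B) : C.S.K :=
  (C.vq p.1 : C.S.K) * (p.2.1 : C.S.K) * C.bK p.2.2

theorem rep_inj : Function.Injective C.rep := by
  rintro ⟨v, f, β⟩ ⟨v', f', β'⟩ h
  have e : ∀ (v : Bool × Bool) (f : C.Phi) (β : C.D.B), C.rep (v, f, β) =
      ((C.vq v * (C.bconj f β : C.D.B) : C.L) : C.S.K) * (f : C.S.K) := fun v f β => by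
    show (C.vq v : C.S.K) * (f : C.S.K) * C.bK β = (C.vq v : C.S.K) * C.bK (C.bconj f β) * (f : C.S.K)
    rw [← C.bconj_spec]; group
  rw [e, e] at h
  obtain rfl : f = f' := by
    have hp := congrArg C.pr h
    rwa [C.pr_mul, C.pr_mul] at hp
  have hl := congrArg C.lp h
  rw [C.lp_mul, C.lp_mul] at hl
  obtain rfl : v = v' := C.vq_inj (by
    have : (C.vq v)⁻¹ * C.vq v' = ((C.bconj f β * (C.bconj f β')⁻¹ : C.D.B) : C.L) := by
      rw [Subgroup.coe_mul, Subgroup.coe_inv, inv_mul_eq_iff_eq_mul, ← mul_assoc, hl, mul_inv_cancel_right]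
    rw [this]; exact SetLike.coe_mem _)
  have hb : C.bconj f β = C.bconj f β' := Subtype.ext (mul_left_cancel hl)
  have hb' := congrArg (C.bconj f⁻¹) hb
  rw [← C.bconj_mul, ← C.bconj_mul, inv_mul_cancel, C.bconj_one, C.bconj_one] at hb'
  rw [hb']

/-- An element conjugating `1 ≠ y ∈ B` into `B` is one of the `rep`. -/
theorem conj_B {y : C.D.B} (hy : y ≠ 1) {g : C.S.K} {y' : C.D.B} (h : g⁻¹ * C.bK y * g = C.bK y') :
    ∃ p, C.rep p = g := by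
  set l := C.lp g with hl
  set f := C.pr g with hf
  have hg : g = (l : C.S.K) * (f : C.S.K) := (C.lp_mul_pr g).symm
  set z := C.bconj f y' with hz
  have hlz : l⁻¹ * (y : C.L) * l = (z : C.L) := by
    apply Subtype.ext
    show (l : C.S.K)⁻¹ * C.bK y * (l : C.S.K) = C.bK z
    rw [hz, ← C.bconj_spec, ← h, hg]; group
  have hz1 : z ≠ 1 := fun e => hy (Subtype.ext (by
    rw [e, Subgroup.coe_one] at hlz
    rw [show (y : C.L) = l * (l⁻¹ * (y : C.L) * l) * l⁻¹ by group, hlz]; simp))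
  have hyL : (y : C.L) ≠ 1 := fun e => hy (Subtype.ext e)
  have hzy : l * (z : C.L) * l⁻¹ = y := by rw [← hlz]; group
  have hcnt := C.D.cntB z z.2 (fun e => hz1 (Subtype.ext e)) y y.2
  have hne : Nat.card {k : C.L // k * (z : C.L) * k⁻¹ = (y : C.L)} ≠ 0 :=
    (Nat.card_pos_iff.2 ⟨⟨⟨l, hzy⟩⟩, inferInstance⟩).ne'
  obtain ⟨u1, u2, u3⟩ := C.uL_spec
  -- modulo `u₀` the element `l` centralises `y`
  obtain ⟨j, hj⟩ : ∃ j : Bool, (if j then C.uL else 1)⁻¹ * l ∈ C.D.W := by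
    split_ifs at hcnt with hcase
    · rcases hcase with e | e
      · refine ⟨false, ?_⟩
        simp only [Bool.false_eq_true, if_false, inv_one, one_mul]
        rw [← e] at hzy
        exact C.D.centB y.2 hyL (mul_inv_eq_iff_eq_mul.1 hzy)
      · refine ⟨true, ?_⟩
        simp only [if_true]
        refine C.D.centB z.2 (fun e' => hz1 (Subtype.ext e')) ?_
        have h1 := (C.D.outside u1 u3).2 y y.2
        rw [e] at h1 hzy
        rw [inv_inv] at h1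
        rw [← mul_inv_eq_iff_eq_mul, show C.uL⁻¹ * l * (z : C.L) * (C.uL⁻¹ * l)⁻¹ =
          C.uL⁻¹ * (l * (z : C.L) * l⁻¹) * C.uL by group, hzy]
        rw [inv_eq_of_mul_eq_one_left u2] at h1 ⊢
        exact h1
    · exact absurd hcnt hne
  obtain ⟨i, β, hβ⟩ : ∃ i : Bool, ∃ β : C.D.B, l = C.vq (i, j) * β := by
    rcases C.D.mem_W.1 hj with hB | hB
    · refine ⟨false, ⟨_, hB⟩, ?_⟩
      simp [vq]
    · refine ⟨true, ⟨_, hB⟩, ?_⟩
      have hc : Commute C.D.s (if j then C.uL else 1 : C.L) := by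
        cases j
        · simp
        · exact u1.symm
      show l = C.vq (true, j) * (C.D.s * ((if j then C.uL else 1)⁻¹ * l))
      simp only [vq, if_true]
      rw [hc.eq, mul_assoc (if j then C.uL else 1 : C.L), ← mul_assoc C.D.s, C.D.s_sq, one_mul, mul_inv_cancel_left]
  refine ⟨((i, j), f, C.bconj f⁻¹ β), ?_⟩
  rw [hg, rep, ← C.bconj_inv_spec, hβ, Subgroup.coe_mul]
  group
  rfl

/-! ### The subgroup `B P` -/

/-- `B P`. -/
def HP (P : Subgroup C.Phi) : Subgroup C.S.K where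
  carrier := {x | C.pr x ∈ P ∧ C.lp x ∈ C.D.B}
  one_mem' := by
    refine ⟨by rw [map_one]; exact one_mem _, ?_⟩
    rw [show C.lp 1 = 1 from Subtype.ext (by show (1 : C.S.K) * _ = 1; simp)]
    exact one_mem _
  mul_mem' := by
    rintro x y ⟨hx, hx'⟩ ⟨hy, hy'⟩
    refine ⟨by rw [map_mul]; exact mul_mem hx hy, ?_⟩
    have e : C.lp (x * y) = ((⟨_, hx'⟩ * C.bconj (C.pr x) ⟨_, hy'⟩ : C.D.B) : C.L) := by
      apply Subtype.ext
      show x * y * (C.pr (x * y) : C.S.K)⁻¹ = (C.lp x : C.S.K) * C.bK (C.bconj (C.pr x) ⟨_, hy'⟩)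
      rw [← C.bconj_spec, map_mul, Subgroup.coe_mul]
      show _ = x * (C.pr x : C.S.K)⁻¹ * ((C.pr x : C.S.K) * (y * (C.pr y : C.S.K)⁻¹) * (C.pr x : C.S.K)⁻¹)
      group
    rw [e]
    exact SetLike.coe_mem _
  inv_mem' := by
    rintro x ⟨hx, hx'⟩
    refine ⟨by rw [map_inv]; exact inv_mem hx, ?_⟩
    have e : C.lp x⁻¹ = ((C.bconj (C.pr x)⁻¹ ⟨_, hx'⟩)⁻¹ : C.D.B) := by
      apply Subtype.ext
      show x⁻¹ * (C.pr x⁻¹ : C.S.K)⁻¹ = (C.bK (C.bconj (C.pr x)⁻¹ ⟨_, hx'⟩))⁻¹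
      rw [← C.bconj_inv_spec, map_inv, Subgroup.coe_inv, inv_inv]
      show _ = ((C.pr x : C.S.K)⁻¹ * (x * (C.pr x : C.S.K)⁻¹) * (C.pr x : C.S.K))⁻¹
      group
    rw [e]
    exact SetLike.coe_mem _

theorem mem_HP {P : Subgroup C.Phi} {x : C.S.K} : x ∈ C.HP P ↔ C.pr x ∈ P ∧ C.lp x ∈ C.D.B := Iff.rfl

theorem bf_mem_iff {P : Subgroup C.Phi} (β : C.D.B) (f : C.Phi) :
    C.bK β * (f : C.S.K) ∈ C.HP P ↔ f ∈ P := by
  rw [mem_HP, show C.bK β = ((β : C.L) : C.S.K) from rfl, C.pr_mul, C.lp_mul]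
  exact and_iff_left β.2

theorem bK_mem (P : Subgroup C.Phi) (β : C.D.B) : C.bK β ∈ C.HP P := by
  simpa using (C.bf_mem_iff β 1).2 (one_mem P)

/-- The parametrisation of `B P`. -/
noncomputable def hpE (P : Subgroup C.Phi) : C.D.B × P ≃ C.HP P where
  toFun p := ⟨C.bK p.1 * ((p.2 : C.Phi) : C.S.K), (C.bf_mem_iff _ _).2 p.2.2⟩
  invFun x := (⟨C.lp x, x.2.2⟩, ⟨C.pr x, x.2.1⟩)
  left_inv p := Prod.ext (Subtype.ext (C.lp_mul (p.1 : C.L) (p.2 : C.Phi)))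
    (Subtype.ext (C.pr_mul (p.1 : C.L) (p.2 : C.Phi)))
  right_inv x := Subtype.ext (C.lp_mul_pr x)

theorem card_HP (P : Subgroup C.Phi) : Nat.card (C.HP P) = C.D.b * Nat.card P := by
  rw [← Nat.card_congr (C.hpE P), Nat.card_prod, C.D.card_B]

theorem odd_HP (P : Subgroup C.Phi) : Odd (Nat.card (C.HP P)) :=
  C.card_HP P ▸ C.D.b_odd.mul (C.odd.of_dvd_nat P.card_subgroup_dvd_card)

variable {P : Subgroup C.Phi}

/-- The `B`-component on `B P`. -/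
noncomputable def bp (x : C.HP P) : C.D.B := ⟨C.lp x, x.2.2⟩

theorem bp_mul (x y : C.HP P) : C.bp (x * y) = C.bp x * C.bconj (C.pr x) (C.bp y) := by
  apply C.bK_inj
  show ((x : C.S.K) * y) * (C.pr ((x : C.S.K) * y) : C.S.K)⁻¹ =
    ((x : C.S.K) * (C.pr x : C.S.K)⁻¹) * C.bK (C.bconj (C.pr x) (C.bp y))
  rw [← C.bconj_spec, map_mul, Subgroup.coe_mul]
  show _ = _ * ((C.pr x : C.S.K) * ((y : C.S.K) * (C.pr y : C.S.K)⁻¹) * (C.pr x : C.S.K)⁻¹)
  group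

/-- The linear character `μ θ` of `B P`. -/
noncomputable def chi {θ : C.D.B →* ℂˣ} (hθ : P ≤ C.stab θ) (μ : C.Phi →* ℂˣ) : C.HP P →* ℂˣ where
  toFun x := μ (C.pr x) * θ (C.bp x)
  map_one' := by
    rw [show C.bp (1 : C.HP P) = 1 from Subtype.ext (Subtype.ext (by
      show ((1 : C.HP P) : C.S.K) * _ = 1; simp))]
    simp
  map_mul' x y := by
    rw [C.bp_mul, map_mul, Subgroup.coe_mul, map_mul C.pr, map_mul μ,
      show θ (C.bconj (C.pr x) (C.bp y)) = θ (C.bp y) from DFunLike.congr_fun (C.mem_stab.1 (hθ x.2.1)) _,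
      mul_mul_mul_comm]

/-- `μ (1 - θ)` on `B P`. -/
noncomputable def psi (θ : C.D.B →* ℂˣ) (P : Subgroup C.Phi) (μ : C.Phi →* ℂˣ) : C.HP P → ℂ :=
  fun x => (μ (C.pr x) : ℂ) * (1 - (θ (C.bp x) : ℂ))

theorem psi_eq {θ : C.D.B →* ℂˣ} (hθ : P ≤ C.stab θ) (μ : C.Phi →* ℂˣ) :
    C.psi θ P μ = (fun x => ((μ.comp (C.pr.comp (C.HP P).subtype)) x : ℂ)) - fun x => (C.chi hθ μ x : ℂ) := by
  funext x
  simp [psi, chi, mul_sub]

theorem cl_psi {θ : C.D.B →* ℂˣ} (hθ : P ≤ C.stab θ) (μ : C.Phi →* ℂˣ) : IsClassFunction (C.HP P) (C.psi θ P μ) := by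
  intro g h
  rw [C.psi_eq hθ]
  simp only [Pi.sub_apply, map_mul, map_inv, mul_inv_cancel_comm]

theorem psi_hpE (θ : C.D.B →* ℂˣ) (μ : C.Phi →* ℂˣ) (β : C.D.B) (f : P) :
    C.psi θ P μ (C.hpE P (β, f)) = (μ f : ℂ) * (1 - (θ β : ℂ)) := by
  have e1 : C.pr (C.hpE P (β, f) : C.S.K) = f := C.pr_mul (β : C.L) (f : C.Phi)
  have e2 : C.bp (C.hpE P (β, f)) = β := Subtype.ext (C.lp_mul (β : C.L) (f : C.Phi))
  rw [psi, e1, e2]

/-! ### `D(θ, P, μ)` -/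

section Fin

variable [Fintype G]

/-- The function induced from `μ (1 - θ)` on `B P`. -/
noncomputable def Df (θ : C.D.B →* ℂˣ) (P : Subgroup C.Phi) (μ : C.Phi →* ℂˣ) : C.S.K → ℂ :=
  indFun (C.HP P) (C.psi θ P μ)

theorem cl_Df (θ : C.D.B →* ℂˣ) (P : Subgroup C.Phi) (μ : C.Phi →* ℂˣ) : IsClassFunction C.S.K (C.Df θ P μ) :=
  isClassFunction_indFun _ _

theorem gen_Df {θ : C.D.B →* ℂˣ} (hθ : P ≤ C.stab θ) (μ : C.Phi →* ℂˣ) :
    IsGeneralizedCharacter C.S.K (C.Df θ P μ) :=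
  ⟨_, _, isCharacter_indFun _ (isCharacter_linear _), isCharacter_indFun _ (isCharacter_linear _),
    by rw [Df, C.psi_eq hθ, indFun_sub]⟩

theorem Df_even (θ : C.D.B →* ℂˣ) (μ : C.Phi →* ℂˣ) {z : C.S.K} (hz : ¬ Odd (orderOf z)) :
    C.Df θ P μ z = 0 := indFun_even_zero _ _ (C.odd_HP P) hz

theorem Df_one (θ : C.D.B →* ℂˣ) (μ : C.Phi →* ℂˣ) : C.Df θ P μ 1 = 0 := by
  rw [Df, indFun_one, psi, show C.bp (1 : C.HP P) = 1 from Subtype.ext (Subtype.ext (by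
    show ((1 : C.HP P) : C.S.K) * _ = 1; simp))]
  simp

/-- A power inside `B`, non-trivial. -/
theorem pow_mem_B {θ : C.D.B →* ℂˣ} (hθ : P ≤ C.stab θ) (hco : C.e.Coprime C.D.b) {x : C.HP P}
    (hx : θ (C.bp x) ≠ 1) : ∃ y : C.D.B, y ≠ 1 ∧ (x : C.S.K) ^ C.e = C.bK y := by
  have hp : C.pr ((x : C.S.K) ^ C.e) = 1 := by rw [map_pow]; exact pow_card_eq_one'
  have hm : (x : C.S.K) ^ C.e ∈ C.HP P := pow_mem x.2 _
  have hlp : C.bK (C.bp (x ^ C.e)) = (x : C.S.K) ^ C.e := by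
    conv_rhs => rw [← C.lp_mul_pr ((x : C.S.K) ^ C.e), hp, OneMemClass.coe_one, mul_one]
    rfl
  refine ⟨C.bp (x ^ C.e), fun e => hx ?_, hlp.symm⟩
  have h1 : C.chi hθ 1 (x ^ C.e) = 1 := by
    show (1 : C.Phi →* ℂˣ) _ * θ _ = 1
    rw [e, map_one, mul_one]; rfl
  have h2 : C.chi hθ 1 x = θ (C.bp x) := one_mul _
  rw [map_pow, h2] at h1
  have h3 : θ (C.bp x) ^ C.D.b = 1 := by
    rw [← map_pow, show C.bp x ^ C.D.b = 1 from C.D.card_B ▸ pow_card_eq_one', map_one]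
  have := pow_gcd_eq_one.mpr ⟨h1, h3⟩
  rwa [hco.gcd_eq_one, pow_one] at this

/-- The conjugate of `β h` by `sⁱ u₀ʲ f β₀`. -/
theorem rep_conj (p : (Bool × Bool) × C.Phi × C.D.B) (β : C.D.B) (h : C.Phi) :
    (C.rep p)⁻¹ * (C.bK β * (h : C.S.K)) * C.rep p =
      (C.bK p.2.2)⁻¹ * (C.bK (C.bconj p.2.1⁻¹ (C.sgnB p.1 β)) * (h : C.S.K)) * C.bK p.2.2 := by
  obtain ⟨v, f, β0⟩ := p
  have hv : (C.vq v : C.S.K)⁻¹ * C.bK β * (C.vq v : C.S.K) = C.bK (C.sgnB v β) :=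
    congrArg Subtype.val (C.vq_B v β)
  have hh : (h : C.S.K) * (f : C.S.K) = (f : C.S.K) * (h : C.S.K) := congrArg Subtype.val (C.Phi_comm' h f)
  calc (C.rep (v, f, β0))⁻¹ * (C.bK β * (h : C.S.K)) * C.rep (v, f, β0)
      = (C.bK β0)⁻¹ * ((f : C.S.K)⁻¹ * ((C.vq v : C.S.K)⁻¹ * C.bK β * (C.vq v : C.S.K)) *
          ((C.vq v : C.S.K)⁻¹ * ((h : C.S.K) * (C.vq v : C.S.K))) * (f : C.S.K)) * C.bK β0 := by
        simp only [rep]; group
    _ = (C.bK β0)⁻¹ * ((f : C.S.K)⁻¹ * C.bK (C.sgnB v β) * ((h : C.S.K) * (f : C.S.K))) * C.bK β0 := by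
        rw [hv, C.vq_Phi v h, inv_mul_cancel_left, mul_assoc _ (h : C.S.K)]
    _ = _ := by rw [hh, ← C.bconj_inv_spec]; group

/-- The values on `B P`. -/
theorem Df_val {θ φ : C.D.B →* ℂˣ} {P' : Subgroup C.Phi} (hθ : P ≤ C.stab θ) (hφ : P' ≤ C.stab φ)
    (hco : C.e.Coprime C.D.b) (μ' : C.Phi →* ℂˣ) (β : C.D.B) (h : P) (hβ : θ β ≠ 1) :
    C.Df φ P' μ' (C.hpE P (β, h) : C.S.K) = if (h : C.Phi) ∈ P' then
      2 * (Nat.card P' : ℂ)⁻¹ * (μ' h : ℂ) * ∑ f : C.Phi, (2 - (C.cj φ f β : ℂ) - (C.cj φ f β⁻¹ : ℂ)) else 0 := by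
  set x := C.hpE P (β, h) with hx
  obtain ⟨y, hy, hxy⟩ := C.pow_mem_B hθ hco (x := x) (by
    rw [show C.bp x = β from Subtype.ext (C.lp_mul (β : C.L) (h : C.Phi))]; exact hβ)
  have hzero : ∀ g ∉ Finset.univ.image C.rep,
      extendByZero (C.HP P') (C.psi φ P' μ') (g⁻¹ * (x : C.S.K) * g) = 0 := by
    intro g hg
    refine extendByZero_not_mem _ _ fun hm => hg ?_
    have hm' := pow_mem hm C.e
    rw [show (g⁻¹ * (x : C.S.K) * g) ^ C.e = g⁻¹ * (x : C.S.K) ^ C.e * g by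
      simpa using conj_pow (i := C.e) (a := g⁻¹) (b := (x : C.S.K)), hxy] at hm'
    have hp : C.pr (g⁻¹ * C.bK y * g) = 1 := by
      rw [map_mul, map_mul, map_inv, C.pr_eq_one.2 (C.bK_mem_L y), mul_one, inv_mul_cancel]
    have e : g⁻¹ * C.bK y * g = C.bK ⟨C.lp (g⁻¹ * C.bK y * g), hm'.2⟩ := by
      show _ = (C.lp _ : C.S.K)
      conv_lhs => rw [← C.lp_mul_pr (g⁻¹ * C.bK y * g), hp, OneMemClass.coe_one, mul_one]
    obtain ⟨p, hp⟩ := C.conj_B hy e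
    exact Finset.mem_image.2 ⟨p, Finset.mem_univ _, hp⟩
  have hval : ∀ p, extendByZero (C.HP P') (C.psi φ P' μ') ((C.rep p)⁻¹ * (x : C.S.K) * C.rep p) =
      if (h : C.Phi) ∈ P' then (μ' h : ℂ) * (1 - (C.cj φ p.2.1⁻¹ (C.sgnB p.1 β) : ℂ)) else 0 := by
    intro p
    rw [show (x : C.S.K) = C.bK β * ((h : C.Phi) : C.S.K) from rfl, C.rep_conj]
    set β' := C.bconj p.2.1⁻¹ (C.sgnB p.1 β)
    set z := C.bK p.2.2
    have hz : z ∈ C.HP P' := C.bK_mem P' _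
    split_ifs with hP
    · have hm : C.bK β' * ((h : C.Phi) : C.S.K) ∈ C.HP P' := (C.bf_mem_iff _ _).2 hP
      rw [extendByZero_mem _ _ (mul_mem (mul_mem (inv_mem hz) hm) hz)]
      refine Eq.trans ?_ ((C.cl_psi hφ μ' ⟨_, hm⟩ ⟨z⁻¹, inv_mem hz⟩).trans (C.psi_hpE φ μ' β' ⟨h, hP⟩))
      congr 1
      exact Subtype.ext (by simp)
    · refine extendByZero_not_mem _ _ fun hm => hP ?_
      have := mul_mem (mul_mem hz hm) (inv_mem hz)
      rw [show z * (z⁻¹ * (C.bK β' * ((h : C.Phi) : C.S.K)) * z) * z⁻¹ = C.bK β' * ((h : C.Phi) : C.S.K) by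
        group] at this
      exact (C.bf_mem_iff _ _).1 this
  rw [Df, indFun, ← Finset.sum_subset (Finset.subset_univ (Finset.univ.image C.rep)) fun g _ hg => hzero g hg,
    Finset.sum_image fun a _ b _ e => C.rep_inj e, Finset.sum_congr rfl fun p _ => hval p, C.card_HP]
  split_ifs with hP
  · rw [Fintype.sum_prod_type]
    have hv : ∀ v : Bool × Bool, ∑ p : C.Phi × C.D.B, (μ' h : ℂ) * (1 - (C.cj φ p.1⁻¹ (C.sgnB v β) : ℂ)) =
        (C.D.b : ℂ) * ((μ' h : ℂ) * ∑ f : C.Phi, (1 - (C.cj φ f (C.sgnB v β) : ℂ))) := by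
      intro v
      rw [Fintype.sum_prod_type,
        Finset.sum_congr rfl fun f _ => (Finset.sum_const ((μ' h : ℂ) * (1 - (C.cj φ f⁻¹ (C.sgnB v β) : ℂ)))),
        Finset.card_univ, ← Nat.card_eq_fintype_card, C.D.card_B]
      simp only [nsmul_eq_mul, Finset.mul_sum]
      exact Fintype.sum_equiv (Equiv.inv C.Phi) _ _ fun f => rfl
    rw [Finset.sum_congr rfl fun v _ => hv v, Fintype.sum_prod_type]
    simp only [Fintype.sum_bool, sgnB, if_true, Bool.false_eq_true, if_false]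
    have hb := C.b_ne
    have hP0 : (Nat.card P' : ℂ) ≠ 0 := Nat.cast_ne_zero.2 Nat.card_pos.ne'
    simp only [Finset.sum_sub_distrib, Nat.cast_mul]
    simp only [Finset.sum_const, nsmul_eq_mul]
    field_simp
    ring
  · simp

/-- `[θ = φ] + [θ φ = 1]`, summed over the conjugates of `φ`. -/
theorem sum_pair_cj {θ φ : C.D.B →* ℂˣ} (hθ : θ ≠ 1) (hφ : φ ≠ 1) :
    ∑ β : C.D.B, (1 - (θ β : ℂ)) * (2 - (φ β : ℂ) - (φ β⁻¹ : ℂ)) = (C.D.b : ℂ) * (2 + delta2 θ φ) := by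
  have hinv : ∑ y : C.D.B, (φ y⁻¹ : ℂ) = 0 := by
    rw [Fintype.sum_equiv (Equiv.inv C.D.B) (fun y => (φ y⁻¹ : ℂ)) (fun y => (φ y : ℂ)) (fun y => rfl),
      sum_linear, if_neg hφ]
  rw [Finset.sum_congr rfl (g := fun y => 2 * (1 - (θ y : ℂ)) - (φ y : ℂ) - (φ y⁻¹ : ℂ) +
    (θ y : ℂ) * ((φ y⁻¹ : ℂ) + (φ y : ℂ))) fun y _ => by ring, Finset.sum_add_distrib, Finset.sum_sub_distrib,
    Finset.sum_sub_distrib, ← Finset.mul_sum, hinv, sum_linear, if_neg hφ, sum_pair_hom, C.D.card_B,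
    Finset.sum_sub_distrib, sum_linear, if_neg hθ, Finset.sum_const, Finset.card_univ, nsmul_eq_mul, mul_one,
    ← Nat.card_eq_fintype_card, C.D.card_B]
  ring

/-- `⟨D(θ, P, μ), D(φ, P', μ')⟩`. -/
theorem inner_Df {θ φ : C.D.B →* ℂˣ} {P' : Subgroup C.Phi} (hθ : P ≤ C.stab θ) (hφ : P' ≤ C.stab φ) (hθ1 : θ ≠ 1)
    (hφ1 : φ ≠ 1) (hco : C.e.Coprime C.D.b) (μ μ' : C.Phi →* ℂˣ) :
    classInner (C.Df θ P μ) (C.Df φ P' μ') = 2 * (Nat.card P : ℂ)⁻¹ * (Nat.card P' : ℂ)⁻¹ *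
      (∑ h : P, if (h : C.Phi) ∈ P' then (μ h : ℂ) * conj (μ' h : ℂ) else 0) *
      ∑ f : C.Phi, (2 + delta2 θ (C.cj φ f)) := by
  nth_rewrite 1 [Df]
  rw [Cfsg.Agent.Char.frobenius _ _ (C.cl_Df φ P' μ'), classInner, C.card_HP, ← (C.hpE P).sum_comp, Fintype.sum_prod_type,
    Finset.sum_comm]
  have hreal : ∀ β : C.D.B, ∀ f : C.Phi, conj (2 - (C.cj φ f β : ℂ) - (C.cj φ f β⁻¹ : ℂ)) =
      2 - (C.cj φ f β : ℂ) - (C.cj φ f β⁻¹ : ℂ) := fun β f => by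
    rw [map_sub, map_sub, map_ofNat, conj_lin, conj_lin, inv_inv]; ring
  have hv : ∀ (h : P) (β : C.D.B), C.psi θ P μ (C.hpE P (β, h)) *
      conj (C.Df φ P' μ' (C.hpE P (β, h) : C.S.K)) = 2 * (Nat.card P' : ℂ)⁻¹ *
        (if (h : C.Phi) ∈ P' then (μ h : ℂ) * conj (μ' h : ℂ) else 0) *
        ∑ f : C.Phi, (1 - (θ β : ℂ)) * (2 - (C.cj φ f β : ℂ) - (C.cj φ f β⁻¹ : ℂ)) := by
    intro h β
    rw [C.psi_hpE]
    by_cases hβ : θ β = 1
    · simp [hβ]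
    rw [C.Df_val hθ hφ hco μ' β h hβ]
    split_ifs
    · simp only [map_mul, map_sum, map_inv₀, map_natCast, map_ofNat, hreal, ← Finset.mul_sum]
      ring
    · simp
  rw [Finset.sum_congr rfl (g := fun h : P => 2 * (Nat.card P' : ℂ)⁻¹ *
      (if (h : C.Phi) ∈ P' then (μ h : ℂ) * conj (μ' h : ℂ) else 0) *
      ((C.D.b : ℂ) * ∑ f : C.Phi, (2 + delta2 θ (C.cj φ f)))) fun h _ => by
    rw [Finset.sum_congr rfl fun β _ => hv h β, ← Finset.mul_sum, Finset.sum_comm,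
      Finset.sum_congr rfl fun f _ => C.sum_pair_cj hθ1 (C.cj_ne hφ1 f), ← Finset.mul_sum]]
  rw [← Finset.sum_mul, ← Finset.mul_sum, Nat.cast_mul]
  have hb := C.b_ne
  field_simp

/-- `λ` and `μ` agree on `P`. -/
def Sel (P : Subgroup C.Phi) (μ μ' : C.Phi →* ℂˣ) : Prop := ∀ h ∈ P, μ h = μ' h

theorem sum_sel (P : Subgroup C.Phi) (μ μ' : C.Phi →* ℂˣ) :
    ∑ h : P, (μ h : ℂ) * conj (μ' h : ℂ) = if C.Sel P μ μ' then (Nat.card P : ℂ) else 0 := by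
  have e : ∀ h : P, (μ h : ℂ) * conj (μ' h : ℂ) = (((μ * μ'⁻¹).comp P.subtype) h : ℂ) := fun h => by
    rw [conj_lin, map_inv]
    simp
  rw [Finset.sum_congr rfl fun h _ => e h, sum_linear]
  refine if_congr ?_ rfl rfl
  constructor
  · intro h x hx
    exact mul_inv_eq_one.1 (DFunLike.congr_fun h ⟨x, hx⟩)
  · exact fun h => MonoidHom.ext fun x => mul_inv_eq_one.2 (h x x.2)

theorem sq_stab {θ : C.D.B →* ℂˣ} (hθ : θ ≠ 1) (f : C.Phi) : θ * C.cj θ f ≠ 1 := by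
  intro h
  have e1 : ∀ β, θ β * θ (C.bconj f β) = 1 := fun β => DFunLike.congr_fun h β
  have h2 : f * f ∈ C.stab θ := C.mem_stab.2 (MonoidHom.ext fun β => by
    show θ (C.bconj (f * f) β) = θ β
    rw [C.bconj_mul, eq_inv_of_mul_eq_one_right (e1 (C.bconj f β)), eq_inv_of_mul_eq_one_right (e1 β), inv_inv])
  have hf : f ∈ C.stab θ := by
    obtain ⟨k, hk⟩ := sq_pow (x := f) (C.odd.of_dvd_nat (orderOf_dvd_natCard f))
    rw [hk, pow_two]
    exact pow_mem h2 k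
  refine hθ (hom_eq_one_of_sq (C.D.card_B.symm ▸ C.D.b_odd) ?_)
  rwa [C.mem_stab.1 hf] at h

/-- The norm of `D(θ, P, μ)` for the full stabiliser `P`. -/
theorem inner_Df_self {θ : C.D.B →* ℂˣ} (hθ1 : θ ≠ 1) (hco : C.e.Coprime C.D.b) (μ : C.Phi →* ℂˣ) :
    classInner (C.Df θ (C.stab θ) μ) (C.Df θ (C.stab θ) μ) = 4 * ((C.stab θ).index : ℂ) + 2 := by
  rw [C.inner_Df le_rfl le_rfl hθ1 hθ1 hco]
  have h1 : (∑ h : C.stab θ, if (h : C.Phi) ∈ C.stab θ then (μ h : ℂ) * conj (μ h : ℂ) else 0) =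
      Nat.card (C.stab θ) := by
    rw [Finset.sum_congr rfl fun h _ => if_pos h.2, C.sum_sel]
    exact if_pos fun _ _ => rfl
  have h2 : ∑ f : C.Phi, (2 + delta2 θ (C.cj θ f)) = 2 * (C.e : ℂ) + Nat.card (C.stab θ) := by
    have hd : ∀ f, delta2 θ (C.cj θ f) = if f ∈ C.stab θ then 1 else 0 := fun f => by
      rw [delta2, if_neg (C.sq_stab hθ1 f), add_zero]
      by_cases hf : f ∈ C.stab θ
      · rw [if_pos hf, if_pos (C.mem_stab.1 hf).symm]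
      · rw [if_neg hf, if_neg fun e => hf (C.mem_stab.2 e.symm)]
    rw [Finset.sum_add_distrib, Finset.sum_congr rfl fun f _ => hd f, Finset.sum_const, Finset.card_univ,
      nsmul_eq_mul, Finset.sum_boole, ← Nat.card_eq_fintype_card]
    rw [show (Finset.univ.filter fun f => f ∈ C.stab θ).card = Nat.card (C.stab θ) by
      rw [Nat.card_eq_fintype_card, Fintype.card_subtype]]
    ring
  rw [h1, h2]
  have hP : (Nat.card (C.stab θ) : ℂ) ≠ 0 := Nat.cast_ne_zero.2 Nat.card_pos.ne'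
  have he : (C.e : ℂ) = Nat.card (C.stab θ) * (C.stab θ).index := by
    exact_mod_cast (C.stab θ).card_mul_index.symm
  rw [he]
  field_simp
  ring

/-- Against a character fixed by `Φ`. -/
theorem inner_Df_inv {θ φ : C.D.B →* ℂˣ} (hθ : P ≤ C.stab θ) (hφ : C.Inv φ) (hθ1 : θ ≠ 1) (hφ1 : φ ≠ 1)
    (hco : C.e.Coprime C.D.b) (μ μ' : C.Phi →* ℂˣ) :
    classInner (C.Df θ P μ) (C.Df φ ⊤ μ') = if C.Sel P μ μ' then 2 * (2 + delta2 θ φ) else 0 := by
  rw [C.inner_Df hθ (by rw [show C.stab φ = ⊤ from hφ]) hθ1 hφ1 hco,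
    Finset.sum_congr rfl (g := fun h : P => (μ h : ℂ) * conj (μ' h : ℂ)) (fun h _ => if_pos (mem_top (h : C.Phi))),
    C.sum_sel,
    Finset.sum_congr rfl (g := fun _ => 2 + delta2 θ φ) (fun f _ => by rw [C.inv_cj hφ f]), Finset.sum_const,
    Finset.card_univ, nsmul_eq_mul, ← Nat.card_eq_fintype_card, Subgroup.card_top]
  have hP : (Nat.card P : ℂ) ≠ 0 := Nat.cast_ne_zero.2 Nat.card_pos.ne'
  have he : (C.e : ℂ) ≠ 0 := Nat.cast_ne_zero.2 Nat.card_pos.ne'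
  split_ifs
  · field_simp
  · simp

end Fin

end Frame

end Cfsg.Agent.Walter.JR
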