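import Cfsg.Agent.Lib.Walter.JR.EBlocks

/-!
# `Y(θ, μ)`: the part of `D(θ, μ)` away from the extensions of the four characters of odd degree

`D(θ, P, μ)` for the stabiliser `P` of `θ` has the coefficient `±1` at the extensions belonging to the linear
characters agreeing with `μ` on `P` and zero at the other ones. What remains has norm two.
-/

set_option autoImplicit false
set_option linter.unusedSectionVars false
set_option linter.unusedSimpArgs false
set_option linter.style.haveILetI false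
set_option maxHeartbeats 800000

open Cfsg
open scoped ComplexConjugate Classical

namespace Cfsg.Agent.Walter.JR

open Subgroup Cfsg.Agent.Char Cfsg.Agent.Char.ReeThree Cfsg.Agent.Char.ReeOrder

universe u

namespace Frame

variable {G : Type u} [Group G] [Finite G] {F : Type} [Field F] [Fintype F] (C : Frame G F) [Fintype G]

noncomputable instance homFintype : Fintype (C.Phi →* ℂˣ) :=
  haveI := finite_hom_units C.Phi
  Fintype.ofFinite _

/-- An element of `B P` and the involution `s`. -/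
theorem HP_s {P : Subgroup C.Phi} (x : C.HP P) : Commute (C.D.s : C.S.K) (x : C.S.K) := by
  rw [← C.lp_mul_pr (x : C.S.K)]
  have h1 : Commute (C.D.s : C.S.K) (C.lp (x : C.S.K) : C.S.K) :=
    congrArg Subtype.val (C.D.B_s _ x.2.2)
  exact h1.mul_right (show Commute (C.pr (x : C.S.K) : C.S.K) (C.D.s : C.S.K) from
    Subtype.ext (C.s_fix ⟨_, (C.pr (x : C.S.K)).2, rfl⟩)).symm

/-- The inner products with a linear character of `B P` of a function vanishing on even elements are even. -/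
theorem even_half {P : Subgroup C.Phi} {Φ : C.S.K → ℂ} (hg : IsGeneralizedCharacter C.S.K Φ)
    (h0 : ∀ z : C.S.K, ¬ Odd (orderOf z) → Φ z = 0) (l : C.HP P →* ℂˣ) :
    ∃ n : ℤ, classInner (fun x : C.HP P => Φ x) (fun x => (l x : ℂ)) = 2 * n := by
  let ι : ℤˣ × C.HP P →* C.S.K := MonoidHom.noncommCoprod (invHom C.s_mul_s) (C.HP P).subtype fun u x => by
    rcases Int.units_eq_one_or u with rfl | rfl
    · simp [invHom]
    · simpa [invHom] using C.HP_s x
  have hev : ∀ x : C.HP P, ι (-1, x) = (C.D.s : C.S.K) * x ∧ ¬ Odd (orderOf ((C.D.s : C.S.K) * (x : C.S.K))) := by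
    intro x
    refine ⟨by simp [ι, invHom], fun ho => ?_⟩
    rw [(C.HP_s x).orderOf_mul_eq_mul_orderOf_of_coprime (by
      rw [orderOf_coe, C.D.hs, orderOf_coe]
      exact Nat.coprime_two_left.2 ((C.odd_HP P).of_dvd_nat (orderOf_dvd_natCard x))), orderOf_coe, C.D.hs] at ho
    exact Nat.not_even_iff_odd.2 ho (even_two_mul _)
  have h1 : IsGeneralizedCharacter (ℤˣ × C.HP P) (Φ ∘ ι) := by
    obtain ⟨a, b, ha, hb, rfl⟩ := hg
    exact ⟨a ∘ ι, b ∘ ι, isCharacter_comp ι ha, isCharacter_comp ι hb, rfl⟩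
  obtain ⟨n, hn⟩ := classInner_gen_int h1
    (gen_of_char (isCharacter_linear (l.comp (MonoidHom.snd ℤˣ (C.HP P)))))
  refine ⟨n, ?_⟩
  rw [← hn]
  simp only [classInner, Fintype.sum_prod_type]
  rw [show (Finset.univ : Finset ℤˣ) = {1, -1} from rfl, Finset.sum_pair (by decide)]
  simp only [Function.comp_apply, MonoidHom.comp_apply, MonoidHom.coe_snd, (hev _).1, h0 _ (hev _).2, zero_mul,
    Finset.sum_const_zero, add_zero, show ∀ x : C.HP P, ι (1, x) = (x : C.S.K) from fun x => by simp [ι, invHom]]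
  rw [Nat.card_prod, Nat.card_eq_fintype_card (α := ℤˣ), show Fintype.card ℤˣ = 2 from rfl]
  push_cast
  ring

theorem Df_inner_even {θ : C.D.B →* ℂˣ} {P : Subgroup C.Phi} (hθ : P ≤ C.stab θ) (μ : C.Phi →* ℂˣ)
    {Φ : C.S.K → ℂ} (hg : IsGeneralizedCharacter C.S.K Φ) (hcl : IsClassFunction C.S.K Φ)
    (h0 : ∀ z : C.S.K, ¬ Odd (orderOf z) → Φ z = 0) :
    ∃ n : ℤ, classInner (C.Df θ P μ) Φ = 2 * n := by
  obtain ⟨n1, h1⟩ := C.even_half hg h0 (μ.comp (C.pr.comp (C.HP P).subtype))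
  obtain ⟨n2, h2⟩ := C.even_half hg h0 (C.chi hθ μ)
  refine ⟨n1 - n2, ?_⟩
  rw [Df, Cfsg.Agent.Char.frobenius _ _ hcl, C.psi_eq hθ, classInner_sub_left, ← classInner_symm, h1,
    ← classInner_symm (fun x : C.HP P => Φ x), h2]
  simp [map_ofNat, mul_sub]

/-- `1` where `μ'` agrees with `μ` on the stabiliser. -/
noncomputable def selZ (θ : C.D.B →* ℂˣ) (μ μ' : C.Phi →* ℂˣ) : ℤ := if C.Sel (C.stab θ) μ μ' then 1 else 0

theorem Sel_symm {P : Subgroup C.Phi} {μ μ' : C.Phi →* ℂˣ} (h : C.Sel P μ μ') : C.Sel P μ' μ :=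
  fun f hf => (h f hf).symm

theorem selZ_comm (θ : C.D.B →* ℂˣ) (μ μ' : C.Phi →* ℂˣ) : C.selZ θ μ μ' = C.selZ θ μ' μ :=
  if_congr ⟨C.Sel_symm, C.Sel_symm⟩ rfl rfl

theorem selZ_inv {θ : C.D.B →* ℂˣ} (hθ : C.Inv θ) (μ μ' : C.Phi →* ℂˣ) :
    C.selZ θ μ μ' = if μ = μ' then 1 else 0 := by
  refine if_congr ⟨fun h => MonoidHom.ext fun f => h f ?_, fun h f _ => by rw [h]⟩ rfl rfl
  rw [show C.stab θ = ⊤ from hθ]
  exact mem_top f

theorem sum_selZ (θ : C.D.B →* ℂˣ) (μ : C.Phi →* ℂˣ) :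
    ∑ μ', C.selZ θ μ μ' = ((C.stab θ).index : ℤ) := by
  apply Int.cast_injective (α := ℂ)
  have hP : (Nat.card (C.stab θ) : ℂ) ≠ 0 := Nat.cast_ne_zero.2 Nat.card_pos.ne'
  have he : (C.e : ℂ) = Nat.card (C.stab θ) * (C.stab θ).index := by
    exact_mod_cast (C.stab θ).card_mul_index.symm
  apply mul_left_cancel₀ hP
  push_cast
  rw [← he, Finset.mul_sum]
  rw [Finset.sum_congr rfl (g := fun μ' => ∑ h : C.stab θ, (μ h : ℂ) * conj (μ' h : ℂ)) fun μ' _ => by
    rw [C.sum_sel]; simp only [selZ]; split_ifs <;> simp, Finset.sum_comm]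
  rw [Finset.sum_congr rfl (g := fun h : C.stab θ => if h = 1 then (C.e : ℂ) else 0) fun h _ => ?_,
    Finset.sum_ite_eq', if_pos (Finset.mem_univ _)]
  rw [← Finset.mul_sum, Finset.sum_congr rfl (g := fun μ' : C.Phi →* ℂˣ => ((μ' (h : C.Phi)⁻¹ : ℂˣ) : ℂ)) fun μ' _ => by
    rw [conj_lin], sum_hom_apply C.Phi_comm']
  by_cases h1 : h = 1
  · subst h1; simp
  · rw [if_neg h1, if_neg (by simpa using h1), mul_zero]

variable {M : Ideal AlgInt}

/-- The coordinate of `D(θ, μ)` at an extension. -/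
noncomputable def dc (M : Ideal AlgInt) (θ : C.D.B →* ℂˣ) (μ : C.Phi →* ℂˣ) (i : Fin 4) (μ' : C.Phi →* ℂˣ) : ℤ :=
  coord (C.Df θ (C.stab θ) μ) (C.ext M i μ')

theorem dc_spec (θ : C.D.B →* ℂˣ) (μ : C.Phi →* ℂˣ) (i : Fin 4) (μ' : C.Phi →* ℂˣ) :
    classInner (C.Df θ (C.stab θ) μ) (C.ext M i μ' : C.S.K → ℂ) = C.dc M θ μ i μ' :=
  coord_spec (C.gen_Df le_rfl μ) _

/-- `Σ_μ D(θ, P, μ)` is a multiple of `Ind_L (Y_θ - Y_1)`. -/
theorem sum_Df (θ : C.D.B →* ℂˣ) (P : Subgroup C.Phi) :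
    ∑ μ, C.Df θ P μ = (P.index : ℂ) • indFun C.L (C.D.Yf θ - C.D.Yf 1) := by
  funext z
  set hb : C.S.K → ℂ := fun w => extendByZero C.L (extendByZero C.D.B fun y => 1 - (θ y : ℂ)) w
  have hpt : ∀ w, ∑ μ, extendByZero (C.HP P) (C.psi θ P μ) w = (C.e : ℂ) * hb w := by
    intro w
    by_cases hL : w ∈ C.L
    · have hpr : C.pr w = 1 := C.pr_eq_one.2 hL
      have hlp : C.lp w = ⟨w, hL⟩ := Subtype.ext (by show w * (C.pr w : C.S.K)⁻¹ = w; rw [hpr]; simp)
      by_cases hB : (⟨w, hL⟩ : C.L) ∈ C.D.B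
      · have hm : w ∈ C.HP P := C.mem_HP.2 ⟨by rw [hpr]; exact one_mem _, hlp ▸ hB⟩
        simp only [hb, extendByZero_mem _ _ hm, extendByZero_mem _ _ hL, extendByZero_mem _ _ hB, psi, hpr,
          map_one, Units.val_one, one_mul]
        rw [Finset.sum_const, Finset.card_univ, nsmul_eq_mul]
        congr 1
        · have h := sum_hom_apply C.Phi_comm' (1 : C.Phi)
          simpa using h
        · congr 3
          exact Subtype.ext hlp
      · simp only [hb, extendByZero_mem _ _ hL, extendByZero_not_mem _ _ hB, mul_zero]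
        exact Finset.sum_eq_zero fun μ _ => extendByZero_not_mem _ _ fun hm => hB (hlp ▸ hm.2)
    · simp only [hb, extendByZero_not_mem _ _ hL, mul_zero]
      by_cases hm : w ∈ C.HP P
      · simp only [extendByZero_mem _ _ hm, psi, ← Finset.sum_mul, sum_hom_apply C.Phi_comm',
          if_neg fun h => hL (C.pr_eq_one.1 h), zero_mul]
      · exact Finset.sum_eq_zero fun μ _ => extendByZero_not_mem _ _ hm
  -- inducing in steps
  have htr : ∀ w, indFun C.L (C.D.Yf θ - C.D.Yf 1) w =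
      (C.D.b : ℂ)⁻¹ * ∑ g : C.S.K, hb (g⁻¹ * w * g) := by
    intro w
    have hY : C.D.Yf θ - C.D.Yf 1 = indFun C.D.B (fun y => 1 - (θ y : ℂ)) := by
      have : (fun y : C.D.B => 1 - (θ y : ℂ)) = (fun y => ((1 : C.D.B →* ℂˣ) y : ℂ)) - fun y => (θ y : ℂ) := by
        funext y; simp
      rw [this, indFun_sub, KD.Yf, KD.Yf, KD.IB, KD.IB]
      abel
    rw [hY, indFun]
    have hstep : ∀ g : C.S.K, extendByZero C.L (indFun C.D.B fun y => 1 - (θ y : ℂ)) (g⁻¹ * w * g) =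
        (C.D.b : ℂ)⁻¹ * ∑ l : C.L, hb ((g * (l : C.S.K))⁻¹ * w * (g * (l : C.S.K))) := by
      intro g
      haveI := C.hL
      by_cases hL : g⁻¹ * w * g ∈ C.L
      · rw [extendByZero_mem _ _ hL, indFun, C.D.card_B]
        congr 1
        refine Finset.sum_congr rfl fun l _ => ?_
        have hm : (g * (l : C.S.K))⁻¹ * w * (g * (l : C.S.K)) ∈ C.L := by
          rw [show (g * (l : C.S.K))⁻¹ * w * (g * (l : C.S.K)) =
            (l : C.S.K)⁻¹ * (g⁻¹ * w * g) * (l : C.S.K) by group]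
          exact mul_mem (mul_mem (inv_mem l.2) hL) l.2
        simp only [hb, extendByZero_mem _ _ hm]
        congr 1
        exact Subtype.ext (by simp [mul_assoc])
      · rw [extendByZero_not_mem _ _ hL, Finset.sum_eq_zero fun l _ => ?_, mul_zero]
        simp only [hb]
        refine extendByZero_not_mem _ _ fun hm => hL ?_
        have := C.hL.conj_mem _ hm (l : C.S.K)
        simpa [mul_assoc] using this
    rw [Finset.sum_congr rfl fun g _ => hstep g, ← Finset.mul_sum, Finset.sum_comm,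
      Finset.sum_congr rfl (g := fun _ : C.L => ∑ g : C.S.K, hb (g⁻¹ * w * g)) (fun l _ =>
        Fintype.sum_equiv (Equiv.mulRight (l : C.S.K))
          (fun g => hb ((g * (l : C.S.K))⁻¹ * w * (g * (l : C.S.K)))) (fun g => hb (g⁻¹ * w * g)) fun g => rfl),
      Finset.sum_const, Finset.card_univ, nsmul_eq_mul, ← Nat.card_eq_fintype_card]
    have hL0 : (Nat.card C.L : ℂ) ≠ 0 := Nat.cast_ne_zero.2 Nat.card_pos.ne'
    field_simp
  simp only [Finset.sum_apply, Df, indFun, Pi.smul_apply, smul_eq_mul]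
  rw [← Finset.mul_sum, Finset.sum_comm, Finset.sum_congr rfl fun g _ => hpt _, ← Finset.mul_sum, C.card_HP]
  have h := htr z
  simp only [indFun] at h
  rw [h]
  have he : (C.e : ℂ) = Nat.card P * P.index := by exact_mod_cast P.card_mul_index.symm
  have hP : (Nat.card P : ℂ) ≠ 0 := Nat.cast_ne_zero.2 Nat.card_pos.ne'
  have hb0 := C.b_ne
  rw [he]
  push_cast
  field_simp

theorem dc_zero {θ : C.D.B →* ℂˣ} (hθ : θ ≠ 1) (μ μ' : C.Phi →* ℂˣ) (hM : IsPModular 2 M) :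
    C.dc M θ μ 0 μ' = C.selZ θ μ μ' := by
  apply Int.cast_injective (α := ℂ)
  rw [← C.dc_spec, C.ext0 hM, Df, Cfsg.Agent.Char.frobenius _ _ (isClassFunction_character (irr_isCharacter (C.lin μ').2)),
    C.psi_eq le_rfl, classInner_sub_left]
  have key : ∀ l : C.HP (C.stab θ) →* ℂˣ,
      classInner (fun x => (l x : ℂ)) (fun x : C.HP (C.stab θ) => (C.lin μ' : C.S.K → ℂ) x) =
        if l = μ'.comp (C.pr.comp (C.HP _).subtype) then 1 else 0 := by
    intro l
    show classInner (fun x => (l x : ℂ)) (fun x => ((μ'.comp (C.pr.comp (C.HP (C.stab θ)).subtype)) x : ℂ)) = _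
    rw [irr_orth (isIrrCharacter_linear l) (isIrrCharacter_linear _)]
    exact if_congr ⟨fun h => MonoidHom.ext fun x => Units.ext (congrFun h x), fun h => by rw [h]⟩ rfl rfl
  have hne : C.chi (P := C.stab θ) le_rfl μ ≠ μ'.comp (C.pr.comp (C.HP _).subtype) := fun h =>
    hθ (MonoidHom.ext fun β => ?_)
  · rw [key, key, if_neg hne, sub_zero, selZ]
    push_cast
    refine if_congr ⟨fun h f hf => ?_, fun h => MonoidHom.ext fun x => h _ x.2.1⟩ rfl rfl
    have := DFunLike.congr_fun h (C.hpE _ (1, ⟨f, hf⟩))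
    simpa [hpE, C.pr_Phi] using this
  · have := DFunLike.congr_fun h ⟨C.bK β, C.bK_mem _ β⟩
    have hp : C.pr (C.bK β) = 1 := C.pr_eq_one.2 (C.bK_mem_L β)
    have hbp : C.bp (⟨C.bK β, C.bK_mem (C.stab θ) β⟩ : C.HP (C.stab θ)) = β := Subtype.ext (Subtype.ext (by
      show C.bK β * (C.pr (C.bK β) : C.S.K)⁻¹ = _
      rw [hp]; simp [bK]))
    change μ (C.pr (C.bK β)) * θ (C.bp (⟨C.bK β, C.bK_mem (C.stab θ) β⟩ : C.HP (C.stab θ))) = μ' (C.pr (C.bK β)) at this
    rw [hbp, hp, map_one, one_mul, map_one] at this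
    exact this

/-- The coefficients at the extensions. -/
theorem dc_eq {θ : C.D.B →* ℂˣ} (hθ : θ ≠ 1) (hM : IsPModular 2 M) (hco : C.e.Coprime C.D.b)
    (μ : C.Phi →* ℂˣ) (i : Fin 4) (μ' : C.Phi →* ℂˣ) :
    C.dc M θ μ i μ' = - C.Q4.cY i * C.selZ θ μ μ' := by
  -- parity
  have hpar : ∀ ν (μ' : C.Phi →* ℂˣ) (j : Fin 4), (2 : ℤ) ∣ C.dc M θ ν j μ' - C.selZ θ ν μ' := by
    intro ν μ' j
    have hF : ∀ k, (2 : ℤ) ∣ ∑ l, C.Q4.cF k l * C.dc M θ ν l μ' := by
      intro k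
      obtain ⟨n, hn⟩ := C.Df_inner_even (P := C.stab θ) le_rfl ν (C.gen_Fmu (M := M) k μ') (C.cl_Fmu k μ')
        (fun z hz => C.Fmu_even hM k μ' hz)
      refine ⟨n, ?_⟩
      apply Int.cast_injective (α := ℂ)
      push_cast
      rw [← hn, Fmu, classInner_sum_right]
      refine Finset.sum_congr rfl fun l _ => ?_
      rw [classInner_smul_right, map_intCast, C.dc_spec]
    have h0 := C.dc_zero hθ ν μ' hM
    have a := hF 0
    have b := hF 1
    have c := hF 2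
    simp only [KFacts.Four.cF, Fin.sum_univ_four, Matrix.cons_val_zero, Matrix.cons_val_one, Matrix.cons_val,
      zero_mul, add_zero, one_mul, h0] at a b c
    rcases C.Q4.unit 1 with e1 | e1 <;> rcases C.Q4.unit 2 with e2 | e2 <;> rcases C.Q4.unit 3 with e3 | e3 <;>
      rw [e1] at a b c <;> rw [e2] at b <;> rw [e3] at c <;> fin_cases j <;>
      simp only [Fin.zero_eta, Fin.mk_one, Fin.reduceFinMk, h0] <;> omega
  -- the absolute values
  have habs : ∀ ν (μ' : C.Phi →* ℂˣ) (j : Fin 4), C.dc M θ ν j μ' ^ 2 = C.selZ θ ν μ' := by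
    intro ν
    have hnorm : ∑ χ, coord (C.Df θ (C.stab θ) ν) χ * coord (C.Df θ (C.stab θ) ν) χ =
        4 * ((C.stab θ).index : ℤ) + 2 := by
      apply Int.cast_injective (α := ℂ)
      rw [coord_inner (C.gen_Df le_rfl ν) (C.gen_Df le_rfl ν), C.inner_Df_self hθ hco]
      push_cast; ring
    have hle : ∑ p : Fin 4 × (C.Phi →* ℂˣ), C.dc M θ ν p.1 p.2 ^ 2 ≤ 4 * ((C.stab θ).index : ℤ) + 2 := by
      rw [← hnorm]
      simp only [dc]
      rw [← Finset.sum_image (g := fun p : Fin 4 × (C.Phi →* ℂˣ) => C.ext M p.1 p.2)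
        (f := fun χ => coord (C.Df θ (C.stab θ) ν) χ ^ 2)
        (fun a _ b _ h => Prod.ext (C.ext_inj hM h).1 (C.ext_inj hM h).2)]
      simp only [← pow_two]
      exact Finset.sum_le_sum_of_subset_of_nonneg (Finset.subset_univ _) fun χ _ _ => sq_nonneg _
    intro μ' j
    have hterm : ∀ p : Fin 4 × (C.Phi →* ℂˣ), 0 ≤ C.dc M θ ν p.1 p.2 ^ 2 - C.selZ θ ν p.2 ∧
        (C.dc M θ ν p.1 p.2 ^ 2 ≠ C.selZ θ ν p.2 → 4 ≤ C.dc M θ ν p.1 p.2 ^ 2 - C.selZ θ ν p.2) := by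
      intro p
      have hd := hpar ν p.2 p.1
      generalize C.dc M θ ν p.1 p.2 = c at hd ⊢
      simp only [selZ] at hd ⊢
      split_ifs at hd ⊢
      · rcases show c ≤ -3 ∨ c = -1 ∨ c = 1 ∨ 3 ≤ c by omega with h | h | h | h
        · exact ⟨by nlinarith, fun _ => by nlinarith⟩
        · subst h; norm_num
        · subst h; norm_num
        · exact ⟨by nlinarith, fun _ => by nlinarith⟩
      · rcases show c ≤ -2 ∨ c = 0 ∨ 2 ≤ c by omega with h | h | h
        · exact ⟨by nlinarith, fun _ => by nlinarith⟩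
        · subst h; norm_num
        · exact ⟨by nlinarith, fun _ => by nlinarith⟩
    by_contra hne
    have h4 : 4 ≤ C.dc M θ ν j μ' ^ 2 - C.selZ θ ν μ' := (hterm (j, μ')).2 hne
    have hsingle := Finset.single_le_sum (f := fun p : Fin 4 × (C.Phi →* ℂˣ) =>
      C.dc M θ ν p.1 p.2 ^ 2 - C.selZ θ ν p.2) (fun p _ => (hterm p).1) (Finset.mem_univ (j, μ'))
    rw [Finset.sum_sub_distrib, Fintype.sum_prod_type (f := fun p : Fin 4 × (C.Phi →* ℂˣ) => C.selZ θ ν p.2)] at hsingle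
    simp only [C.sum_selZ, Fin.sum_univ_four] at hsingle
    omega
  -- the sum over all linear characters
  have hsum : ∑ ν, C.dc M θ ν i μ' = - C.Q4.cY i * ((C.stab θ).index : ℤ) := by
    apply Int.cast_injective (α := ℂ)
    push_cast
    rw [Finset.sum_congr rfl fun ν _ => (C.dc_spec θ ν i μ').symm, ← classInner_sum_left, C.sum_Df,
      classInner_smul_left, Cfsg.Agent.Char.frobenius _ _ (isClassFunction_character (irr_isCharacter (C.ext M i μ').2)),
      show (fun l : C.L => (C.ext M i μ' : C.S.K → ℂ) l) = (C.Q4.η i : C.L → ℂ) from funext (C.ext_L hM i μ'),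
      classInner_sub_left, C.Q4.Y_η hθ, C.Q4.Y1_eq, classInner_sum_left, Finset.sum_eq_single i]
    · rw [classInner_smul_left, C.Q4.inner_η, if_pos rfl]; ring
    · intro j _ hj; rw [classInner_smul_left, C.Q4.inner_η, if_neg hj, mul_zero]
    · intro h; exact absurd (Finset.mem_univ i) h
  have hcY : C.Q4.cY i = 1 ∨ C.Q4.cY i = -1 := by
    fin_cases i
    · exact Or.inr rfl
    · exact C.Q4.unit 1
    · exact C.Q4.unit 2
    · exact C.Q4.unit 3
  have hz : ∀ ν, 0 ≤ C.selZ θ ν μ' + C.Q4.cY i * C.dc M θ ν i μ' := by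
    intro ν
    have := habs ν μ' i
    simp only [selZ] at this ⊢
    split_ifs at this ⊢
    · rcases sq_eq_one_iff.1 this with e | e <;> rcases hcY with e' | e' <;> rw [e, e'] <;> norm_num
    · rw [pow_eq_zero_iff two_ne_zero |>.1 this, mul_zero]; norm_num
  have htot : ∑ ν, (C.selZ θ ν μ' + C.Q4.cY i * C.dc M θ ν i μ') = 0 := by
    rw [Finset.sum_add_distrib, ← Finset.mul_sum, hsum, Finset.sum_congr rfl fun ν _ => C.selZ_comm θ ν μ',
      C.sum_selZ]
    rcases hcY with e | e <;> rw [e] <;> ring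
  have h := (Finset.sum_eq_zero_iff_of_nonneg fun ν _ => hz ν).1 htot μ (Finset.mem_univ μ)
  rcases hcY with e | e <;> rw [e] at h ⊢ <;> linarith

/-! ### `Y(θ, μ)` -/

/-- The extension of `Y_1` in the block of `μ`. -/
noncomputable def Yone (M : Ideal AlgInt) (μ : C.Phi →* ℂˣ) : C.S.K → ℂ :=
  C.Fmu M 1 μ + C.Fmu M 2 μ - C.Fmu M 0 μ

theorem Yone_eq (μ : C.Phi →* ℂˣ) :
    C.Yone M μ = ∑ i, (C.Q4.cY i : ℂ) • (C.ext M i μ : C.S.K → ℂ) := by
  funext z
  simp [Yone, Fmu, KFacts.Four.cF, KFacts.Four.cY, Fin.sum_univ_four]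
  ring

/-- `Y(θ, μ)`. -/
noncomputable def Yt (M : Ideal AlgInt) (θ : C.D.B →* ℂˣ) (μ : C.Phi →* ℂˣ) : C.S.K → ℂ :=
  C.Df θ (C.stab θ) μ + ∑ μ', (C.selZ θ μ μ' : ℂ) • C.Yone M μ'

theorem gen_Yone (μ : C.Phi →* ℂˣ) : IsGeneralizedCharacter C.S.K (C.Yone M μ) := by
  refine isGenChar_sub ?_ (C.gen_Fmu 0 μ)
  rw [show C.Fmu M 1 μ + C.Fmu M 2 μ = C.Fmu M 1 μ - (0 - C.Fmu M 2 μ) by abel]
  exact isGenChar_sub (C.gen_Fmu 1 μ) (isGenChar_sub isGenChar_zero (C.gen_Fmu 2 μ))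

theorem gen_Yt (θ : C.D.B →* ℂˣ) (μ : C.Phi →* ℂˣ) : IsGeneralizedCharacter C.S.K (C.Yt M θ μ) := by
  rw [Yt, show C.Df θ (C.stab θ) μ + ∑ μ', (C.selZ θ μ μ' : ℂ) • C.Yone M μ' =
    C.Df θ (C.stab θ) μ - (0 - ∑ μ', (C.selZ θ μ μ' : ℂ) • C.Yone M μ') by abel]
  exact isGenChar_sub (C.gen_Df le_rfl μ) (isGenChar_sub isGenChar_zero
    (isGenChar_sum _ _ fun μ' _ => isGenChar_int_smul (C.gen_Yone μ') _))

theorem cl_Yt (θ : C.D.B →* ℂˣ) (μ : C.Phi →* ℂˣ) : IsClassFunction C.S.K (C.Yt M θ μ) := fun a h => by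
  simp only [Yt, Yone, Pi.add_apply, Finset.sum_apply, Pi.smul_apply, Pi.sub_apply,
    C.cl_Fmu _ _ a h, C.cl_Df _ _ _ a h]

theorem Yt_even (hM : IsPModular 2 M) (θ : C.D.B →* ℂˣ) (μ : C.Phi →* ℂˣ) {z : C.S.K} (hz : ¬ Odd (orderOf z)) :
    C.Yt M θ μ z = 0 := by
  simp [Yt, Yone, C.Df_even θ μ hz, C.Fmu_even hM _ _ hz]

theorem Yone_ext (hM : IsPModular 2 M) (μ μ' : C.Phi →* ℂˣ) (i : Fin 4) :
    classInner (C.Yone M μ) (C.ext M i μ' : C.S.K → ℂ) = if μ = μ' then (C.Q4.cY i : ℂ) else 0 := by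
  rw [C.Yone_eq, classInner_sum_left, Finset.sum_eq_single i]
  · rw [classInner_smul_left, C.inner_ext hM]
    by_cases h : μ = μ' <;> simp [h]
  · intro j _ hj
    rw [classInner_smul_left, C.inner_ext hM, if_neg fun h => hj h.1, mul_zero]
  · intro h; exact absurd (Finset.mem_univ i) h

theorem Yt_ext {θ : C.D.B →* ℂˣ} (hθ : θ ≠ 1) (hM : IsPModular 2 M) (hco : C.e.Coprime C.D.b)
    (μ : C.Phi →* ℂˣ) (i : Fin 4) (μ' : C.Phi →* ℂˣ) :
    classInner (C.Yt M θ μ) (C.ext M i μ' : C.S.K → ℂ) = 0 := by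
  rw [Yt, classInner_add_left, C.dc_spec, C.dc_eq hθ hM hco, classInner_sum_left, Finset.sum_eq_single μ']
  · rw [classInner_smul_left, C.Yone_ext hM, if_pos rfl]
    push_cast; ring
  · intro ν _ hν
    rw [classInner_smul_left, C.Yone_ext hM, if_neg hν, mul_zero]
  · intro h; exact absurd (Finset.mem_univ μ') h

theorem Yt_Fmu {θ : C.D.B →* ℂˣ} (hθ : θ ≠ 1) (hM : IsPModular 2 M) (hco : C.e.Coprime C.D.b)
    (μ : C.Phi →* ℂˣ) (k : Fin 3) (μ' : C.Phi →* ℂˣ) : classInner (C.Yt M θ μ) (C.Fmu M k μ') = 0 := by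
  rw [Fmu, classInner_sum_right, Finset.sum_eq_zero fun i _ => ?_]
  rw [classInner_smul_right, C.Yt_ext hθ hM hco, mul_zero]

theorem Yt_Yone {θ : C.D.B →* ℂˣ} (hθ : θ ≠ 1) (hM : IsPModular 2 M) (hco : C.e.Coprime C.D.b)
    (μ μ' : C.Phi →* ℂˣ) : classInner (C.Yt M θ μ) (C.Yone M μ') = 0 := by
  rw [C.Yone_eq, classInner_sum_right, Finset.sum_eq_zero fun i _ => ?_]
  rw [classInner_smul_right, C.Yt_ext hθ hM hco, mul_zero]

theorem cY_sq : ∑ i, (C.Q4.cY i : ℂ) * (C.Q4.cY i : ℂ) = 4 := by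
  simp only [KFacts.Four.cY, Fin.sum_univ_four, Matrix.cons_val_zero, Matrix.cons_val_one, Matrix.cons_val]
  rcases C.Q4.unit 1 with e1 | e1 <;> rcases C.Q4.unit 2 with e2 | e2 <;> rcases C.Q4.unit 3 with e3 | e3 <;>
    rw [e1, e2, e3] <;> norm_num

theorem inner_Yt {θ φ : C.D.B →* ℂˣ} (hθ : θ ≠ 1) (hφ : φ ≠ 1) (hM : IsPModular 2 M) (hco : C.e.Coprime C.D.b)
    (μ μ' : C.Phi →* ℂˣ) :
    classInner (C.Yt M θ μ) (C.Yt M φ μ') = classInner (C.Df θ (C.stab θ) μ) (C.Df φ (C.stab φ) μ') -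
      4 * ∑ ν, (C.selZ θ μ ν : ℂ) * (C.selZ φ μ' ν : ℂ) := by
  have h : classInner (C.Yt M θ μ) (C.Yt M φ μ') = classInner (C.Yt M θ μ) (C.Df φ (C.stab φ) μ') := by
    conv_lhs => arg 2; rw [Yt]
    rw [classInner_add_right, classInner_sum_right, Finset.sum_eq_zero fun ν _ => ?_, add_zero]
    rw [classInner_smul_right, C.Yt_Yone hθ hM hco, mul_zero]
  rw [h, Yt, classInner_add_left, classInner_sum_left, sub_eq_add_neg]
  congr 1
  rw [Finset.mul_sum, ← Finset.sum_neg_distrib]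
  refine Finset.sum_congr rfl fun ν _ => ?_
  rw [classInner_smul_left, C.Yone_eq, classInner_sum_left,
    Finset.sum_congr rfl (g := fun i => (C.selZ φ μ' ν : ℂ) * -((C.Q4.cY i : ℂ) * C.Q4.cY i)) fun i _ => by
      rw [classInner_smul_left, ← classInner_symm, C.dc_spec, C.dc_eq hφ hM hco, map_intCast]; push_cast; ring,
    ← Finset.mul_sum, Finset.sum_neg_distrib, C.cY_sq]
  ring

theorem inner_Yt_self {θ : C.D.B →* ℂˣ} (hθ : θ ≠ 1) (hM : IsPModular 2 M) (hco : C.e.Coprime C.D.b)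
    (μ : C.Phi →* ℂˣ) : classInner (C.Yt M θ μ) (C.Yt M θ μ) = 2 := by
  rw [C.inner_Yt hθ hθ hM hco, C.inner_Df_self hθ hco]
  have h : ∑ ν, (C.selZ θ μ ν : ℂ) * (C.selZ θ μ ν : ℂ) = ((C.stab θ).index : ℂ) := by
    have h := congrArg (fun x : ℤ => (x : ℂ)) (C.sum_selZ θ μ)
    push_cast at h
    rw [← h]
    refine Finset.sum_congr rfl fun ν _ => ?_
    simp only [selZ]; split_ifs <;> simp
  rw [h]; ring

theorem inner_Yt_inv {θ φ : C.D.B →* ℂˣ} (hθ : θ ≠ 1) (hφ : φ ≠ 1) (hφi : C.Inv φ) (hM : IsPModular 2 M)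
    (hco : C.e.Coprime C.D.b) (μ μ' : C.Phi →* ℂˣ) :
    classInner (C.Yt M θ μ) (C.Yt M φ μ') = 2 * (C.selZ θ μ μ' : ℂ) * delta2 θ φ := by
  rw [C.inner_Yt hθ hφ hM hco, show C.stab φ = ⊤ from hφi, C.inner_Df_inv le_rfl hφi hθ hφ hco,
    Finset.sum_congr rfl (g := fun ν => if ν = μ' then (C.selZ θ μ μ' : ℂ) else 0) fun ν _ => by
      rw [C.selZ_inv hφi]
      by_cases h : μ' = ν
      · subst h; simp
      · simp [h, Ne.symm h],
    Finset.sum_ite_eq', if_pos (Finset.mem_univ μ'), selZ]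
  split_ifs <;> push_cast <;> ring

theorem delta2_inv_zero {θ φ : C.D.B →* ℂˣ} (hθ : ¬ C.Inv θ) (hφ : C.Inv φ) : delta2 θ φ = 0 := by
  have h1 : θ ≠ φ := fun e => hθ (e ▸ hφ)
  have h2 : θ * φ ≠ 1 := fun e => hθ (by
    refine eq_top_iff.2 fun f _ => C.mem_stab.2 (MonoidHom.ext fun β => ?_)
    have e1 : ∀ y, θ y = (φ y)⁻¹ := fun y => eq_inv_of_mul_eq_one_left (DFunLike.congr_fun e y)
    show θ (C.bconj f β) = θ β
    rw [e1, e1, show φ (C.bconj f β) = φ β from DFunLike.congr_fun (C.inv_cj hφ f) β])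
  simp [delta2, h1, h2]

/-- Related invariant characters give the same function. -/
theorem Yt_of_delta {θ φ : C.D.B →* ℂˣ} (hθ : θ ≠ 1) (hφ : φ ≠ 1) (hθi : C.Inv θ) (hφi : C.Inv φ)
    (hM : IsPModular 2 M) (hco : C.e.Coprime C.D.b) (h : delta2 θ φ = 1) (μ : C.Phi →* ℂˣ) :
    C.Yt M θ μ = C.Yt M φ μ := by
  rw [← sub_eq_zero]
  refine classInner_self_eq_zero ?_
  have e : classInner (C.Yt M θ μ) (C.Yt M φ μ) = 2 := by
    rw [C.inner_Yt_inv hθ hφ hφi hM hco, C.selZ_inv hθi, if_pos rfl, h]; simp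
  simp only [classInner_sub_left, classInner_sub_right, C.inner_Yt_self hθ hM hco, C.inner_Yt_self hφ hM hco, e,
    ← classInner_symm (C.Yt M θ μ) (C.Yt M φ μ), map_ofNat]
  ring

/-- `Σ_μ Y(θ, μ)` is a multiple of `Ind_L Y_θ`. -/
theorem sum_Yt (hM : IsPModular 2 M) (θ : C.D.B →* ℂˣ) :
    ∑ μ, C.Yt M θ μ = ((C.stab θ).index : ℂ) • indFun C.L (C.D.Yf θ) := by
  have h1 : indFun C.L (C.D.Yf 1) = ∑ μ, C.Yone M μ := by
    simp only [Yone, Finset.sum_sub_distrib, Finset.sum_add_distrib, C.sum_Fmu hM, IF]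
    rw [KFacts.Yf_one, indFun_sub, indFun_add]
    rfl
  simp only [Yt, Finset.sum_add_distrib, C.sum_Df]
  rw [Finset.sum_comm, Finset.sum_congr rfl (g := fun μ' => ((C.stab θ).index : ℂ) • C.Yone M μ') fun μ' _ => by
    rw [← Finset.sum_smul]
    congr 1
    have h := congrArg (fun x : ℤ => (x : ℂ)) (C.sum_selZ θ μ')
    push_cast at h
    rw [← h]
    exact Finset.sum_congr rfl fun ν _ => by rw [C.selZ_comm],
    ← Finset.smul_sum, ← h1, ← smul_add, indFun_sub, sub_add_cancel]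

/-- A linear character trivial on the stabiliser fixes `Y(θ, μ)`. -/
theorem Yt_twist {θ : C.D.B →* ℂˣ} {l : C.Phi →* ℂˣ} (hl : ∀ f ∈ C.stab θ, l f = 1) (μ : C.Phi →* ℂˣ)
    (z : C.S.K) : (l (C.pr z) : ℂ) * C.Yt M θ μ z = C.Yt M θ μ z := by
  have hsel : ∀ ν, C.selZ θ μ (l * ν) = C.selZ θ μ ν := fun ν => by
    refine if_congr ⟨fun h f hf => ?_, fun h f hf => ?_⟩ rfl rfl
    · simpa [hl f hf] using h f hf
    · simpa [hl f hf] using h f hf
  simp only [Yt, Pi.add_apply, mul_add]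
  congr 1
  · simp only [Df, indFun, Finset.mul_sum]
    refine Finset.sum_congr rfl fun g _ => ?_
    by_cases hm : g⁻¹ * z * g ∈ C.HP (C.stab θ)
    · have hp : C.pr z = C.pr (g⁻¹ * z * g) := by
        rw [map_mul, map_mul, map_inv, C.Phi_comm' _ (C.pr z), mul_assoc, inv_mul_cancel, mul_one]
      rw [hp, hl _ hm.1, Units.val_one, one_mul]
    · rw [extendByZero_not_mem _ _ hm]; ring
  · simp only [Finset.sum_apply, Finset.mul_sum, Pi.smul_apply, smul_eq_mul]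
    refine Fintype.sum_equiv (Equiv.mulLeft l) _ _ fun ν => ?_
    show _ = (C.selZ θ μ (l * ν) : ℂ) * C.Yone M (l * ν) z
    rw [hsel]
    simp only [Yone, Pi.add_apply, Pi.sub_apply]
    simp only [C.Fmu_twist _ (l * ν), C.Fmu_twist _ ν, MonoidHom.mul_apply, Units.val_mul]
    ring

/-- For an invariant character the dependence on `μ` is multiplication by `μ`. -/
theorem Yt_inv_twist {θ : C.D.B →* ℂˣ} (hθ : C.Inv θ) (μ : C.Phi →* ℂˣ) (z : C.S.K) :
    C.Yt M θ μ z = (μ (C.pr z) : ℂ) * C.Yt M θ 1 z := by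
  simp only [Yt, Pi.add_apply, mul_add, Finset.sum_apply, Pi.smul_apply, smul_eq_mul, C.selZ_inv hθ]
  congr 1
  · simp only [Df, indFun, Finset.mul_sum]
    refine Finset.sum_congr rfl fun g _ => ?_
    by_cases hm : g⁻¹ * z * g ∈ C.HP (C.stab θ)
    · have hp : C.pr z = C.pr (g⁻¹ * z * g) := by
        rw [map_mul, map_mul, map_inv, C.Phi_comm' _ (C.pr z), mul_assoc, inv_mul_cancel, mul_one]
      simp only [extendByZero_mem _ _ hm, psi, hp, MonoidHom.one_apply, Units.val_one, one_mul]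
      ring
    · simp only [extendByZero_not_mem _ _ hm]; ring
  · simp only [Int.cast_ite, Int.cast_one, Int.cast_zero, ite_mul, one_mul, zero_mul, Finset.sum_ite_eq,
      Finset.mem_univ, if_true, Yone, Pi.add_apply, Pi.sub_apply]
    simp only [C.Fmu_twist _ μ]
    ring

/-- The two constituents. -/
theorem exists_pair {θ : C.D.B →* ℂˣ} (hθ : θ ≠ 1) (hM : IsPModular 2 M) (hco : C.e.Coprime C.D.b)
    (μ : C.Phi →* ℂˣ) {ξ : IrrCharacter C.S.K} (hξ : classInner (C.Yt M θ μ) (ξ : C.S.K → ℂ) ≠ 0) :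
    (classInner (C.Yt M θ μ) (ξ : C.S.K → ℂ) = 1 ∨ classInner (C.Yt M θ μ) (ξ : C.S.K → ℂ) = -1) ∧
      ¬ 4 ∣ deg (ξ : C.S.K → ℂ) ∧ ∀ z, C.pr z ∉ C.stab θ → (ξ : C.S.K → ℂ) z = 0 := by
  obtain ⟨a, b, s, r, hab, hs, hr, -, hc⟩ :=
    KFacts.two_terms (C.gen_Yt (M := M) θ μ) (C.inner_Yt_self hθ hM hco μ)
  have hpm : ∀ χ : IrrCharacter C.S.K, classInner (C.Yt M θ μ) (χ : C.S.K → ℂ) ≠ 0 →
      (χ = a ∨ χ = b) ∧ (classInner (C.Yt M θ μ) (χ : C.S.K → ℂ) = 1 ∨
        classInner (C.Yt M θ μ) (χ : C.S.K → ℂ) = -1) := by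
    intro χ h
    rw [hc] at h ⊢
    by_cases ha : χ = a
    · subst ha
      rcases hs with e | e <;> simp [e, if_neg hab]
    · by_cases hb : χ = b
      · subst hb
        rcases hr with e | e <;> simp [e, if_neg ha]
      · simp [ha, hb] at h
  refine ⟨(hpm ξ hξ).2, fun h4 => ?_, fun z hz => ?_⟩
  · obtain ⟨n, hn⟩ := C.Df_inner_even (P := C.stab θ) le_rfl μ (gen_of_char (irr_isCharacter ξ.2))
      (isClassFunction_character (irr_isCharacter ξ.2)) fun z hz => C.four_dvd_vanish hM h4 hz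
    have hne : ∀ i μ', C.ext M i μ' ≠ ξ := fun i μ' e => hξ (e ▸ C.Yt_ext hθ hM hco μ i μ')
    have hY : classInner (C.Yt M θ μ) (ξ : C.S.K → ℂ) = 2 * n := by
      rw [Yt, classInner_add_left, hn, classInner_sum_left, Finset.sum_eq_zero fun ν _ => ?_, add_zero]
      rw [classInner_smul_left, C.Yone_eq, classInner_sum_left, Finset.sum_eq_zero fun i _ => ?_, mul_zero]
      rw [classInner_smul_left, irrC_orth, if_neg (hne i ν), mul_zero]
    rcases (hpm ξ hξ).2 with e | e <;> rw [e] at hY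
    · have : (1 : ℤ) = 2 * n := by exact_mod_cast hY
      omega
    · have : (-1 : ℤ) = 2 * n := by exact_mod_cast hY
      omega
  · -- a character of `Φ` trivial on the stabiliser
    obtain ⟨l, hl, hlz⟩ : ∃ l : C.Phi →* ℂˣ, (∀ f ∈ C.stab θ, l f = 1) ∧ l (C.pr z) ≠ 1 := by
      letI : CommGroup C.Phi := { (inferInstance : Group C.Phi) with mul_comm := C.Phi_comm' }
      haveI : NeZero (Monoid.exponent (C.Phi ⧸ C.stab θ)) := ⟨Monoid.exponent_ne_zero_of_finite⟩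
      obtain ⟨m, hm⟩ := CommGroup.exists_apply_ne_one_of_hasEnoughRootsOfUnity (C.Phi ⧸ C.stab θ) ℂ
        (a := (C.pr z : C.Phi ⧸ C.stab θ)) (fun e => hz ((QuotientGroup.eq_one_iff _).1 e))
      exact ⟨m.comp (QuotientGroup.mk' _), fun f hf => by
        rw [MonoidHom.comp_apply, QuotientGroup.mk'_apply, (QuotientGroup.eq_one_iff f).2 hf, map_one], hm⟩
    have htw : ∀ χ : IrrCharacter C.S.K,
        classInner (C.Yt M θ μ) (C.twist l χ : C.S.K → ℂ) = classInner (C.Yt M θ μ) (χ : C.S.K → ℂ) := by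
      intro χ
      simp only [classInner]
      refine congrArg _ (Finset.sum_congr rfl fun x _ => ?_)
      have hY := C.Yt_twist (M := M) hl μ x
      have h1 : (l (C.pr x) : ℂ) * conj (l (C.pr x) : ℂ) = 1 := by rw [conj_lin, map_inv]; simp
      rw [C.twist_apply, map_mul]
      linear_combination (conj ((χ : C.S.K → ℂ) x) * C.Yt M θ μ x) * h1 -
        (conj (l (C.pr x) : ℂ) * conj ((χ : C.S.K → ℂ) x)) * hY
    -- the twist fixes `ξ`
    have hinj : Function.Injective (C.twist l) := fun χ χ' h => Subtype.ext (funext fun x => by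
      have := congrFun (congrArg Subtype.val h) x
      simp only [twist] at this
      exact mul_left_cancel₀ (Units.ne_zero _) this)
    have hmul : ∀ l' : C.Phi →* ℂˣ, ∀ χ, C.twist (l * l') χ = C.twist l (C.twist l' χ) := fun l' χ =>
      Subtype.ext (funext fun x => by simp [twist, mul_assoc])
    have htwo : C.twist l (C.twist l ξ) = ξ := by
      have m0 := (hpm ξ hξ).1
      have m1 := (hpm (C.twist l ξ) (by rw [htw]; exact hξ)).1
      have m2 := (hpm (C.twist l (C.twist l ξ)) (by rw [htw, htw]; exact hξ)).1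
      by_contra hne
      have hne1 : C.twist l ξ ≠ ξ := fun e => hne (by rw [e, e])
      have hne2 : C.twist l (C.twist l ξ) ≠ C.twist l ξ := fun e => hne1 (hinj e)
      rcases m0 with a0 | a0 <;> rcases m1 with a1 | a1 <;> rcases m2 with a2 | a2 <;>
        first
          | exact hne (a2.trans a0.symm) | exact hne1 (a1.trans a0.symm) | exact hne2 (a2.trans a1.symm)
    have hx := congrFun (congrArg Subtype.val htwo) z
    simp only [twist] at hx
    by_contra h0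
    have h2 : ((l (C.pr z) : ℂˣ) : ℂ) ^ 2 = 1 := by
      refine mul_right_cancel₀ h0 ?_
      rw [one_mul, pow_two, mul_assoc]
      exact hx
    refine hlz (Units.ext ?_)
    obtain ⟨k, hk⟩ := C.odd
    have he : ((l (C.pr z) : ℂˣ) : ℂ) ^ C.e = 1 := by
      rw [← Units.val_pow_eq_pow_val, ← map_pow, pow_card_eq_one', map_one, Units.val_one]
    rw [show C.e = 2 * k + 1 from hk, pow_succ, pow_mul, h2, one_pow, one_mul] at he
    rw [he, Units.val_one]

end Frame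

end Cfsg.Agent.Walter.JR
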