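import Cfsg.Agent.Lib.Walter.JR.Orbit
import Cfsg.Agent.Lib.Char.Clifford
import Cfsg.Agent.Lib.Char.PrimeDegrees

/-!
# The pair count on `t K` and the equations

`rr z` counts the pairs of involutions with product `t z`. It vanishes at the elements of odd order outside `L` and is
twice the number of inverting involutions on `L`, so the inner products reduce to those of `PSL₂(q)`.
-/

set_option autoImplicit false
set_option linter.unusedSectionVars false
set_option linter.unusedSimpArgs false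
set_option linter.style.haveILetI false
set_option maxHeartbeats 800000

open Cfsg
open scoped ComplexConjugate Classical

namespace Cfsg.Agent.Walter.JR

open Subgroup Cfsg.Agent.Char Cfsg.Agent.Char.ReeThree Cfsg.Agent.Char.ReeOrder

universe u

namespace Frame

variable {G : Type u} [Group G] [Finite G] {F : Type} [Field F] [Fintype F] (C : Frame G F) [Fintype G]
variable {M : Ideal AlgInt}

/-- The pair count on `t K`. -/
noncomputable def rrK : C.S.K → ℂ := fun z => ((pairs (C.S.t * (z : G)) : ℕ) : ℂ)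

theorem rrK_cl : IsClassFunction C.S.K C.rrK := fun g h => by
  show ((pairs (C.S.t * ((h * g * h⁻¹ : C.S.K) : G)) : ℕ) : ℂ) = _
  have h1 : (h : G) * (C.S.t * g) * (h : G)⁻¹ = C.S.t * ((h * g * h⁻¹ : C.S.K) : G) := by
    rw [← mul_assoc (h : G), C.S.comm_t h.2]
    simp [mul_assoc]
  rw [← h1, pairs_class, rrK]

theorem mem_L_of_two {x : C.S.K} (hx : orderOf x = 2) : x ∈ C.L :=
  C.pr_eq_one.1 (orderOf_eq_one_iff.1 (Nat.eq_one_of_dvd_coprimes (Nat.coprime_two_left.2 C.odd)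
    (hx ▸ orderOf_map_dvd C.pr x) (orderOf_dvd_natCard _)))

theorem rrK_outside {z : C.S.K} (hz : Odd (orderOf z)) (hL : z ∉ C.L) : C.rrK z = 0 := by
  rw [rrK, C.S.pairs_tK hz]
  have : IsEmpty {x : C.S.K // orderOf x = 2 ∧ x * z * x⁻¹ = z⁻¹} := by
    refine ⟨fun x => hL (C.pr_eq_one.1 ?_)⟩
    have h := congrArg C.pr x.2.2
    rw [map_mul, map_mul, map_inv, map_inv, C.Phi_comm' _ (C.pr z), mul_inv_cancel_right] at h
    exact eq_one_of_inv_eq (C.odd.of_dvd_nat (orderOf_dvd_natCard _)) h.symm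
  rw [Nat.card_of_isEmpty]
  simp

theorem rrK_L {l : C.L} (hl : Odd (orderOf l)) : C.rrK (l : C.S.K) = KFacts.rrL l := by
  rw [rrK, C.S.pairs_tK (by rw [Subgroup.orderOf_coe]; exact hl), KFacts.rrL, Nat.cast_mul, Nat.cast_ofNat]
  congr 2
  exact Nat.card_congr
    { toFun := fun x => ⟨⟨x.1, C.mem_L_of_two x.2.1⟩, by rw [Subgroup.orderOf_mk]; exact x.2.1, Subtype.ext x.2.2⟩
      invFun := fun x => ⟨(x.1 : C.S.K), by rw [Subgroup.orderOf_coe]; exact x.2.1, congrArg Subtype.val x.2.2⟩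
      left_inv := fun x => rfl
      right_inv := fun x => rfl }

/-- The product with the pair count is computed in `L`. -/
theorem inner_rrK {Φ : C.S.K → ℂ} (hodd : ∀ z : C.S.K, ¬ Odd (orderOf z) → Φ z = 0) :
    (C.e : ℂ) * classInner Φ C.rrK = classInner (fun l : C.L => Φ l) KFacts.rrL := by
  have e1 : ∑ z : C.S.K, Φ z * conj (C.rrK z) = ∑ l : C.L, Φ l * conj (KFacts.rrL l) := by
    rw [← Finset.sum_filter_of_ne (p := fun z => z ∈ C.L) (fun z _ hne => ?_),
      Finset.sum_subtype (p := fun z => z ∈ C.L) (Finset.univ.filter fun z => z ∈ C.L) (fun z => by simp)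
        fun z => Φ z * conj (C.rrK z)]
    · refine Finset.sum_congr rfl fun l _ => ?_
      by_cases hl : Odd (orderOf l)
      · rw [C.rrK_L hl]
      · rw [hodd _ (by rw [Subgroup.orderOf_coe]; exact hl), zero_mul, zero_mul]
    · by_contra hL
      by_cases hz : Odd (orderOf z)
      · rw [C.rrK_outside hz hL, map_zero, mul_zero] at hne; exact hne rfl
      · rw [hodd z hz, zero_mul] at hne; exact hne rfl
  have hL0 : (Nat.card C.L : ℂ) ≠ 0 := Nat.cast_ne_zero.2 Nat.card_pos.ne'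
  have he : (C.e : ℂ) ≠ 0 := Nat.cast_ne_zero.2 Nat.card_pos.ne'
  rw [classInner, classInner, C.card_K, Nat.cast_mul, e1]
  field_simp

theorem card_hom_Phi : (Fintype.card (C.Phi →* ℂˣ) : ℂ) = C.e := by
  have h := sum_hom_apply C.Phi_comm' (1 : C.Phi)
  simpa using h

theorem rr_Fmu (hM : IsPModular 2 M) (k : Fin 3) (μ : C.Phi →* ℂˣ) :
    (C.e : ℂ) * classInner (C.Fmu M k μ) C.rrK = classInner (C.Q4.Fk k) KFacts.rrL := by
  rw [C.inner_rrK fun z hz => C.Fmu_even hM k μ hz]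
  simp only [C.Fmu_L hM]

theorem rr_Yt (hM : IsPModular 2 M) {θ : C.D.B →* ℂˣ} (hθi : C.Inv θ) (μ : C.Phi →* ℂˣ) :
    (C.e : ℂ) * classInner (C.Yt M θ μ) C.rrK = classInner (C.D.Yf θ) KFacts.rrL := by
  have hsame : ∀ ν, classInner (C.Yt M θ ν) C.rrK = classInner (C.Yt M θ μ) C.rrK := by
    intro ν
    refine mul_left_cancel₀ (a := (C.e : ℂ)) (Nat.cast_ne_zero.2 Nat.card_pos.ne') ?_
    rw [C.inner_rrK fun z hz => C.Yt_even hM θ ν hz, C.inner_rrK fun z hz => C.Yt_even hM θ μ hz]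
    congr 1
    funext l
    rw [C.Yt_inv_twist hθi ν, C.Yt_inv_twist hθi μ, C.pr_L, map_one, map_one]
  have h : classInner (∑ ν, C.Yt M θ ν) C.rrK = (C.e : ℂ) * classInner (C.Yt M θ μ) C.rrK := by
    rw [classInner_sum_left, Finset.sum_congr rfl fun ν _ => hsame ν, Finset.sum_const, Finset.card_univ,
      nsmul_eq_mul, C.card_hom_Phi]
  rw [← h, C.sum_Yt hM θ, show C.stab θ = ⊤ from hθi, Subgroup.index_top, Nat.cast_one, one_smul,
    Cfsg.Agent.Char.frobenius _ _ C.rrK_cl]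
  simp only [classInner]
  congr 1
  refine Finset.sum_congr rfl fun l _ => ?_
  by_cases hl : Odd (orderOf l)
  · rw [C.rrK_L hl]
  · rw [C.D.Yf_even θ hl, zero_mul, zero_mul]

theorem rrL_equiv (σ : C.L ≃* C.L) (l : C.L) : KFacts.rrL (σ l) = KFacts.rrL l := by
  simp only [KFacts.rrL]
  congr 2
  refine Nat.card_congr (Equiv.subtypeEquiv σ.symm.toEquiv fun x => ?_)
  show _ ↔ orderOf (σ.symm x) = 2 ∧ σ.symm x * l * (σ.symm x)⁻¹ = l⁻¹
  rw [MulEquiv.orderOf_eq]
  constructor <;> rintro ⟨h1, h2⟩ <;> refine ⟨h1, ?_⟩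
  · have := congrArg σ.symm h2
    simpa using this
  · have := congrArg σ h2
    simpa using this

/-- The constituents `ξ` above the defect zero characters of `L`. -/
theorem above_zero (hM : IsPModular 2 M) (hco : C.e.Coprime C.D.b) {ψ : C.D.A →* ℂˣ} (hψ : ψ ≠ 1)
    {ξ : IrrCharacter C.S.K} (hξ : classInner (indFun C.L (C.D.Zf ψ)) (ξ : C.S.K → ℂ) ≠ 0) :
    (∀ z, ¬ Odd (orderOf z) → (ξ : C.S.K → ℂ) z = 0) ∧
    (∀ i μ, classInner (ξ : C.S.K → ℂ) (C.ext M i μ : C.S.K → ℂ) = 0) ∧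
    (∀ θ μ, θ ≠ 1 → classInner (ξ : C.S.K → ℂ) (C.Yt M θ μ) = 0) ∧
    classInner (ξ : C.S.K → ℂ) C.rrK = 0 := by
  haveI := C.hL
  obtain ⟨s, ζ, hs, hZ, h4⟩ := KFacts.Zf_irr C.D hψ
  have hcl := isClassFunction_character (irr_isCharacter ξ.2)
  have hζ : classInner (fun l : C.L => (ξ : C.S.K → ℂ) l) (ζ : C.L → ℂ) ≠ 0 := by
    intro h
    apply hξ
    rw [Cfsg.Agent.Char.frobenius _ _ hcl, hZ, classInner_smul_left, ← classInner_symm, h, map_zero, mul_zero]
  have hdeg : 4 ∣ deg (ξ : C.S.K → ℂ) := h4.trans (PrimeDegrees.deg_dvd_of_constituent C.L hζ)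
  have heven : ∀ z, ¬ Odd (orderOf z) → (ξ : C.S.K → ℂ) z = 0 := fun z hz => C.four_dvd_vanish hM hdeg hz
  refine ⟨heven, fun i μ => ?_, fun θ μ hθ => ?_, ?_⟩
  · rw [irrC_orth, if_neg]
    intro e
    have h1 := C.ext_L hM i μ 1
    rw [← e, OneMemClass.coe_one, char_one_eq_deg (irr_isCharacter ξ.2),
      char_one_eq_deg (irr_isCharacter (C.Q4.η i).2)] at h1
    have h2 : deg (ξ : C.S.K → ℂ) = deg (C.Q4.η i : C.L → ℂ) := by exact_mod_cast h1
    exact Nat.not_even_iff_odd.2 (h2 ▸ C.Q4.odd i) (even_iff_two_dvd.2 ((by norm_num : (2 : ℕ) ∣ 4).trans hdeg))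
  · rw [← classInner_symm]
    by_contra h
    have h' : classInner (C.Yt M θ μ) (ξ : C.S.K → ℂ) ≠ 0 := fun e => h (by rw [e, map_zero])
    exact (C.exists_pair hθ hM hco μ h').2.1 hdeg
  · refine mul_left_cancel₀ (a := (C.e : ℂ)) (Nat.cast_ne_zero.2 Nat.card_pos.ne') ?_
    rw [C.inner_rrK heven, mul_zero, clifford_restrict ξ ζ hζ, classInner_smul_left, classInner_sum_left,
      Finset.sum_eq_zero, mul_zero]
    intro ψ' hψ'
    obtain ⟨g, rfl⟩ := mem_cliffOrbit.1 hψ'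
    have h0 : classInner (ζ : C.L → ℂ) KFacts.rrL = 0 := by
      have h := KFacts.r_Zf C.D ψ
      rw [if_neg hψ, hZ, classInner_smul_left] at h
      exact (mul_eq_zero.1 h).resolve_left (by rcases hs with rfl | rfl <;> norm_num)
    rw [← h0]
    simp only [classInner]
    congr 1
    exact Fintype.sum_equiv (MulAut.conjNormal g).toEquiv _ _ fun l => by
      show _ = (ζ : C.L → ℂ) (MulAut.conjNormal g l) * conj (KFacts.rrL (MulAut.conjNormal g l))
      rw [C.rrL_equiv, irrComp_apply]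

theorem sum_eq_pairs' {f : G → ℂ} (h : IsGeneralizedCharacter G f) :
    ∑ a : G, ∑ b : G, f (a * C.S.t * a⁻¹ * (b * C.S.t * b⁻¹)) = (Nat.card G : ℂ) ^ 2 *
      ∑ χ : IrrCharacter G, (coord f χ : ℂ) * (χ : G → ℂ) C.S.t ^ 2 / (deg (χ : G → ℂ) : ℂ) := by
  conv_lhs => rw [coord_expand h]
  simp only [Finset.sum_apply, Pi.smul_apply, smul_eq_mul]
  rw [Finset.sum_congr rfl fun a _ => Finset.sum_comm, Finset.sum_comm, Finset.mul_sum]
  refine Finset.sum_congr rfl fun χ _ => ?_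
  simp only [← Finset.mul_sum, sum_pair_irr, char_one_eq_deg (irr_isCharacter χ.2)]
  ring

theorem equation' {Φ : C.S.K → ℂ} (h : IsGeneralizedCharacter C.S.K Φ) :
    ∑ χ : IrrCharacter G, (C.LL Φ χ : ℂ) * (χ : G → ℂ) C.S.t ^ 2 / (deg (χ : G → ℂ) : ℂ) =
      (Nat.card C.S.C : ℂ) ^ 2 / (Nat.card G : ℂ) * classInner Φ C.rrK := by
  have hG : (Nat.card G : ℂ) ≠ 0 := Nat.cast_ne_zero.2 Nat.card_pos.ne'
  have h1 := C.sum_eq_pairs' (C.S.gen_lift h)
  rw [C.S.pair_equation C.hconj Φ] at h1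
  have h2 : classInner Φ C.rrK = (Nat.card C.S.K : ℂ)⁻¹ * ∑ z : C.S.K, Φ z * (pairs (C.S.t * (z : G)) : ℂ) := by
    simp only [classInner, rrK, map_natCast]
  rw [h2, LL]
  refine mul_left_cancel₀ (pow_ne_zero 2 hG) (h1.symm.trans ?_)
  field_simp

theorem equation_Ps (R : C.Rot) (h0 : C.B0 ≠ ⊥) (hco : C.e.Coprime C.D.b) (θ : C.D.B →* ℂˣ) (μ : C.Phi →* ℂˣ) :
    ∑ χ : IrrCharacter G, (C.cPs θ μ χ : ℂ) * (χ : G → ℂ) C.S.t ^ 2 / (deg (χ : G → ℂ) : ℂ) = 0 := by
  have h1 := C.sum_eq_pairs' (C.gen_Ps (le_refl (C.stab θ)) μ)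
  rw [R.Ps_pairs h0 hco] at h1
  exact (mul_eq_zero.1 h1.symm).resolve_left (pow_ne_zero 2 (Nat.cast_ne_zero.2 Nat.card_pos.ne'))

/-- The congruence modulo eight at an involution. -/
theorem cong_eight' (χ : IrrCharacter G) {x : ℤ} (hx : (χ : G → ℂ) C.S.t = (x : ℂ)) :
    (8 : ℤ) ∣ (deg (χ : G → ℂ) : ℤ) - x := by
  have hχ := irr_isCharacter χ.2
  have hcl := isClassFunction_character hχ
  let ψ : V4 × ℤˣ →* G := MonoidHom.noncommCoprod C.vG (invHom C.u0_sq) fun v u => by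
    rcases Int.units_eq_one_or u with rfl | rfl
    · simp [invHom]
    · show Commute _ (if (-1 : ℤˣ) = 1 then (1 : G) else C.u0)
      rw [if_neg (by decide)]
      exact (C.V_u0 (C.vG_mem v)).symm
  have hu : ∀ v, C.vG v ≠ C.u0 := by
    intro v e
    have hs : C.uL ≠ C.D.s := fun e' => by
      have := C.vq_inj (v := (false, true)) (v' := (true, false)) (by simp [vq, e', one_mem])
      simp at this
    have hK : C.u0 ∈ C.S.K := C.embL_mem_K _
    rcases C.mem_V.1 (C.vG_mem v) with h | h | h | h <;> rw [e] at h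
    · exact C.u0_ne h
    · exact C.S.t_not_mem (h ▸ hK)
    · exact hs (C.embL_inj (h.trans C.s_eq))
    · exact C.S.not_both (C.embL_mem_K C.D.s) (by rw [← C.s_eq, ← h]; exact hK)
  have hne : ∀ p : V4 × ℤˣ, p ≠ 1 → ψ p ≠ 1 := by
    rintro ⟨v, w⟩ hp h
    rcases Int.units_eq_one_or w with rfl | rfl
    · exact hp (Prod.ext (C.vG_inj (by simpa [ψ, invHom] using h.trans (map_one C.vG).symm)) rfl)
    · have h' : C.vG v * C.u0 = 1 := by simpa [ψ, invHom] using h
      exact hu v (by rw [eq_inv_of_mul_eq_one_left h', inv_eq_of_mul_eq_one_left C.u0_sq])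
  have hval : ∀ p, p ≠ 1 → (χ : G → ℂ) (ψ p) = (x : ℂ) := by
    intro p hp
    have hord : orderOf (ψ p) = 2 := orderOf_eq_prime (by
      rw [pow_two, ← map_mul, show p * p = 1 from Prod.ext (Prod.ext (Int.units_mul_self _) (Int.units_mul_self _))
        (Int.units_mul_self _), map_one]) (hne p hp)
    obtain ⟨g, hg⟩ := isConj_iff.1 (C.hconj _ hord)
    rw [← hg, hcl, hx]
  obtain ⟨n, hn⟩ := classInner_natCast (isCharacter_comp ψ hχ) (isCharacter_one (G := V4 × ℤˣ))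
  rw [classInner, ← Finset.add_sum_erase _ _ (Finset.mem_univ (1 : V4 × ℤˣ))] at hn
  simp only [Function.comp_apply, map_one, char_one_eq_deg hχ] at hn
  rw [Finset.sum_congr rfl fun p hp => by rw [hval p (Finset.mem_erase.1 hp).1],
    Finset.sum_const, Finset.card_erase_of_mem (Finset.mem_univ _), Finset.card_univ,
    Nat.card_eq_fintype_card] at hn
  simp [show Fintype.card (V4 × ℤˣ) = 8 from rfl] at hn
  have h : ((deg (χ : G → ℂ) : ℤ) + 7 * x : ℤ) = 8 * (n : ℤ) := by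
    apply Int.cast_injective (α := ℂ)
    push_cast
    linear_combination 8 * hn
  exact ⟨(n : ℤ) - x, by linear_combination h⟩

end Frame

end Cfsg.Agent.Walter.JR
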