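import Cfsg.Agent.Lib.Walter.JR.Quot
import Cfsg.Agent.Lib.Char.ReeOrder.LocalKlein
import Cfsg.Agent.S0058

/-!
# The local lemma of part (C)

For `1 ≠ y ∈ B` the centraliser normalises `V`; for `y` fixed by `Φ` it centralises `V`; in a simple group `e` is
prime to `b`.
-/

set_option autoImplicit false
set_option linter.unusedSectionVars false
set_option linter.style.haveILetI false

namespace Cfsg.Agent.Walter.JR

open Subgroup Cfsg.Agent.Char.ReeThree Cfsg.Agent.Char.ReeOrder Cfsg.Agent.Solv.AbelianTwo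

universe u

namespace Frame

variable {G : Type u} [Group G] [Finite G] {F : Type} [Field F] [Fintype F] (C : Frame G F)

theorem t_ne_s : C.S.t ≠ C.s := fun e => C.S.t_not_mem (e ▸ C.embL_mem_K C.D.s)

theorem V_pgroup : IsPGroup 2 C.V := fun v => ⟨1, Subtype.ext (by
  rw [Subgroup.coe_pow, pow_one, pow_two]; exact C.V_sq v.2)⟩

theorem V_le_cent {y : G} (hy : y ∈ C.BG) : C.V ≤ centralizer ({y} : Set G) :=
  fun _ hv => mem_centralizer_singleton_iff.2 (C.V_BG hv hy).symm.eq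

theorem BP_mem_of {β f : G} (hβ : β ∈ C.BG) (hf : f ∈ C.PhiG) : β * f ∈ C.BP :=
  mul_mem (mem_sup_left hβ) (mem_sup_right hf)

theorem V_BP {v x : G} (hv : v ∈ C.V) (hx : x ∈ C.BP) : Commute x v := C.V_comm_of (C.BP_t hx) (C.BP_s hx) hv

/-- The odd elements of `C(t) ∩ C(y)` lie in `B Φ`. -/
theorem odd_cent_ty {y x : G} (hy : y ∈ C.BG) (hy1 : y ≠ 1) (hxt : x * C.S.t = C.S.t * x) (hxy : x * y = y * x)
    (ho : Odd (orderOf x)) : x ∈ C.BP := by
  obtain ⟨v, hv, β, hβ, f, hf, -, rfl⟩ := C.cent_ty hy hy1 hxt hxy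
  refine C.odd_cent_V hxt ?_ ho
  exact (((C.V_comm_of C.s_t rfl hv).symm.mul_left (C.BG_s hβ)).mul_left (C.s_fix hf)).eq

/-- A two-group of `C(y)` containing `V` is `V`. -/
theorem two_eq_V {y : G} (hy : y ∈ C.BG) (hy1 : y ≠ 1) {P : Subgroup G} (hP : IsPGroup 2 P) (hV : C.V ≤ P)
    (hPy : P ≤ centralizer ({y} : Set G)) : P = C.V := by
  refine le_antisymm (fun x hx => ?_) hV
  obtain ⟨v, hv, β, hβ, f, hf, -, rfl⟩ := C.cent_ty hy hy1
    (Solv.AbelianTwo.commute_of_mem C.hab hP hx (hV C.t_mem_V)).eq (mem_centralizer_singleton_iff.1 (hPy hx))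
  obtain ⟨k, hk⟩ := hP ⟨_, hx⟩
  have hb := C.BP_mem_of hβ hf
  have hk' : (v * (β * f)) ^ 2 ^ (k + 1) = 1 := by
    rw [← mul_assoc, pow_succ, pow_mul, show (v * β * f) ^ 2 ^ k = 1 from congrArg Subtype.val hk, one_pow]
  rw [(C.V_BP hv hb).symm.mul_pow, pow_succ', pow_mul v, pow_two v, C.V_sq hv, one_pow, one_mul, ← pow_succ'] at hk'
  obtain ⟨j, -, hj⟩ := (Nat.dvd_prime_pow Nat.prime_two).1 (orderOf_dvd_of_pow_eq_one hk')
  have ho := C.BP_odd hb
  rw [hj] at ho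
  rcases j with _ | j
  · rw [pow_zero, orderOf_eq_one_iff] at hj
    rw [mul_assoc, hj, mul_one]; exact hv
  · exact absurd ho (Nat.not_odd_iff_even.2 ⟨2 ^ j, by rw [pow_succ]; ring⟩)

theorem V_index {y : G} (hy : y ∈ C.BG) (hy1 : y ≠ 1) :
    ¬ 2 ∣ (C.V.subgroupOf (centralizer ({y} : Set G))).index := by
  haveI : Fact (Nat.Prime 2) := ⟨Nat.prime_two⟩
  obtain ⟨P, hP⟩ := (C.V_pgroup.of_equiv (subgroupOfEquivOfLe (C.V_le_cent hy)).symm).exists_le_sylow
  have hle : C.V ≤ (P : Subgroup (centralizer ({y} : Set G))).map (centralizer ({y} : Set G)).subtype :=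
    fun v hv => ⟨⟨v, C.V_le_cent hy hv⟩, hP (mem_subgroupOf.2 hv), rfl⟩
  have he := C.two_eq_V hy hy1 (P.2.map _) hle (Subgroup.map_subtype_le _)
  rw [show C.V.subgroupOf (centralizer ({y} : Set G)) = (P : Subgroup _) by
    rw [← he, Subgroup.subgroupOf, Subgroup.comap_map_eq_self_of_injective (Subgroup.subtype_injective _)]]
  exact P.not_dvd_index

theorem no_swap {c : G} (hc : c * C.S.t = C.S.t * c) : c * C.s * c⁻¹ ≠ C.S.t * C.s := by
  intro h
  apply C.S.not_both (C.embL_mem_K C.D.s)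
  show C.S.t * C.s ∈ C.S.K
  rw [← h]
  obtain ⟨v, hv, l, f, hf, rfl⟩ := C.cent_t hc
  have hk : C.embL l * f * C.s * (C.embL l * f)⁻¹ ∈ C.S.K :=
    mul_mem (mul_mem (mul_mem (C.embL_mem_K l) (C.Phi_K hf)) (C.embL_mem_K _))
      (inv_mem (mul_mem (C.embL_mem_K l) (C.Phi_K hf)))
  rw [show v * C.embL l * f * C.s * (v * C.embL l * f)⁻¹ = v * (C.embL l * f * C.s * (C.embL l * f)⁻¹) * v⁻¹ by group]
  rcases hv with rfl | rfl
  · simpa using hk
  · rw [← C.S.comm_t hk, mul_inv_cancel_right]; exact hk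

theorem cent_V_of {x : G} (hxt : x * C.S.t = C.S.t * x) (hxs : x * C.s = C.s * x) : x ∈ centralizer (C.V : Set G) :=
  mem_centralizer_iff.2 fun _ hv => (C.V_comm_of hxt hxs hv).symm.eq

/-- An element of `C(V)` acts on `B` as `± Φ`. -/
theorem cent_V_act {c : G} (hct : c * C.S.t = C.S.t * c) (hcs : c * C.s = C.s * c) :
    ∃ f ∈ C.PhiG, (∀ y ∈ C.BG, c * y * c⁻¹ = f * y * f⁻¹) ∨ ∀ y ∈ C.BG, c * y * c⁻¹ = (f * y * f⁻¹)⁻¹ := by
  obtain ⟨v, hv, β, hβ, f, hf, h⟩ := C.cent_V hct hcs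
  refine ⟨f, hf, ?_⟩
  have key : ∀ y ∈ C.BG, v * β * f * y * (v * β * f)⁻¹ = f * y * f⁻¹ := fun y hy => by
    have h1 := C.conj_mem_BG hf hy
    rw [show v * β * f * y * (v * β * f)⁻¹ = v * (β * (f * y * f⁻¹) * β⁻¹) * v⁻¹ by group, C.BG_comm hβ h1,
      mul_inv_cancel_right, ← (C.V_BG hv h1).eq, mul_inv_cancel_right]
  rcases h with e | e
  · exact Or.inl fun y hy => by rw [e]; exact key y hy
  · refine Or.inr fun y hy => ?_
    rw [e, show C.u0 * v * β * f * y * (C.u0 * v * β * f)⁻¹ = C.u0 * (v * β * f * y * (v * β * f)⁻¹) * C.u0⁻¹ by group,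
      key y hy, C.u0_inv (C.conj_mem_BG hf hy)]

namespace Rot

variable {C} (R : C.Rot)

theorem rho_V {v : G} (hv : v ∈ C.V) : R.rho * v * R.rho⁻¹ ∈ C.V := by
  rcases C.mem_V.1 hv with rfl | rfl | rfl | rfl
  · simp [one_mem]
  · rw [R.rho_t]; exact C.s_mem_V
  · rw [R.rho_s]; exact C.ts_mem_V
  · rw [R.rho_ts]; exact C.t_mem_V

/-- Conjugation by `ρ` preserves `B Φ`. -/
theorem rho_BP {x : G} (hx : x ∈ C.BP) : R.rho * x * R.rho⁻¹ ∈ C.BP := by
  obtain ⟨β, hβ, f, hf, rfl⟩ := C.mem_BP.1 hx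
  rw [show R.rho * (β * f) * R.rho⁻¹ = R.rho * β * R.rho⁻¹ * (R.rho * f * R.rho⁻¹) by group, ← R.rho_fix f hf,
    mul_inv_cancel_right]
  exact C.BP_mem_of (R.rho_B hβ) hf

theorem inv_eq : R.rho⁻¹ = R.rho * R.rho := inv_eq_of_mul_eq_one_left (by rw [mul_assoc, ← pow_two, ← pow_succ', R.rho3])

theorem rho_inv_B {y : G} (hy : y ∈ C.BG) : R.rho⁻¹ * y * R.rho ∈ C.BG := by
  have h := R.rho_B (R.rho_B hy)
  rwa [show R.rho * (R.rho * y * R.rho⁻¹) * R.rho⁻¹ = R.rho * R.rho * y * (R.rho * R.rho)⁻¹ by group, ← R.inv_eq,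
    inv_inv] at h

/-- `N(V) = C(V)⟨ρ⟩`. -/
theorem norm_V {n : G} (hn : ∀ v ∈ C.V, n * v * n⁻¹ ∈ C.V) :
    ∃ i < 3, ∃ c : G, c * C.S.t = C.S.t * c ∧ c * C.s = C.s * c ∧ n = R.rho ^ i * c := by
  have hpow : ∀ j : ℕ, ∀ v ∈ C.V, R.rho ^ j * v * (R.rho ^ j)⁻¹ ∈ C.V := by
    intro j
    induction j with
    | zero => intro v hv; simpa using hv
    | succ j ih =>
      intro v hv
      rw [pow_succ', show R.rho * R.rho ^ j * v * (R.rho * R.rho ^ j)⁻¹ =
        R.rho * (R.rho ^ j * v * (R.rho ^ j)⁻¹) * R.rho⁻¹ by group]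
      exact R.rho_V (ih v hv)
  have key : ∀ i : ℕ, i < 3 → n * C.S.t * n⁻¹ = R.rho ^ i * C.S.t * (R.rho ^ i)⁻¹ →
      ∃ i < 3, ∃ c : G, c * C.S.t = C.S.t * c ∧ c * C.s = C.s * c ∧ n = R.rho ^ i * c := by
    intro i hi e
    set c := (R.rho ^ i)⁻¹ * n with hcdef
    have hct : c * C.S.t = C.S.t * c := by
      calc c * C.S.t = (R.rho ^ i)⁻¹ * (n * C.S.t * n⁻¹) * n := by rw [hcdef]; group
        _ = C.S.t * c := by rw [e, hcdef]; group
    have hcs : c * C.s * c⁻¹ ∈ C.V := by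
      have h3 : (R.rho ^ i)⁻¹ = R.rho ^ (2 * i) := by
        apply inv_eq_of_mul_eq_one_left
        rw [← pow_add, show 2 * i + i = 3 * i by ring, pow_mul, R.rho3, one_pow]
      have h4 := hpow (2 * i) _ (hn _ C.s_mem_V)
      rwa [← h3, inv_inv, show (R.rho ^ i)⁻¹ * (n * C.s * n⁻¹) * R.rho ^ i = c * C.s * c⁻¹ by rw [hcdef]; group] at h4
    refine ⟨i, hi, c, hct, ?_, by rw [hcdef, mul_inv_cancel_left]⟩
    rcases C.mem_V.1 hcs with h | h | h | h
    · exact absurd (conj_eq_one_iff.1 h) C.s_ne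
    · exfalso
      have e1 : c * C.S.t * c⁻¹ = C.S.t := by rw [hct, mul_inv_cancel_right]
      exact C.t_ne_s (mul_left_cancel (mul_right_cancel (h.trans e1.symm))).symm
    · exact mul_inv_eq_iff_eq_mul.1 h
    · exact absurd h (C.no_swap hct)
  rcases C.mem_V.1 (hn _ C.t_mem_V) with h | h | h | h
  · exact absurd (conj_eq_one_iff.1 h) C.t_ne
  · exact key 0 (by norm_num) (by rw [h]; group)
  · exact key 1 (by norm_num) (by rw [h, pow_one, R.rho_t])
  · refine key 2 (by norm_num) ?_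
    rw [h, pow_two, show R.rho * R.rho * C.S.t * (R.rho * R.rho)⁻¹ = R.rho * (R.rho * C.S.t * R.rho⁻¹) * R.rho⁻¹ by
      group, R.rho_t, R.rho_s]

/-- `ρ` moves the elements of `B₀`. -/
theorem moved {y : G} (hy : y ∈ C.B0) (hy1 : y ≠ 1) : R.rho * y ≠ y * R.rho := fun h => by
  have h1 := C.fixed_cent hy hy1 (mem_centralizer_iff.2 fun f hf => R.rho_fix f hf) h
  have h2 := R.rho_t
  rw [h1, mul_inv_cancel_right] at h2
  exact C.t_ne_s h2

include R in
/-- The elements of `N(V)` centralising `y ∈ B₀` centralise `V`. -/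
theorem norm_V_fixed {y : G} (hy : y ∈ C.B0) (hy1 : y ≠ 1) {n : G} (hny : n * y = y * n)
    (hn : ∀ v ∈ C.V, n * v * n⁻¹ ∈ C.V) : n ∈ centralizer (C.V : Set G) := by
  obtain ⟨i, hi, c, hct, hcs, e⟩ := R.norm_V hn
  obtain ⟨hyB, hyc⟩ := Subgroup.mem_inf.1 hy
  obtain ⟨f, hf, hact⟩ := C.cent_V_act hct hcs
  have hfy : f * y * f⁻¹ = y := by rw [mem_centralizer_iff.1 hyc f hf, mul_inv_cancel_right]
  have hc : c * y * c⁻¹ = y ∨ c * y * c⁻¹ = y⁻¹ :=
    hact.imp (fun h => (h y hyB).trans hfy) (fun h => by rw [h y hyB, hfy])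
  have hi0 : i = 0 := by
    by_contra hi0
    have hr := R.moved hy hy1
    apply hr
    have h1 : R.rho ^ i * (c * y * c⁻¹) * (R.rho ^ i)⁻¹ = y := by
      rw [show R.rho ^ i * (c * y * c⁻¹) * (R.rho ^ i)⁻¹ = R.rho ^ i * c * y * (R.rho ^ i * c)⁻¹ by group, ← e, hny,
        mul_inv_cancel_right]
    have conj3 : R.rho * (R.rho * (R.rho * y * R.rho⁻¹) * R.rho⁻¹) * R.rho⁻¹ = y := by
      rw [show R.rho * (R.rho * (R.rho * y * R.rho⁻¹) * R.rho⁻¹) * R.rho⁻¹ =
        (R.rho * (R.rho * R.rho)) * y * (R.rho * (R.rho * R.rho))⁻¹ by group, ← pow_two, ← pow_succ', R.rho3]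
      group
    have hne : y⁻¹ ≠ y := fun h => hy1 (eq_one_of_inv_eq (C.BG_odd hyB) h)
    have cinv : ∀ x z : G, x * z⁻¹ * x⁻¹ = (x * z * x⁻¹)⁻¹ := fun x z => by group
    rcases (show i = 1 ∨ i = 2 by omega) with rfl | rfl <;> rcases hc with hc | hc <;> rw [hc] at h1
    · rw [pow_one] at h1
      exact mul_inv_eq_iff_eq_mul.1 h1
    · rw [pow_one, cinv, inv_eq_iff_eq_inv] at h1
      rw [h1, cinv, h1, inv_inv, h1] at conj3
      exact absurd conj3 hne
    · rw [pow_two, show R.rho * R.rho * y * (R.rho * R.rho)⁻¹ = R.rho * (R.rho * y * R.rho⁻¹) * R.rho⁻¹ by group] at h1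
      rw [h1] at conj3
      exact mul_inv_eq_iff_eq_mul.1 conj3
    · rw [pow_two, cinv, inv_eq_iff_eq_inv,
        show R.rho * R.rho * y * (R.rho * R.rho)⁻¹ = R.rho * (R.rho * y * R.rho⁻¹) * R.rho⁻¹ by group] at h1
      rw [h1, cinv, inv_eq_iff_eq_inv] at conj3
      rw [conj3, cinv, conj3, inv_inv] at h1
      exact absurd h1.symm hne
  rw [hi0, pow_zero, one_mul] at e
  rw [e]
  exact C.cent_V_of hct hcs

include R in
/-- If no element of `C(y)` rotates `V` then `C(y) ≤ C(V)`. -/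
theorem cent_le_CV {y : G} (hy : y ∈ C.BG) (hy1 : y ≠ 1)
    (hnr : ∀ n : G, n * y = y * n → (∀ v ∈ C.V, n * v * n⁻¹ ∈ C.V) → n ∈ centralizer (C.V : Set G)) :
    centralizer ({y} : Set G) ≤ centralizer (C.V : Set G) := by
  classical
  haveI : Fact (Nat.Prime 2) := ⟨Nat.prime_two⟩
  set X := centralizer ({y} : Set G) with hX
  set P : Sylow 2 X := (C.V_pgroup.of_equiv (subgroupOfEquivOfLe (C.V_le_cent hy)).symm).toSylow
    (C.V_index hy hy1) with hPdef
  have hP : (P : Subgroup X) = C.V.subgroupOf X := rfl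
  have hmemP : ∀ x : X, x ∈ (P : Subgroup X) ↔ (x : G) ∈ C.V := fun x => by rw [hP, mem_subgroupOf]
  have hN : normalizer (((P : Subgroup X)) : Set X) ≤ centralizer ((P : Subgroup X) : Set X) := by
    intro n hn
    have hnv : ∀ v ∈ C.V, (n : G) * v * (n : G)⁻¹ ∈ C.V := fun v hv =>
      (hmemP _).1 ((mem_normalizer_iff.1 hn ⟨v, C.V_le_cent hy hv⟩).1 ((hmemP _).2 hv))
    have hc := hnr n (mem_centralizer_singleton_iff.1 n.2) hnv
    rw [mem_centralizer_iff]
    intro v hv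
    exact Subtype.ext (mem_centralizer_iff.1 hc v ((hmemP v).1 hv))
  set O := (MonoidHom.transferSylow P hN).ker
  have hcomp : O.IsComplement' (P : Subgroup X) := MonoidHom.ker_transferSylow_isComplement' P hN
  haveI : (O.Normal) := MonoidHom.normal_ker _
  have hOodd : Odd (Nat.card O) := by
    have hi := P.not_dvd_index
    rw [hcomp.index_eq_card] at hi
    rwa [← Nat.not_even_iff_odd, even_iff_two_dvd]
  have hcentA : ∀ a : X, a ∈ (P : Subgroup X) → a ≠ 1 → ∀ o : X, o ∈ O → o * a = a * o → (o : G) ∈ C.BP := by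
    intro a ha ha1 o ho hoa
    have hoo : Odd (orderOf (o : G)) := by
      rw [Subgroup.orderOf_coe, ← Subgroup.orderOf_mk o ho]
      exact hOodd.of_dvd_nat (orderOf_dvd_natCard _)
    have hoy : (o : G) * y = y * o := mem_centralizer_singleton_iff.1 o.2
    have hoa' : (o : G) * (a : G) = a * o := congrArg Subtype.val hoa
    rcases C.mem_V.1 ((hmemP a).1 ha) with h | h | h | h
    · exact absurd (Subtype.ext h) ha1
    · exact C.odd_cent_ty hy hy1 (h ▸ hoa') hoy hoo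
    · rw [h] at hoa'
      have hmem := C.odd_cent_ty (x := R.rho⁻¹ * o * R.rho) (R.rho_inv_B hy)
        (fun h' => hy1 (by simpa [mul_eq_one_iff_eq_inv, mul_assoc, inv_mul_eq_one] using h')) (by
          calc R.rho⁻¹ * o * R.rho * C.S.t = R.rho⁻¹ * (o * (R.rho * C.S.t * R.rho⁻¹)) * R.rho := by group
            _ = R.rho⁻¹ * ((R.rho * C.S.t * R.rho⁻¹) * o) * R.rho := by rw [R.rho_t, hoa']
            _ = _ := by group) (by
          rw [show R.rho⁻¹ * (o : G) * R.rho * (R.rho⁻¹ * y * R.rho) = R.rho⁻¹ * (o * y) * R.rho by group, hoy]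
          group) (by
          rw [show R.rho⁻¹ * (o : G) * R.rho = MulAut.conj R.rho⁻¹ (o : G) by simp [MulAut.conj_apply],
            MulEquiv.orderOf_eq]; exact hoo)
      have := R.rho_BP hmem
      rwa [show R.rho * (R.rho⁻¹ * (o : G) * R.rho) * R.rho⁻¹ = o by group] at this
    · rw [h] at hoa'
      have hmem := C.odd_cent_ty (x := R.rho * o * R.rho⁻¹) (R.rho_B hy)
        (fun h' => hy1 (conj_eq_one_iff.1 h')) (by
          calc R.rho * o * R.rho⁻¹ * C.S.t = R.rho * o * R.rho⁻¹ * (R.rho * (C.S.t * C.s) * R.rho⁻¹) := by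
                rw [R.rho_ts]
            _ = R.rho * (o * (C.S.t * C.s)) * R.rho⁻¹ := by group
            _ = R.rho * ((C.S.t * C.s) * o) * R.rho⁻¹ := by rw [hoa']
            _ = R.rho * (C.S.t * C.s) * R.rho⁻¹ * (R.rho * o * R.rho⁻¹) := by group
            _ = _ := by rw [R.rho_ts]) (by
          rw [show R.rho * (o : G) * R.rho⁻¹ * (R.rho * y * R.rho⁻¹) = R.rho * (o * y) * R.rho⁻¹ by group, hoy]
          group) (by
          rw [show R.rho * (o : G) * R.rho⁻¹ = MulAut.conj R.rho (o : G) from rfl, MulEquiv.orderOf_eq]; exact hoo)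
      have := R.rho_BP (R.rho_BP hmem)
      rwa [show R.rho * (R.rho * (R.rho * (o : G) * R.rho⁻¹) * R.rho⁻¹) * R.rho⁻¹ =
        (R.rho * (R.rho * R.rho)) * o * (R.rho * (R.rho * R.rho))⁻¹ by group, ← pow_two, ← pow_succ', R.rho3,
        one_mul, inv_one, mul_one] at this
  have hPab : IsMulCommutative (P : Subgroup X) :=
    ⟨⟨fun a c => Subtype.ext (Subtype.ext
      (Solv.AbelianTwo.commute_of_mem C.hab C.V_pgroup ((hmemP _).1 a.2) ((hmemP _).1 c.2)).eq)⟩⟩
  haveI := hPab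
  have hncyc : ¬ IsCyclic (P : Subgroup X) := by
    intro hc
    haveI := hc
    obtain ⟨g, hg⟩ := IsCyclic.exists_generator (α := (P : Subgroup X))
    have key : ∀ z : (P : Subgroup X), z = 1 ∨ z = g := by
      intro z
      obtain ⟨k, hk⟩ := hg z
      have hg2 : g ^ 2 = 1 := Subtype.ext (Subtype.ext (by
        show ((g : X) : G) ^ 2 = 1
        rw [pow_two]; exact C.V_sq ((hmemP _).1 g.2)))
      simp only at hk
      rcases Int.even_or_odd k with ⟨j, rfl⟩ | ⟨j, rfl⟩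
      · left; rw [← hk, ← two_mul, zpow_mul]; norm_cast; rw [hg2, one_zpow]
      · right; rw [← hk, zpow_add, zpow_one, zpow_mul]; norm_cast; rw [hg2, one_zpow, one_mul]
    rcases key ⟨⟨C.S.t, C.V_le_cent hy C.t_mem_V⟩, (hmemP _).2 C.t_mem_V⟩ with ht | ht
    · exact C.t_ne (congrArg (fun z : (P : Subgroup X) => ((z : X) : G)) ht)
    · rcases key ⟨⟨C.s, C.V_le_cent hy C.s_mem_V⟩, (hmemP _).2 C.s_mem_V⟩ with hs | hs
      · exact C.s_ne (congrArg (fun z : (P : Subgroup X) => ((z : X) : G)) hs)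
      · exact C.t_ne_s (congrArg (fun z : (P : Subgroup X) => ((z : X) : G)) (ht.trans hs.symm))
  have hgen := S0058.result (P : Subgroup X) O hncyc
    (by rw [Subgroup.normalizer_eq_top]; exact le_top) (by
      obtain ⟨n, hn⟩ := IsPGroup.iff_card.1 P.2
      rw [hn]
      exact Nat.Coprime.pow_left n ((Nat.coprime_two_left).2 hOodd))
  have hO : ∀ o ∈ O, (o : G) ∈ C.BP := by
    intro o ho
    have hle : O ≤ C.BP.subgroupOf X := by
      conv_lhs => rw [← hgen]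
      refine iSup₂_le fun a ha => ?_
      intro x hx
      exact mem_subgroupOf.2 (hcentA a ha.1 ha.2 x hx.1 (mem_centralizer_singleton_iff.1 hx.2))
    exact mem_subgroupOf.1 (hle ho)
  intro x hx
  obtain ⟨⟨o, p⟩, hop⟩ := (hcomp.existsUnique (⟨x, hx⟩ : X)).exists
  have e : x = ((o : X) : G) * ((p : X) : G) := (congrArg Subtype.val hop).symm
  rw [e]
  refine mul_mem (C.cent_V_of (C.BP_t (hO _ o.2)) (C.BP_s (hO _ o.2))) ?_
  exact mem_centralizer_iff.2 fun v hv =>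
    (Solv.AbelianTwo.commute_of_mem C.hab C.V_pgroup hv ((hmemP _).1 p.2)).eq

end Rot

/-- `C(y) ≤ C(V)` for `1 ≠ y ∈ B₀`. -/
theorem cent_B0 {y : G} (hy : y ∈ C.B0) (hy1 : y ≠ 1) :
    centralizer ({y} : Set G) ≤ centralizer (C.V : Set G) := by
  obtain ⟨R⟩ := C.exists_rot
  exact R.cent_le_CV (Subgroup.mem_inf.1 hy).1 hy1 fun n hny hn => R.norm_V_fixed hy hy1 hny hn

/-- `C(y) ≤ N(V)` for `1 ≠ y ∈ B`, if `B₀ ≠ 1`. -/
theorem cent_BG (h0 : C.B0 ≠ ⊥) {y : G} (hy : y ∈ C.BG) (hy1 : y ≠ 1) :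
    centralizer ({y} : Set G) ≤ normalizer (C.V : Set G) := by
  classical
  obtain ⟨R⟩ := C.exists_rot
  by_cases hnr : ∀ n : G, n * y = y * n → (∀ v ∈ C.V, n * v * n⁻¹ ∈ C.V) → n ∈ centralizer (C.V : Set G)
  · exact (R.cent_le_CV hy hy1 hnr).trans (Subgroup.centralizer_le_normalizer _)
  push Not at hnr
  obtain ⟨n, hny, hnV, hnc⟩ := hnr
  obtain ⟨y0, hy0, hy01⟩ : ∃ y0 ∈ C.B0, y0 ≠ 1 := by
    by_contra h
    push Not at h
    exact h0 ((eq_bot_iff_forall _).2 h)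
  set X := centralizer ({y} : Set G) with hX
  -- an element of odd order of `C(y)` rotating `V` forwards
  obtain ⟨r, hry, hro, hrt, hrs⟩ : ∃ r : G, r * y = y * r ∧ Odd (orderOf r) ∧
      r * C.S.t * r⁻¹ = C.s ∧ r * C.s * r⁻¹ = C.S.t * C.s := by
    obtain ⟨i, hi, c, hct, hcs, e⟩ := R.norm_V hnV
    have hi0 : i ≠ 0 := fun hi0 => hnc (by
      rw [e, hi0, pow_zero, one_mul]; exact C.cent_V_of hct hcs)
    have et : n * C.S.t * n⁻¹ = R.rho ^ i * C.S.t * (R.rho ^ i)⁻¹ := by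
      rw [e, show R.rho ^ i * c * C.S.t * (R.rho ^ i * c)⁻¹ = R.rho ^ i * (c * C.S.t * c⁻¹) * (R.rho ^ i)⁻¹ by group,
        hct, mul_inv_cancel_right]
    have es : n * C.s * n⁻¹ = R.rho ^ i * C.s * (R.rho ^ i)⁻¹ := by
      rw [e, show R.rho ^ i * c * C.s * (R.rho ^ i * c)⁻¹ = R.rho ^ i * (c * C.s * c⁻¹) * (R.rho ^ i)⁻¹ by group,
        hcs, mul_inv_cancel_right]
    have mult : ∀ x z : G, n * (x * z) * n⁻¹ = n * x * n⁻¹ * (n * z * n⁻¹) := fun x z => by group
    -- a rotation in one of the two directions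
    obtain ⟨m, hmy, hmt, hms⟩ : ∃ m : G, m * y = y * m ∧ m * C.S.t * m⁻¹ = C.s ∧ m * C.s * m⁻¹ = C.S.t * C.s := by
      rcases (show i = 1 ∨ i = 2 by omega) with rfl | rfl
      · rw [pow_one, R.rho_t] at et
        rw [pow_one, R.rho_s] at es
        exact ⟨n, hny, et, es⟩
      · rw [pow_two, show R.rho * R.rho * C.S.t * (R.rho * R.rho)⁻¹ = R.rho * (R.rho * C.S.t * R.rho⁻¹) * R.rho⁻¹ by
          group, R.rho_t, R.rho_s] at et
        rw [pow_two, show R.rho * R.rho * C.s * (R.rho * R.rho)⁻¹ = R.rho * (R.rho * C.s * R.rho⁻¹) * R.rho⁻¹ by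
          group, R.rho_s, R.rho_ts] at es
        refine ⟨n⁻¹, ((show Commute n y from hny).inv_left).eq, ?_, ?_⟩
        · rw [inv_inv]
          conv_lhs => rw [← es]
          group
        · rw [inv_inv]
          have : n * (C.S.t * C.s) * n⁻¹ = C.s := by
            rw [mult, et, es, mul_assoc, C.s_t, ← mul_assoc, C.S.sq_t, one_mul]
          conv_lhs => rw [← this]
          group
    obtain ⟨k, o, ho, hko⟩ := Nat.exists_eq_two_pow_mul_odd (orderOf_pos m).ne'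
    have hmpow : ∀ j : ℕ, m ^ (3 * j + 1) * C.S.t * (m ^ (3 * j + 1))⁻¹ = C.s ∧
        m ^ (3 * j + 1) * C.s * (m ^ (3 * j + 1))⁻¹ = C.S.t * C.s := by
      have mts : m * (C.S.t * C.s) * m⁻¹ = C.S.t := by
        rw [show m * (C.S.t * C.s) * m⁻¹ = m * C.S.t * m⁻¹ * (m * C.s * m⁻¹) by group, hmt, hms, ← mul_assoc, C.s_t,
          mul_assoc, C.sq_s, mul_one]
      intro j
      induction j with
      | zero => simpa using ⟨hmt, hms⟩
      | succ j ih =>
        have e3 : ∀ z, m ^ (3 * (j + 1) + 1) * z * (m ^ (3 * (j + 1) + 1))⁻¹ =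
            m * (m * (m * (m ^ (3 * j + 1) * z * (m ^ (3 * j + 1))⁻¹) * m⁻¹) * m⁻¹) * m⁻¹ := fun z => by
          rw [show 3 * (j + 1) + 1 = 3 + (3 * j + 1) by omega, pow_add, show m ^ 3 = m * (m * m) by
            rw [pow_succ', pow_two]]
          group
        rw [e3, e3, ih.1, ih.2]
        exact ⟨by rw [hms, mts, hmt], by rw [mts, hmt, hms]⟩
    have hodd : ∀ j : ℕ, Odd (orderOf (m ^ (2 ^ k * j))) := fun j => by
      refine ho.of_dvd_nat (orderOf_dvd_of_pow_eq_one ?_)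
      rw [← pow_mul, show 2 ^ k * j * o = 2 ^ k * o * j by ring, pow_mul, ← hko, pow_orderOf_eq_one, one_pow]
    have hex : ∃ j : ℕ, 2 ^ k * j % 3 = 1 := by
      rcases (show (2 ^ k) % 3 = 1 ∨ (2 ^ k) % 3 = 2 by
        clear hko hodd
        induction k with
        | zero => simp
        | succ k ih => rw [pow_succ, Nat.mul_mod]; rcases ih with h | h <;> rw [h] <;> norm_num) with h | h
      · exact ⟨1, by rw [mul_one, h]⟩
      · exact ⟨2, by rw [Nat.mul_mod, h]⟩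
    obtain ⟨j, hj⟩ := hex
    have e : 2 ^ k * j = 3 * (2 ^ k * j / 3) + 1 := by omega
    refine ⟨m ^ (2 ^ k * j), ((show Commute m y from hmy).pow_left _).eq, hodd j, ?_, ?_⟩
    · rw [e]; exact (hmpow _).1
    · rw [e]; exact (hmpow _).2
  have hrts : r * (C.S.t * C.s) * r⁻¹ = C.S.t := by
    rw [show r * (C.S.t * C.s) * r⁻¹ = r * C.S.t * r⁻¹ * (r * C.s * r⁻¹) by group, hrt, hrs, ← mul_assoc, C.s_t,
      mul_assoc, C.sq_s, mul_one]
  let rX : X := ⟨r, mem_centralizer_singleton_iff.2 hry⟩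
  let D : KX X :=
    { t := ⟨C.S.t, C.V_le_cent hy C.t_mem_V⟩
      s := ⟨C.s, C.V_le_cent hy C.s_mem_V⟩
      rho := rX
      V := C.V.subgroupOf X
      B := C.BP.subgroupOf X
      mem_V := fun x => by
        rw [mem_subgroupOf, C.mem_V]
        exact ⟨Or.imp (fun h => Subtype.ext h) (Or.imp (fun h => Subtype.ext h)
            (Or.imp (fun h => Subtype.ext h) (fun h => Subtype.ext h))),
          Or.imp (fun h => congrArg Subtype.val h) (Or.imp (fun h => congrArg Subtype.val h)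
            (Or.imp (fun h => congrArg Subtype.val h) (fun h => congrArg Subtype.val h)))⟩
      ht := by rw [Subgroup.orderOf_mk]; exact C.S.ht
      hs := by rw [Subgroup.orderOf_mk, C.s_eq, orderOf_injective _ C.embL_inj, C.D.hs]
      hts := fun e => C.t_ne_s (congrArg Subtype.val e)
      hV := C.V_index hy hy1
      hcent := fun x hx => by
        obtain ⟨v, hv, β, hβ, f, hf, hfy, e⟩ := C.cent_ty hy hy1 (congrArg Subtype.val hx)
          (mem_centralizer_singleton_iff.1 x.2)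
        refine ⟨⟨v, C.V_le_cent hy hv⟩, hv, ⟨β * f, mem_centralizer_singleton_iff.2 ?_⟩, C.BP_mem_of hβ hf,
          Subtype.ext (by rw [e, mul_assoc]; rfl)⟩
        exact ((show Commute β y from C.BG_comm hβ hy).mul_left hfy).eq
      V_comm := fun x hx z hz => Subtype.ext (Solv.AbelianTwo.commute_of_mem C.hab C.V_pgroup hx hz).eq
      VB := fun v hv β hβ => Subtype.ext (C.V_BP hv hβ).symm.eq
      B_odd := by
        rw [← Nat.not_even_iff_odd, even_iff_two_dvd]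
        intro h2
        haveI := Fact.mk Nat.prime_two
        obtain ⟨x, hx⟩ := exists_prime_orderOf_dvd_card' 2 h2
        have ho : Odd (orderOf (((x : X)) : G)) := C.BP_odd x.2
        rw [Subgroup.orderOf_coe, Subgroup.orderOf_coe, hx] at ho
        exact absurd ho (by norm_num)
      rho3 := by
        have h3t : r ^ 3 * C.S.t = C.S.t * r ^ 3 := by
          rw [← mul_inv_eq_iff_eq_mul, show r ^ 3 * C.S.t * (r ^ 3)⁻¹ =
            r * (r * (r * C.S.t * r⁻¹) * r⁻¹) * r⁻¹ by rw [pow_succ', pow_two]; group, hrt, hrs, hrts]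
        exact mem_subgroupOf.2 (C.odd_cent_ty hy hy1 h3t ((show Commute r y from hry).pow_left 3).eq
          (hro.of_dvd_nat (orderOf_pow_dvd 3)))
      rho_t := Subtype.ext hrt
      rho_s := Subtype.ext hrs
      rho_B := fun β hβ => by
        have hcomm : ∀ v ∈ C.V, Commute (r * β * r⁻¹) (r * v * r⁻¹) := fun v hv => by
          show r * β * r⁻¹ * (r * v * r⁻¹) = r * v * r⁻¹ * (r * β * r⁻¹)
          rw [show r * β * r⁻¹ * (r * v * r⁻¹) = r * (β * v) * r⁻¹ by group, (C.V_BP hv (show (β : G) ∈ C.BP from hβ)).eq]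
          group
        refine C.odd_cent_V (x := r * β * r⁻¹) ?_ ?_ ?_
        · have h := hcomm _ C.ts_mem_V
          rw [hrts] at h
          exact h.eq
        · have h := hcomm _ C.t_mem_V
          rw [hrt] at h
          exact h.eq
        · rw [show r * (β : G) * r⁻¹ = MulAut.conj r (β : G) from rfl, MulEquiv.orderOf_eq]
          exact C.BP_odd hβ }
  intro x hx
  rcases D.cases with h | ⟨f, hfker, hfr⟩
  · have hxN : (⟨x, hx⟩ : X) ∈ D.N := by rw [h]; exact mem_top _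
    refine mem_normalizer_of_map _ fun v hv => ?_
    exact (mem_normalizer_iff.1 hxN ⟨v, C.V_le_cent hy hv⟩).1 hv
  · exfalso
    haveI : D.B.Normal := hfker ▸ MonoidHom.normal_ker f
    let f' : X →* alternatingGroup (Fin 5) := f.codRestrict _ fun z => hfr ▸ ⟨z, rfl⟩
    have hf'surj : Function.Surjective f' := fun z => by
      obtain ⟨w, hw⟩ : (z : Equiv.Perm (Fin 5)) ∈ f.range := hfr.symm ▸ z.2
      exact ⟨w, Subtype.ext hw⟩
    set N := centralizer (D.B : Set X) ⊔ D.B with hNdef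
    have hne : N.map f' ≠ ⊥ := fun hb => by
      have htN : D.t ∈ N := mem_sup_left (mem_centralizer_iff.2 fun β hβ => (D.VB _ D.t_mem β hβ).symm)
      have h1 := (Subgroup.map_eq_bot_iff _).1 hb htN
      rw [MonoidHom.mem_ker] at h1
      have h2 : D.t ∈ D.B := hfker ▸ MonoidHom.mem_ker.2 (congrArg Subtype.val h1)
      exact D.t_ne (D.disj D.t_mem h2)
    haveI : (N.map f').Normal := Subgroup.Normal.map inferInstance f' hf'surj
    have hN : N = ⊤ := by
      have h1 : N.map f' = ⊤ := (IsSimpleGroup.eq_bot_or_eq_top_of_normal _ inferInstance).resolve_left hne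
      have h2 := Subgroup.comap_map_eq f' N
      rw [h1, Subgroup.comap_top] at h2
      rw [h2, eq_comm, sup_eq_left]
      intro z hz
      have : z ∈ f.ker := MonoidHom.mem_ker.2 (congrArg Subtype.val (MonoidHom.mem_ker.1 hz))
      exact mem_sup_right (hfker ▸ this)
    have hrN : rX ∈ N := hN ▸ mem_top _
    rw [← SetLike.mem_coe, hNdef, Subgroup.mul_normal] at hrN
    obtain ⟨c, hc, β, hβ, e⟩ := Set.mem_mul.1 hrN
    obtain ⟨hy0B, hy0c⟩ := Subgroup.mem_inf.1 hy0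
    have hcy0 : (c : G) * y0 = y0 * c := by
      have hy0X : y0 ∈ X := mem_centralizer_singleton_iff.2 (C.BG_comm hy0B hy)
      exact (congrArg Subtype.val (mem_centralizer_iff.1 hc ⟨y0, hy0X⟩ (mem_sup_left hy0B : y0 ∈ C.BP))).symm
    have hcV := C.cent_B0 hy0 hy01 (mem_centralizer_singleton_iff.2 hcy0)
    have hrV : r ∈ centralizer (C.V : Set G) := by
      rw [show r = (c : G) * (β : G) from (congrArg Subtype.val e).symm]
      exact mul_mem hcV (C.cent_V_of (C.BP_t hβ) (C.BP_s hβ))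
    rw [(mem_centralizer_iff.1 hrV _ C.t_mem_V).symm, mul_inv_cancel_right] at hrt
    exact C.t_ne_s hrt

end Frame

end Cfsg.Agent.Walter.JR
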