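import Cfsg.Agent.Lib.Walter.JR.Coords
import Cfsg.Agent.Lib.Walter.JR.BlockCases
import Cfsg.Agent.Lib.Walter.JR.Coprime
import Cfsg.Agent.Lib.Lead.BlockDegrees

/-!
# `Φ` is trivial when it fixes an element of `B`

The principal characters give `q = 3 ^ (2 m + 1)` and the constant of the equations. For a non-trivial `μ` the rows then
contain a linear character, hence the principal one, which does not belong to `μ`.
-/

set_option autoImplicit false
set_option linter.unusedSectionVars false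
set_option linter.style.haveILetI false

open Cfsg
open scoped Classical

namespace Cfsg.Agent.Walter.JR

open Subgroup Cfsg.Agent.Char Cfsg.Agent.Char.ReeThree Cfsg.Agent.Char.ReeOrder

universe u

theorem three_pow_mod_eight (m : ℕ) : 3 ^ (2 * m + 1) % 8 = 3 := by
  rw [pow_succ, pow_mul, Nat.mul_mod, Nat.pow_mod]
  norm_num

namespace Frame

variable {G : Type u} [Group G] [Finite G] {F : Type} [Field F] [Fintype F] (C : Frame G F) [Fintype G]

include C in
theorem not_comm [IsSimpleGroup G] : ¬ IsMulCommutative G := by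
  intro hc
  have hn : (zpowers C.S.t).Normal := ⟨fun x hx g => by
    rw [IsMulCommutative.is_comm.comm g x, mul_inv_cancel_right]; exact hx⟩
  have ht1 : C.S.t ≠ 1 := fun e => by
    have := C.S.ht
    rw [e, orderOf_one] at this
    omega
  rcases hn.eq_bot_or_eq_top with h | h
  · exact ht1 (zpowers_eq_bot.1 h)
  · have h2 : Nat.card G = 2 := by rw [← C.S.ht, ← Nat.card_zpowers, h, Subgroup.card_top]
    have hle := Nat.le_of_dvd Nat.card_pos (Subgroup.card_subgroup_dvd_card C.S.C)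
    rw [C.card_CK, h2] at hle
    have hq := C.D.q5
    have h4 : 4 ≤ Fintype.card F ^ 2 := le_trans (by norm_num) (Nat.pow_le_pow_left (n := 2) (by omega) 2)
    have : 6 * (4 - 1) ≤ Fintype.card F * (Fintype.card F ^ 2 - 1) := Nat.mul_le_mul (by omega) (by omega)
    have h5 : Fintype.card F * (Fintype.card F ^ 2 - 1) ≤ C.e * (Fintype.card F * (Fintype.card F ^ 2 - 1)) :=
      Nat.le_mul_of_pos_left _ Nat.card_pos
    omega

end Frame

/-- The character-theoretical half. -/
theorem mainStatement : MainStatement.{u} := by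
  intro G _ _ _ F _ _ C h0
  haveI := Fintype.ofFinite G
  obtain ⟨M, hM⟩ := exists_pModular Nat.prime_two
  obtain ⟨R⟩ := C.exists_rot
  let d : C.Dat := ⟨R, M, hM, C.coprime_eb h0, h0⟩
  by_contra he
  obtain ⟨m, hm, hQ, hg⟩ := d.coords.ree
  have hQ8 := d.coords.hQ8
  have h38 := three_pow_mod_eight m
  have hQp : d.coords.Q = ((3 ^ (2 * m + 1) : ℕ) : ℤ) := by
    rw [← hQ] at h38 ⊢
    omega
  have hQ27 : (27 : ℤ) ≤ d.coords.Q := by
    rw [hQp]
    exact_mod_cast (Nat.pow_le_pow_right (n := 3) (by norm_num) (show 3 ≤ 2 * m + 1 by omega) : 3 ^ 3 ≤ _)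
  have hkap : C.kap = ((C.sQ : ℚ) ^ 2 - 1) / (C.sQ * ((C.sQ : ℚ) ^ 2 - C.sQ + 1)) := by
    have h := d.coords.hg
    change C.kap * _ = _ at h
    rw [hg, hQ] at h
    have hs : (C.sQ : ℚ) = ((3 ^ (2 * m + 1) : ℕ) : ℚ) := by
      have : (d.coords.Q : ℚ) = ((3 ^ (2 * m + 1) : ℕ) : ℚ) := by rw [hQp]; rfl
      exact this
    rw [show (d.coords.Q : ℚ) = (C.sQ : ℚ) from rfl, hs] at h
    rw [hs]
    generalize hN : 3 ^ (2 * m + 1) = N at h hs ⊢
    have hN27 : 27 ≤ N := by
      rw [← hN]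
      exact le_trans (by norm_num) (Nat.pow_le_pow_right (n := 3) (by norm_num) (show 3 ≤ 2 * m + 1 by omega))
    rw [Nat.cast_mul, Nat.cast_mul, Nat.cast_sub (show 1 ≤ N by omega), Nat.cast_add, Nat.cast_pow,
      Nat.cast_one] at h
    have hq : (27 : ℚ) ≤ N := by exact_mod_cast hN27
    have h1 : (N : ℚ) + 1 ≠ 0 := by linarith
    have h2 : (N : ℚ) - 1 ≠ 0 := by linarith
    have h3 : (N : ℚ) ≠ 0 := by linarith
    have h4 : (N : ℚ) ^ 2 - N + 1 ≠ 0 := by nlinarith
    rw [eq_div_iff (mul_ne_zero h3 h4)]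
    apply mul_left_cancel₀ (mul_ne_zero (pow_ne_zero 2 h3) (mul_ne_zero h1 h2))
    linear_combination h
  obtain ⟨μ, hμ⟩ : ∃ μ : C.Phi →* ℂˣ, μ ≠ 1 := by
    by_contra hne
    push Not at hne
    have hc := C.card_hom_Phi
    rw [Fintype.card_eq_one_iff.2 ⟨1, hne⟩] at hc
    exact he (by exact_mod_cast hc.symm)
  obtain ⟨χ, hd, k, hk⟩ := BlockCases.exists_linear (d.rows μ) (fun i => d.zv_eq μ i) (n := 2 * m + 1)
    (by rw [show (d.rows μ).Q = d.coords.Q from rfl, hQp]; push_cast; rfl) hQ27 hkap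
  have hJ : d.InJ μ χ := d.fF_inJ μ hk
  have hdeg : deg (χ : G → ℂ) = 1 := by
    change d.dJ μ χ = 1 at hd
    rwa [Frame.Dat.dJ, if_pos hJ] at hd
  have hone : χ = Frame.oneG :=
    Subtype.ext (Lead.BlockDeg.eq_one_of_deg_one C.not_comm χ hdeg)
  apply hk
  show d.fF μ k χ = 0
  rw [hone, d.fF_one, if_neg hμ]

end Cfsg.Agent.Walter.JR
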