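import Cfsg.Agent.Lib.Walter.JR.Basic
import Cfsg.Agent.Lib.Char.ReeOrder.Local

/-!
# `C(Φ)/Φ`: the local lemma for the elements of `B` fixed by `Φ`

`C(Φ)/Φ` has an involution with centraliser `⟨t⟩ × PSL₂(q₀)` and one class of involutions, so the local lemma of
the order theorem applies to it: an element of `C(Φ)` centralising `1 ≠ y ∈ B₀` centralises `t`.
-/

set_option autoImplicit false
set_option linter.unusedSectionVars false
set_option linter.style.haveILetI false

namespace Cfsg.Agent.Walter.JR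

open Subgroup Cfsg.Agent.Char.ReeThree Cfsg.Agent.Char.ReeOrder Cfsg.Agent.Small Cfsg.Agent.Solv.AbelianTwo

universe u

namespace Frame

variable {G : Type u} [Group G] [Finite G] {F : Type} [Field F] [Fintype F] (C : Frame G F)

/-- The fixed field of `Φ`. -/
def F0 : Subfield F where
  carrier := {x | ∀ f : C.Phi, C.alpha f x = x}
  zero_mem' := fun f => map_zero _
  one_mem' := fun f => map_one _
  add_mem' := fun ha hb f => by rw [map_add, ha f, hb f]
  mul_mem' := fun ha hb f => by rw [map_mul, ha f, hb f]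
  neg_mem' := fun ha f => by rw [map_neg, ha f]
  inv_mem' := fun x hx f => by rw [map_inv₀, hx f]

theorem F0_card : ∃ k, Fintype.card F = Nat.card C.F0 ^ k := by
  classical
  refine ⟨Module.finrank C.F0 F, ?_⟩
  rw [Nat.card_eq_fintype_card]
  exact Module.card_eq_pow_finrank (K := C.F0) (V := F)

theorem F0_q8 : Nat.card C.F0 % 8 = 3 ∨ Nat.card C.F0 % 8 = 5 := by
  obtain ⟨k, hk⟩ := C.F0_card
  have h8 := C.D.q8
  rw [hk, Nat.pow_mod] at h8
  have hlt : Nat.card C.F0 % 8 < 8 := Nat.mod_lt _ (by norm_num)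
  have key : ∀ k : ℕ, ∀ r < 8, (r ^ k % 8 = 3 ∨ r ^ k % 8 = 5) → r = 3 ∨ r = 5 := by
    intro k r hr h
    have hodd : r % 2 = 1 := by
      by_contra h2
      rcases Nat.eq_zero_or_pos k with rfl | hk0
      · simp at h
      · have : 2 ∣ r ^ k % 8 := (Nat.dvd_mod_iff (by norm_num)).2 (dvd_pow (by omega) hk0.ne')
        omega
    have hsq : r * r % 8 = 1 := by interval_cases r <;> omega
    rcases Nat.even_or_odd' k with ⟨j, rfl | rfl⟩
    · rw [pow_mul, Nat.pow_mod, pow_two, hsq, one_pow] at h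
      norm_num at h
    · rw [pow_succ, Nat.mul_mod, pow_mul, Nat.pow_mod, pow_two, hsq, one_pow] at h
      norm_num at h
      rw [Nat.mod_eq_of_lt hr] at h
      exact h
  exact key k _ hlt h8

/-- `SL₂(F₀) → PSL₂(F)`. -/
noncomputable def j0 : Matrix.SpecialLinearGroup (Fin 2) C.F0 →*
    Matrix.ProjectiveSpecialLinearGroup (Fin 2) F :=
  PSL2.pr.comp (Matrix.SpecialLinearGroup.map C.F0.subtype)

theorem j0_ker : (C.j0).ker = Subgroup.center (Matrix.SpecialLinearGroup (Fin 2) C.F0) := by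
  ext A
  rw [MonoidHom.mem_ker, j0, MonoidHom.comp_apply, ← map_one PSL2.pr, PSL2.pr_eq_iff, SL2C.mem_center_iff]
  constructor
  · rintro ⟨ε, hε, h⟩
    have he : ε = C.F0.subtype (A.1 0 0) := by simpa using (congrFun (congrFun h 0) 0).symm
    refine ⟨A.1 0 0, Matrix.ext fun i j => C.F0.subtype.injective ?_⟩
    have := congrFun (congrFun h i) j
    rw [he] at this
    fin_cases i <;> fin_cases j <;> simpa using this
  · rintro ⟨c, hc⟩
    refine ⟨C.F0.subtype c, ?_, ?_⟩
    · rw [← map_mul, ← map_one C.F0.subtype]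
      congr 1
      have hd := A.2
      rw [hc, Matrix.det_smul, Matrix.det_one, mul_one, Fintype.card_fin, pow_two] at hd
      exact hd
    · show A.1.map C.F0.subtype = _
      rw [hc]
      ext i j
      fin_cases i <;> fin_cases j <;> simp

theorem j0_range {A : Matrix.SpecialLinearGroup (Fin 2) F}
    (h : ∀ f : C.Phi, PSL2.fieldP (C.alpha f) (PSL2.pr A) = PSL2.pr A) :
    PSL2.pr A ∈ (C.j0).range := by
  have hfix : ∀ f : C.Phi, ∀ i j, C.alpha f (A.1 i j) = A.1 i j := by
    intro f i j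
    set σ := C.alpha f with hσ
    obtain ⟨ε, hε, he⟩ := (PSL2.pr_eq_iff _ _).1 (h f)
    have he' : ∀ i j, σ (A.1 i j) = ε * A.1 i j := fun i j => by
      have := congrFun (congrFun he i) j
      rw [Matrix.smul_apply, smul_eq_mul] at this
      exact this
    have hσε : σ ε = ε := by
      rcases mul_self_eq_one_iff.1 hε with rfl | rfl <;> simp
    have hpow : ∀ k : ℕ, (σ ^ k) (A.1 i j) = ε ^ k * A.1 i j := by
      intro k
      induction k with
      | zero => simp
      | succ k ih =>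
        rw [pow_succ' σ, RingAut.mul_apply, ih, map_mul, map_pow, hσε, he', pow_succ]
        ring
    rcases mul_self_eq_one_iff.1 hε with rfl | rfl
    · rw [he', one_mul]
    have ho : Odd (orderOf σ) := C.odd.of_dvd_nat ((orderOf_map_dvd _ f).trans (_root_.orderOf_dvd_natCard f))
    have h1 := hpow (orderOf σ)
    rw [pow_orderOf_eq_one, ho.neg_one_pow, RingAut.one_apply] at h1
    have h0 : A.1 i j = 0 := by
      rcases mul_eq_zero.1 (show (2 : F) * A.1 i j = 0 by linear_combination h1) with h | h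
      · exact absurd h C.two_ne
      · exact h
    rw [h0, map_zero]
  refine ⟨⟨Matrix.of fun i j => ⟨A.1 i j, fun f => hfix f i j⟩, C.F0.subtype.injective ?_⟩, ?_⟩
  · rw [RingHom.map_det, map_one]
    exact A.2
  · exact congrArg PSL2.pr (Subtype.ext rfl)

theorem j0_fix (A : Matrix.SpecialLinearGroup (Fin 2) C.F0) (f : C.Phi) :
    PSL2.fieldP (C.alpha f) (C.j0 A) = C.j0 A :=
  Solv.Partition.AutPSL.fieldP_fix fun i j => (A.1 i j).2 f

/-- The fixed points of `Φ` in `L`. -/
def L0 : Subgroup C.L where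
  carrier := {x | ∀ f ∈ C.PhiG, Commute f (C.embL x)}
  one_mem' := fun f _ => by rw [map_one]; exact Commute.one_right f
  mul_mem' := fun ha hb f hf => by rw [map_mul]; exact (ha f hf).mul_right (hb f hf)
  inv_mem' := fun ha f hf => by rw [map_inv]; exact (ha f hf).inv_right

theorem mem_L0 {x : C.L} : x ∈ C.L0 ↔ C.iso x ∈ (C.j0).range := by
  constructor
  · intro hx
    obtain ⟨A, hA⟩ := PSL2.pr_surjective (C.iso x)
    rw [← hA]
    refine C.j0_range fun f => ?_
    have h := C.conj_embL f x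
    rw [(hx ((f : C.S.K) : G) ⟨(f : C.S.K), f.2, rfl⟩).eq, mul_inv_cancel_right] at h
    have h' := congrArg C.iso (C.embL_inj h)
    rw [C.iso.apply_symm_apply, ← hA] at h'
    exact h'.symm
  · rintro ⟨A, hA⟩ f hf
    obtain ⟨a, ha, rfl⟩ := hf
    have h := C.conj_embL ⟨a, ha⟩ x
    rw [← hA, C.j0_fix, hA, C.iso.symm_apply_apply, mul_inv_eq_iff_eq_mul] at h
    exact h

theorem L0_iso :
    Nonempty (C.L0 ≃* Matrix.ProjectiveSpecialLinearGroup (Fin 2) C.F0) := by
  let g : C.L0 →* (C.j0).range :=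
    ((C.iso.toMonoidHom).comp C.L0.subtype).codRestrict _ fun x => C.mem_L0.1 x.2
  have hg : Function.Bijective g := by
    refine ⟨fun a b h => Subtype.ext (C.iso.injective (congrArg Subtype.val h)), fun y => ?_⟩
    exact ⟨⟨C.iso.symm y, C.mem_L0.2 (by rw [C.iso.apply_symm_apply]; exact y.2)⟩,
      Subtype.ext (C.iso.apply_symm_apply _)⟩
  exact ⟨(MulEquiv.ofBijective g hg).trans
    ((QuotientGroup.quotientKerEquivRange C.j0).symm.trans (QuotientGroup.quotientMulEquivOfEq C.j0_ker))⟩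

/-- A non-trivial element of `B₀` forces `q₀ > 5`. -/
theorem F0_q5 {y : G} (hy : y ∈ C.B0) (hy1 : y ≠ 1) : 5 < Nat.card C.F0 := by
  classical
  obtain ⟨hyB, hyc⟩ := Subgroup.mem_inf.1 hy
  obtain ⟨y0, hy0, rfl⟩ := hyB
  have h0 : y0 ∈ C.L0 := fun f hf => mem_centralizer_iff.1 hyc f hf
  obtain ⟨A, hA⟩ := C.mem_L0.1 h0
  by_contra hle
  rw [Nat.card_eq_fintype_card] at hle
  have h8 := C.F0_q8
  rw [Nat.card_eq_fintype_card] at h8
  apply hy1
  rw [show y0 = 1 from ?_, map_one]
  -- the lift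
  have hw : C.iso C.D.s = C.j0 (PSL2.wS : Matrix.SpecialLinearGroup (Fin 2) C.F0) := by
    rw [C.D_s, j0, MonoidHom.comp_apply]
    congr 1
    apply Subtype.ext
    ext i j
    fin_cases i <;> fin_cases j <;> simp [Matrix.SpecialLinearGroup.map] <;> rfl
  have hcomm : C.j0 (A * PSL2.wS) = C.j0 (PSL2.wS * A) := by
    rw [map_mul, map_mul, hA, ← hw, ← map_mul, ← map_mul, C.D.B_s y0 hy0]
  rw [← inv_mul_eq_one, ← map_inv, ← map_mul, ← MonoidHom.mem_ker, C.j0_ker, SL2C.mem_center_iff] at hcomm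
  obtain ⟨c, hc⟩ := hcomm
  have hcc : c * c = 1 := by
    have hd := ((A * PSL2.wS)⁻¹ * (PSL2.wS * A)).2
    rw [hc, Matrix.det_smul, Matrix.det_one, mul_one, Fintype.card_fin, pow_two] at hd
    exact hd
  have he : (PSL2.wS * A).1 = c • (A * PSL2.wS).1 := by
    conv_lhs => rw [← mul_inv_cancel_left (A * PSL2.wS) (PSL2.wS * A)]
    rw [PSL2.val_mul (A * PSL2.wS), hc, mul_smul_comm, mul_one]
  have hX : (A * A).1 * PSL2.wS.1 = PSL2.wS.1 * (A * A).1 := by
    rw [PSL2.val_mul, PSL2.val_mul] at he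
    rw [PSL2.val_mul, ← mul_assoc PSL2.wS.1, he, smul_mul_assoc, mul_assoc A.1 PSL2.wS.1, he, mul_smul_comm,
      smul_smul, hcc, one_smul, mul_assoc]
  set X := A * A with hXdef
  have e00 := congrFun (congrFun hX 0) 0
  have e01 := congrFun (congrFun hX 0) 1
  simp [Matrix.mul_apply, Fin.sum_univ_two] at e00 e01
  have hdet := PSL2.det_two X
  have hsum : X.1 0 0 * X.1 0 0 + X.1 0 1 * X.1 0 1 = 1 := by
    linear_combination hdet + X.1 0 0 * e01 - X.1 0 1 * e00
  have h2 : (2 : C.F0) ≠ 0 := fun h => C.two_ne (by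
    have := congrArg C.F0.subtype h
    rwa [map_ofNat, map_zero] at this)
  have hprod : X.1 0 0 = 0 ∨ X.1 0 1 = 0 := by
    by_contra hne
    push Not at hne
    obtain ⟨ha, hb⟩ := hne
    have pa := FiniteField.pow_card_sub_one_eq_one _ ha
    have pb := FiniteField.pow_card_sub_one_eq_one _ hb
    rcases (show Fintype.card C.F0 = 3 ∨ Fintype.card C.F0 = 5 by omega) with hq | hq <;> rw [hq] at pa pb
    · exact one_ne_zero (show (1 : C.F0) = 0 by linear_combination hsum - pa - pb)
    · have h3 : (3 : C.F0) ≠ 0 := by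
        intro h3
        have h5 : (5 : C.F0) = 0 := by
          have := FiniteField.cast_card_eq_zero C.F0
          rw [hq] at this
          exact_mod_cast this
        exact one_ne_zero (show (1 : C.F0) = 0 by linear_combination 2 * h3 - h5)
      have sa : X.1 0 0 * X.1 0 0 = 1 ∨ X.1 0 0 * X.1 0 0 = -1 :=
        mul_self_eq_one_iff.1 (by linear_combination pa)
      have sb : X.1 0 1 * X.1 0 1 = 1 ∨ X.1 0 1 * X.1 0 1 = -1 :=
        mul_self_eq_one_iff.1 (by linear_combination pb)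
      rcases sa with sa | sa <;> rcases sb with sb | sb <;> rw [sa, sb] at hsum
      · exact one_ne_zero (show (1 : C.F0) = 0 by linear_combination hsum)
      · exact one_ne_zero (show (1 : C.F0) = 0 by linear_combination -hsum)
      · exact one_ne_zero (show (1 : C.F0) = 0 by linear_combination -hsum)
      · exact h3 (by linear_combination -hsum)
  have hX4 : X ^ 4 = 1 := by
    have hsq := SL2C.sq_eq X
    have hX2 : X.1 * X.1 = 1 ∨ X.1 * X.1 = -1 := by
      rcases hprod with h | h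
      · right
        have htr : X.1.trace = 0 := by rw [Matrix.trace_fin_two, h, ← e01, h, add_zero]
        rw [hsq, htr, zero_smul, zero_sub]
      · left
        have h10 : X.1 1 0 = 0 := by linear_combination -h - e00
        rw [h] at hsum
        ext i j
        fin_cases i <;> fin_cases j <;> simp [Matrix.mul_apply, Fin.sum_univ_two, h, h10, ← e01] <;>
          first | linear_combination hsum | simpa using congrArg Subtype.val hsum
    apply Subtype.ext
    rw [show 4 = 2 * 2 from rfl, pow_mul, pow_two, pow_two, PSL2.val_mul, PSL2.val_mul]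
    rcases hX2 with h | h <;> rw [h] <;> simp
  have h8' : y0 ^ 8 = 1 := C.iso.injective (by
    rw [map_pow, map_one, ← hA, ← map_pow, show 8 = 2 * 4 from rfl, pow_mul, pow_two, ← hXdef, hX4, map_one])
  refine orderOf_eq_one_iff.1 (Nat.eq_one_of_dvd_coprimes ?_ dvd_rfl (orderOf_dvd_of_pow_eq_one h8'))
  exact (Nat.Coprime.pow_right 3 (Nat.coprime_two_right.2 (C.D.B_odd hy0)) : Nat.Coprime _ (2 ^ 3))

/-- An element of `C(Φ)` centralising `1 ≠ y ∈ B₀` centralises `t`. -/
theorem fixed_cent {y : G} (hy : y ∈ C.B0) (hy1 : y ≠ 1) {n : G} (hn : n ∈ centralizer (C.PhiG : Set G))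
    (hny : n * y = y * n) : n * C.S.t = C.S.t * n := by
  classical
  haveI := Fact.mk Nat.prime_two
  set X := centralizer (C.PhiG : Set G) with hX
  have hPX : C.PhiG ≤ X := fun f hf => mem_centralizer_iff.2 fun g hg => C.Phi_comm hg hf
  set N : Subgroup X := C.PhiG.subgroupOf X with hN
  haveI hNn : N.Normal := ⟨fun a ha x => by
    rw [hN, mem_subgroupOf] at ha ⊢
    have : (x : G) * a * (x : G)⁻¹ = a := by
      rw [(mem_centralizer_iff.1 x.2 _ ha).symm, mul_inv_cancel_right]
    show ((x * a * x⁻¹ : X) : G) ∈ C.PhiG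
    rw [Subgroup.coe_mul, Subgroup.coe_mul, Subgroup.coe_inv, this]
    exact ha⟩
  let π : X →* X ⧸ N := QuotientGroup.mk' N
  have hπ : ∀ a b : X, π a = π b ↔ (a : G)⁻¹ * b ∈ C.PhiG := fun a b => by
    rw [QuotientGroup.mk'_apply, QuotientGroup.mk'_apply, QuotientGroup.eq, hN, mem_subgroupOf]
    rfl
  have htX : C.S.t ∈ X := mem_centralizer_iff.2 fun f hf => C.Phi_t hf
  let tX : X := ⟨C.S.t, htX⟩
  -- lifting of centralisers of `t`
  have lift_t : ∀ x : X, π x * π tX = π tX * π x → (x : G) * C.S.t = C.S.t * x := by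
    intro x hx
    rw [← map_mul, ← map_mul, hπ] at hx
    set f := ((x * tX : X) : G)⁻¹ * ((tX * x : X) : G) with hf
    have hxf : C.S.t * (x : G) = x * C.S.t * f := by
      rw [hf, Subgroup.coe_mul, Subgroup.coe_mul]; simp only [tX]; group
    have hfx : Commute f (x : G) := mem_centralizer_iff.1 x.2 f hx
    have hft : Commute f C.S.t := C.Phi_t hx
    have e : f * f = 1 := by
      have h2 : C.S.t * (C.S.t * (x : G)) = x := by rw [← mul_assoc, C.S.sq_t, one_mul]
      rw [hxf] at h2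
      have h3 : C.S.t * ((x : G) * C.S.t * f) = (x : G) * (f * f) := by
        calc C.S.t * ((x : G) * C.S.t * f) = C.S.t * (x : G) * (C.S.t * f) := by group
          _ = x * C.S.t * f * (C.S.t * f) := by rw [hxf]
          _ = x * C.S.t * (f * C.S.t) * f := by group
          _ = x * (C.S.t * C.S.t) * (f * f) := by rw [hft.eq]; group
          _ = x * (f * f) := by rw [C.S.sq_t, mul_one]
      rw [h2] at h3
      exact left_eq_mul.1 h3
    have hf1 : f = 1 := eq_one_of_inv_eq (C.Phi_odd hx) (inv_eq_of_mul_eq_one_left e)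
    rw [hf1, mul_one] at hxf
    exact hxf.symm
  -- the image of `L₀`
  let ι : C.L0 →* X := (C.embL.comp C.L0.subtype).codRestrict X fun x => mem_centralizer_iff.2 fun f hf => (x.2 f hf).eq
  let κ : C.L0 →* X ⧸ N := π.comp ι
  have κinj : Function.Injective κ := fun a b h => by
    have h' := (hπ _ _).1 h
    have : C.embL ((a : C.L)⁻¹ * b) ∈ C.PhiG := by rw [map_mul, map_inv]; exact h'
    exact Subtype.ext (inv_mul_eq_one.1 (C.L_inter_Phi this))
  have ht2 : π tX * π tX = 1 := by
    rw [← map_mul, show tX * tX = 1 from Subtype.ext C.S.sq_t, map_one]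
  have htne : π tX ≠ 1 := fun h => by
    rw [← map_one π, hπ] at h
    have := C.Phi_odd (show C.S.t ∈ C.PhiG by simpa [tX] using h)
    rw [C.S.ht] at this
    exact absurd this (by norm_num)
  have hto : orderOf (π tX) = 2 := orderOf_eq_prime (by rw [pow_two, ht2]) htne
  have tκ : ∀ a : C.L0, Commute (π tX) (κ a) := fun a => by
    show π tX * π (ι a) = π (ι a) * π tX
    rw [← map_mul, ← map_mul, show tX * ι a = ι a * tX from Subtype.ext (C.embL_t a.1).symm]
  have hdir : Cfsg.IsInternalDirectProduct (zpowers (π tX)) κ.range (centralizer ({π tX} : Set (X ⧸ N))) := by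
    have le1 : zpowers (π tX) ≤ centralizer {π tX} := zpowers_le.2 (mem_centralizer_singleton_iff.2 rfl)
    have le2 : κ.range ≤ centralizer {π tX} := by
      rintro _ ⟨a, rfl⟩
      exact mem_centralizer_singleton_iff.2 (tκ a).symm.eq
    refine ⟨le1, le2, ?_, ?_, ?_⟩
    · rintro a ha _ ⟨b, rfl⟩
      obtain ⟨k, rfl⟩ := mem_zpowers_iff.1 ha
      exact ((tκ b).zpow_left k).eq
    · rw [eq_bot_iff]
      rintro a ⟨ha, b, rfl⟩
      rw [mem_bot]
      obtain ⟨k, hk⟩ := mem_zpowers_iff.1 ha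
      rcases Int.even_or_odd k with ⟨j, rfl⟩ | ⟨j, rfl⟩
      · rw [← hk, ← two_mul, zpow_mul, zpow_two, ht2, one_zpow]
      · exfalso
        rw [zpow_add_one, zpow_mul, zpow_two, ht2, one_zpow, one_mul] at hk
        have h := (hπ tX (ι b)).1 hk
        refine C.S.t_not_mem ?_
        have : C.S.t = C.embL (b : C.L) * ((C.S.t)⁻¹ * C.embL (b : C.L))⁻¹ := by group
        rw [this]
        exact mul_mem (C.embL_mem_K _) (inv_mem (C.Phi_K h))
    · refine le_antisymm (sup_le le1 le2) fun z hz => ?_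
      obtain ⟨x, rfl⟩ := QuotientGroup.mk'_surjective N z
      obtain ⟨v, hv, l, f, hf, e⟩ := C.cent_t (lift_t x (mem_centralizer_singleton_iff.1 hz))
      have hvX : v ∈ X := by rcases hv with rfl | rfl; exacts [one_mem _, htX]
      have hl : l ∈ C.L0 := fun f' hf' => by
        have hx : Commute f' (v⁻¹ * (x : G) * f⁻¹) :=
          (((show Commute f' v from mem_centralizer_iff.1 hvX f' hf').inv_right).mul_right
            (mem_centralizer_iff.1 x.2 f' hf')).mul_right (show Commute f' f from C.Phi_comm hf' hf).inv_right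
        rwa [e, show v⁻¹ * (v * C.embL l * f) * f⁻¹ = C.embL l by group] at hx
      have hx : π x = π ⟨v, hvX⟩ * κ ⟨l, hl⟩ := by
        show π x = π ⟨v, hvX⟩ * π (ι ⟨l, hl⟩)
        rw [← map_mul, hπ]
        show (x : G)⁻¹ * (v * C.embL l) ∈ C.PhiG
        rw [e, show (v * C.embL l * f)⁻¹ * (v * C.embL l) = f⁻¹ by group]
        exact inv_mem hf
      show π x ∈ _
      rw [hx]
      refine mul_mem (mem_sup_left ?_) (mem_sup_right ⟨_, rfl⟩)
      rcases hv with rfl | rfl
      · rw [show (⟨1, hvX⟩ : X) = 1 from rfl, map_one]; exact one_mem _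
      · exact mem_zpowers _
  let S' : Split (X ⧸ N) := ⟨π tX, κ.range, hto, hdir⟩
  have hSX : C.Syl ≤ X := fun a ha => mem_centralizer_iff.2 fun f hf => (C.Syl_Phi ha hf).eq
  let P : Sylow 2 X := C.sylow.subtype hSX
  have hconj' : ∀ z : X ⧸ N, orderOf z = 2 → IsConj (π tX) z := by
    intro z hz
    obtain ⟨x, rfl⟩ := QuotientGroup.mk'_surjective N z
    have hz2 : π x * π x = 1 := by rw [← pow_two, ← hz]; exact pow_orderOf_eq_one _
    obtain ⟨m, hm⟩ := C.odd
    set k := 2 * m + 1 with hk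
    have hxk : π (x ^ k) = π x := by
      rw [map_pow, hk, pow_succ, pow_mul, pow_two, hz2, one_pow, one_mul]
    have hx2 : (x : G) * x ∈ C.PhiG := by
      have h := (hπ 1 (x * x)).1 (by rw [map_one, map_mul, hz2])
      simpa using h
    have hxk2 : (x ^ k) * (x ^ k) = 1 := by
      rw [← (Commute.refl x).mul_pow k]
      apply Subtype.ext
      show ((x : G) * x) ^ k = 1
      rw [← hm, show Nat.card C.Phi = Nat.card C.PhiG from C.card_PhiG.symm]
      exact congrArg Subtype.val (pow_card_eq_one' (x := (⟨_, hx2⟩ : C.PhiG)))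
    have hxk1 : x ^ k ≠ 1 := fun e => by
      rw [e, map_one] at hxk
      rw [← hxk, orderOf_one] at hz
      omega
    obtain ⟨T, hT⟩ := (IsPGroup.of_card (p := 2) (n := 1) (G := zpowers (x ^ k)) (by
      rw [Nat.card_zpowers, pow_one]
      exact orderOf_eq_prime (by rw [pow_two]; exact hxk2) hxk1)).exists_le_sylow
    obtain ⟨c, hc⟩ := MulAction.exists_smul_eq X T P
    have h1 : c * x ^ k * c⁻¹ ∈ (P : Subgroup X) := by
      rw [← hc, Sylow.coe_subgroup_smul]; exact ⟨_, hT (mem_zpowers _), rfl⟩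
    obtain ⟨a, ha, hat⟩ := C.exists_NS (mem_subgroupOf.1 h1) (C.V_le_Syl C.t_mem_V)
      (fun e => hxk1 (conj_eq_one_iff.1 (Subtype.ext e : c * x ^ k * c⁻¹ = 1))) C.t_ne
    have haX : a ∈ X := mem_centralizer_iff.2 fun f hf => (C.NS_fix ha hf).symm
    refine (isConj_iff.2 ⟨π (⟨a, haX⟩ * c), ?_⟩ : IsConj (π x) (π tX)).symm
    rw [← hxk, ← map_inv, ← map_mul, ← map_mul]
    congr 1
    apply Subtype.ext
    show a * (c : G) * ((x ^ k : X) : G) * (a * (c : G))⁻¹ = C.S.t
    rw [← hat]
    simp only [Subgroup.coe_mul, Subgroup.coe_inv, Subgroup.coe_pow]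
    group
  have hab' : ∀ Q : Sylow 2 (X ⧸ N), ∀ a b : Q, a * b = b * a := by
    intro Q
    obtain ⟨R, rfl⟩ := Sylow.mapSurjective_surjective (QuotientGroup.mk'_surjective N) 2 Q
    rintro ⟨_, a, ha, rfl⟩ ⟨_, b, hb, rfl⟩
    refine Subtype.ext ?_
    show π a * π b = π b * π a
    rw [← map_mul, ← map_mul]
    congr 1
    exact Subtype.ext (Solv.AbelianTwo.commute_of_mem C.hab (R.2.map X.subtype) ⟨a, ha, rfl⟩ ⟨b, hb, rfl⟩).eq
  obtain ⟨eL⟩ := C.L0_iso
  have hyp : Hyp S' C.F0 :=
    { iso := ⟨(MonoidHom.ofInjective κinj).symm.trans eL⟩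
      q8 := by have := C.F0_q8; rwa [Nat.card_eq_fintype_card] at this
      q5 := by have := C.F0_q5 hy hy1; rwa [Nat.card_eq_fintype_card] at this
      hconj := hconj'
      hab := hab' }
  obtain ⟨hyB, hyc⟩ := Subgroup.mem_inf.1 hy
  obtain ⟨y0, hy0, rfl⟩ := hyB
  have hy0L : y0 ∈ C.L0 := fun f hf => mem_centralizer_iff.1 hyc f hf
  have hsL : C.D.s ∈ C.L0 := fun f hf => C.s_fix hf
  have hy01 : y0 ≠ 1 := fun e => hy1 (by rw [e, map_one])
  have main := localFpf (X ⧸ N) S' C.F0 hyp (κ ⟨_, hsL⟩) (κ ⟨_, hy0L⟩) ⟨_, rfl⟩ ⟨_, rfl⟩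
    (by rw [orderOf_injective κ κinj, Subgroup.orderOf_mk, C.D.hs])
    (by
      rw [← map_mul, ← map_mul]
      exact congrArg κ (Subtype.ext (C.D.B_s y0 hy0).symm))
    (by rw [orderOf_injective κ κinj, Subgroup.orderOf_mk]; exact C.D.B_odd hy0)
    (fun e => hy01 (congrArg Subtype.val (κinj (e.trans (map_one κ).symm))))
  refine lift_t ⟨n, hn⟩ (mem_centralizer_singleton_iff.1 (main (x := π ⟨n, hn⟩) ?_))
  rw [mem_centralizer_singleton_iff]
  show π _ * π (ι ⟨y0, hy0L⟩) = π (ι ⟨y0, hy0L⟩) * π _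
  rw [← map_mul, ← map_mul]
  exact congrArg π (Subtype.ext hny)

end Frame

end Cfsg.Agent.Walter.JR
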