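import Cfsg.Agent.Lib.Walter.JR.Psi
import Cfsg.Agent.Lib.Walter.JR.Quot
import Cfsg.Agent.Lib.Char.ReeOrder.Assemble

/-!
# The invariant characters of `B` under the rotation, and the products of the coordinates in `G`

A character of `B` fixed by `Φ` is determined by its restriction to `B₀`, on which the rotation has no fixed point.
So the invariant non-trivial characters form orbits of length three up to inversion, as in the case `E = L`.
-/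

set_option autoImplicit false
set_option linter.unusedSectionVars false
set_option linter.unusedSimpArgs false
set_option linter.style.haveILetI false
set_option maxHeartbeats 800000

open Cfsg
open scoped ComplexConjugate Classical

namespace Cfsg.Agent.Walter.JR

open Subgroup Cfsg.Agent.Char Cfsg.Agent.Char.ReeThree Cfsg.Agent.Char.ReeOrder

universe u

namespace Frame

variable {G : Type u} [Group G] [Finite G] {F : Type} [Field F] [Fintype F] (C : Frame G F) [Fintype G]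
variable {M : Ideal AlgInt}

/-! ### The fixed points of `Φ` in `B` -/

/-- The elements of `B` fixed by all of `Φ`. -/
def B0K : Subgroup C.D.B where
  carrier := {β | ∀ f, C.bconj f β = β}
  one_mem' := fun f => map_one _
  mul_mem' := fun ha hb f => by rw [map_mul, ha f, hb f]
  inv_mem' := fun ha f => by rw [map_inv, ha f]

theorem B0K_G {β : C.D.B} : β ∈ C.B0K ↔ C.embL (β : C.L) ∈ C.B0 := by
  have e : ∀ f : C.Phi, C.embL ((C.bconj f β : C.D.B) : C.L) =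
      ((f : C.S.K) : G) * C.embL (β : C.L) * ((f : C.S.K) : G)⁻¹ := fun f => by
    rw [← C.bK_G, ← C.bconj_spec]; rfl
  constructor
  · intro h
    refine Subgroup.mem_inf.2 ⟨⟨_, β.2, rfl⟩, mem_centralizer_iff.2 ?_⟩
    rintro _ ⟨f, hf, rfl⟩
    have := e ⟨f, hf⟩
    rw [h ⟨f, hf⟩, eq_mul_inv_iff_mul_eq] at this
    exact this.symm
  · intro h f
    refine Subtype.ext (C.embL_inj ?_)
    have hc : ((f : C.S.K) : G) * C.embL (β : C.L) = C.embL (β : C.L) * ((f : C.S.K) : G) :=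
      mem_centralizer_iff.1 (Subgroup.mem_inf.1 h).2 _ ⟨(f : C.S.K), f.2, rfl⟩
    rw [e, hc, mul_inv_cancel_right]

theorem exists_fixed (h0 : C.B0 ≠ ⊥) : ∃ β ∈ C.B0K, β ≠ 1 := by
  obtain ⟨x, hx, hx1⟩ : ∃ x ∈ C.B0, x ≠ 1 := by
    by_contra h
    push Not at h
    exact h0 ((eq_bot_iff_forall _).2 h)
  obtain ⟨b, hb, rfl⟩ := (Subgroup.mem_inf.1 hx).1
  exact ⟨⟨b, hb⟩, C.B0K_G.2 hx, fun e => hx1 (by rw [show b = 1 from congrArg Subtype.val e, map_one])⟩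

theorem Inv_cj {θ : C.D.B →* ℂˣ} (hθ : C.Inv θ) (f : C.Phi) (β : C.D.B) : θ (C.bconj f β) = θ β :=
  DFunLike.congr_fun (C.inv_cj hθ f) β

/-- The product of the conjugates. -/
noncomputable def nrm : C.D.B →* C.D.B :=
  letI : CommGroup C.D.B := { (inferInstance : Group C.D.B) with mul_comm := C.B_comm' }
  ∏ f : C.Phi, C.bconj f

theorem nrm_apply (β : C.D.B) : C.nrm β =
    letI : CommGroup C.D.B := { (inferInstance : Group C.D.B) with mul_comm := C.B_comm' }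
    ∏ f : C.Phi, C.bconj f β :=
  letI : CommGroup C.D.B := { (inferInstance : Group C.D.B) with mul_comm := C.B_comm' }
  MonoidHom.finsetProd_apply _ _ β

theorem nrm_bconj (g : C.Phi) (β : C.D.B) : C.nrm (C.bconj g β) = C.nrm β := by
  letI : CommGroup C.D.B := { (inferInstance : Group C.D.B) with mul_comm := C.B_comm' }
  rw [C.nrm_apply, C.nrm_apply]
  exact Fintype.prod_equiv (Equiv.mulRight g) _ _ fun f => (C.bconj_mul f g β).symm

theorem nrm_mem (β : C.D.B) : C.nrm β ∈ C.B0K := fun g => by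
  letI : CommGroup C.D.B := { (inferInstance : Group C.D.B) with mul_comm := C.B_comm' }
  rw [C.nrm_apply, map_prod]
  exact Fintype.prod_equiv (Equiv.mulLeft g) _ _ fun f => (C.bconj_mul g f β).symm

theorem nrm_fixed {β : C.D.B} (hβ : β ∈ C.B0K) : C.nrm β = β ^ C.e := by
  letI : CommGroup C.D.B := { (inferInstance : Group C.D.B) with mul_comm := C.B_comm' }
  rw [C.nrm_apply, Finset.prod_congr rfl fun f _ => hβ f, Finset.prod_const, Finset.card_univ,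
    ← Nat.card_eq_fintype_card]

theorem theta_nrm {θ : C.D.B →* ℂˣ} (hθ : C.Inv θ) (β : C.D.B) : θ (C.nrm β) = θ β ^ C.e := by
  letI : CommGroup C.D.B := { (inferInstance : Group C.D.B) with mul_comm := C.B_comm' }
  rw [C.nrm_apply, map_prod, Finset.prod_congr rfl fun f _ => C.Inv_cj hθ f β, Finset.prod_const, Finset.card_univ,
    ← Nat.card_eq_fintype_card]

theorem eq_one_of_pow {β : C.D.B} (hco : C.e.Coprime C.D.b) (h : β ^ C.e = 1) : β = 1 := by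
  have hb : β ^ C.D.b = 1 := C.D.card_B ▸ pow_card_eq_one'
  have := pow_gcd_eq_one.mpr ⟨h, hb⟩
  rwa [hco.gcd_eq_one, pow_one] at this

/-- An invariant character trivial on the fixed points is trivial. -/
theorem Inv_eq_one (hco : C.e.Coprime C.D.b) {θ : C.D.B →* ℂˣ} (hθ : C.Inv θ) (h : ∀ β ∈ C.B0K, θ β = 1) :
    θ = 1 := by
  refine MonoidHom.ext fun β => ?_
  have h1 : θ β ^ C.e = 1 := by rw [← C.theta_nrm hθ, h _ (C.nrm_mem β)]
  have h2 : θ β ^ C.D.b = 1 := by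
    rw [← map_pow, show β ^ C.D.b = 1 from C.D.card_B ▸ pow_card_eq_one', map_one]
  have := pow_gcd_eq_one.mpr ⟨h1, h2⟩
  rwa [hco.gcd_eq_one, pow_one] at this

theorem exists_theta0 (h0 : C.B0 ≠ ⊥) (hco : C.e.Coprime C.D.b) : ∃ θ : C.D.B →* ℂˣ, θ ≠ 1 ∧ C.Inv θ := by
  obtain ⟨y0, hy0, hy1⟩ := C.exists_fixed h0
  letI : CommGroup C.D.B := { (inferInstance : Group C.D.B) with mul_comm := C.B_comm' }
  haveI : NeZero (Monoid.exponent C.D.B) := ⟨Monoid.exponent_ne_zero_of_finite⟩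
  have hne : y0 ^ C.e ≠ 1 := fun e => hy1 (C.eq_one_of_pow hco e)
  obtain ⟨χ, hχ⟩ := CommGroup.exists_apply_ne_one_of_hasEnoughRootsOfUnity C.D.B ℂ hne
  refine ⟨χ.comp C.nrm, fun e => hχ ?_, eq_top_iff.2 fun f _ => C.mem_stab.2 (MonoidHom.ext fun β => ?_)⟩
  · rw [← C.nrm_fixed hy0]
    exact DFunLike.congr_fun e y0
  · exact congrArg χ (C.nrm_bconj f β)

namespace Rot

variable {C} (R : C.Rot)

theorem rB_B0K {β : C.D.B} (hβ : β ∈ C.B0K) : R.rB β ∈ C.B0K := fun f => by rw [← R.rB_bconj, hβ f]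

theorem rB_moved {β : C.D.B} (hβ : β ∈ C.B0K) (h : R.rB β = β) : β = 1 := by
  by_contra hne
  refine R.moved (C.B0K_G.1 hβ) (C.emb_ne hne) ?_
  rw [← mul_inv_eq_iff_eq_mul, R.rB_spec, h]

theorem Inv_comp {θ : C.D.B →* ℂˣ} (hθ : C.Inv θ) : C.Inv (θ.comp R.rB) := by
  show C.stab (θ.comp R.rB) = ⊤
  rw [R.stab_comp]; exact hθ

theorem comp_ne_one {θ : C.D.B →* ℂˣ} (hθ : θ ≠ 1) : θ.comp R.rB ≠ 1 := fun e => hθ (MonoidHom.ext fun y => by
  obtain ⟨z, rfl⟩ := R.rB_bij.2 y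
  exact DFunLike.congr_fun e z)

theorem hom_ext_rB {θ φ : C.D.B →* ℂˣ} (h : θ.comp R.rB = φ.comp R.rB) : θ = φ :=
  MonoidHom.ext fun y => by
    obtain ⟨z, rfl⟩ := R.rB_bij.2 y
    exact DFunLike.congr_fun h z

theorem comp_three (θ : C.D.B →* ℂˣ) : ((θ.comp R.rB).comp R.rB).comp R.rB = θ :=
  MonoidHom.ext fun y => congrArg θ (R.rB_three y)

theorem comp_ne (hco : C.e.Coprime C.D.b) {θ : C.D.B →* ℂˣ} (hθ : θ ≠ 1) (hi : C.Inv θ) : θ.comp R.rB ≠ θ := by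
  intro e
  refine hθ (C.Inv_eq_one hco hi fun β hβ => ?_)
  let g : C.B0K → C.B0K := fun y => ⟨R.rB y * (y : C.D.B)⁻¹, mul_mem (R.rB_B0K y.2) (inv_mem y.2)⟩
  have hinj : Function.Injective g := by
    intro a b h
    have h' : R.rB a * (a : C.D.B)⁻¹ = R.rB b * (b : C.D.B)⁻¹ := congrArg Subtype.val h
    refine Subtype.ext (inv_mul_eq_one.1 (R.rB_moved (mul_mem (inv_mem a.2) b.2) ?_))
    rw [map_mul, map_inv]
    calc (R.rB a)⁻¹ * R.rB b = (R.rB a)⁻¹ * (R.rB b * (b : C.D.B)⁻¹) * (b : C.D.B) := by group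
      _ = (R.rB a)⁻¹ * (R.rB a * (a : C.D.B)⁻¹) * (b : C.D.B) := by rw [← h']
      _ = _ := by group
  obtain ⟨z, hz⟩ := (Finite.injective_iff_surjective.1 hinj) ⟨β, hβ⟩
  rw [show β = R.rB z * (z : C.D.B)⁻¹ from (congrArg Subtype.val hz).symm, map_mul, map_inv,
    show θ (R.rB z) = θ z from DFunLike.congr_fun e _, mul_inv_cancel]

theorem comp_mul_ne (hco : C.e.Coprime C.D.b) {θ : C.D.B →* ℂˣ} (hθ : θ ≠ 1) (hi : C.Inv θ) :
    θ * θ.comp R.rB ≠ 1 := by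
  intro e
  apply R.comp_ne hco hθ hi
  have e1 : ∀ y, θ y * θ (R.rB y) = 1 := fun y => DFunLike.congr_fun e y
  refine MonoidHom.ext fun y => ?_
  have a := eq_inv_of_mul_eq_one_right (e1 y)
  have b := eq_inv_of_mul_eq_one_right (e1 (R.rB y))
  have c := eq_inv_of_mul_eq_one_right (e1 (R.rB (R.rB y)))
  rw [R.rB_three, b, a, inv_inv] at c
  rw [MonoidHom.comp_apply, a]
  exact c.symm

theorem dd_comp (θ φ : C.D.B →* ℂˣ) : dd (θ.comp R.rB) (φ.comp R.rB) = dd θ φ := by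
  have e1 : θ.comp R.rB = φ.comp R.rB ↔ θ = φ := ⟨R.hom_ext_rB, fun h => by rw [h]⟩
  have e2 : θ.comp R.rB * φ.comp R.rB = 1 ↔ θ * φ = 1 := by
    refine ⟨fun h => R.hom_ext_rB ?_, fun h => ?_⟩
    · exact MonoidHom.ext fun y => DFunLike.congr_fun h y
    · exact MonoidHom.ext fun y => DFunLike.congr_fun h (R.rB y)
  unfold dd
  split_ifs <;> first | rfl | (exfalso; tauto)

/-- The three characters of an orbit. -/
noncomputable def orb (θ : C.D.B →* ℂˣ) : Fin 3 → (C.D.B →* ℂˣ) :=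
  ![θ, θ.comp R.rB, (θ.comp R.rB).comp R.rB]

theorem orb_ne {θ : C.D.B →* ℂˣ} (hθ : θ ≠ 1) (k : Fin 3) : R.orb θ k ≠ 1 := by
  fin_cases k
  exacts [hθ, R.comp_ne_one hθ, R.comp_ne_one (R.comp_ne_one hθ)]

theorem orb_inv {θ : C.D.B →* ℂˣ} (hθ : C.Inv θ) (k : Fin 3) : C.Inv (R.orb θ k) := by
  fin_cases k
  exacts [hθ, R.Inv_comp hθ, R.Inv_comp (R.Inv_comp hθ)]

theorem dd_tw (θ φ : C.D.B →* ℂˣ) :
    dd θ ((φ.comp R.rB).comp R.rB) = dd (θ.comp R.rB) φ ∧ dd θ (φ.comp R.rB) = dd ((θ.comp R.rB).comp R.rB) φ := by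
  constructor
  · rw [← R.dd_comp θ, R.comp_three]
  · rw [← R.dd_comp θ, ← R.dd_comp (θ.comp R.rB), R.comp_three]

end Rot

theorem dd_symm' (θ φ : C.D.B →* ℂˣ) : dd θ φ = dd φ θ := by
  have : θ * φ = φ * θ := MonoidHom.ext fun y => mul_comm (θ y) (φ y)
  have e1 : θ = φ ↔ φ = θ := eq_comm
  have e2 : θ * φ = 1 ↔ φ * θ = 1 := by rw [this]
  unfold dd
  split_ifs <;> first | rfl | (exfalso; tauto)

theorem dd_self' {θ : C.D.B →* ℂˣ} (hθ : θ ≠ 1) : dd θ θ = 1 := by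
  have : θ * θ ≠ 1 := fun e => hθ (hom_eq_one_of_sq (C.D.card_B.symm ▸ C.D.b_odd) e)
  simp [dd, this]

theorem dd_le' {θ : C.D.B →* ℂˣ} (hθ : θ ≠ 1) (φ : C.D.B →* ℂˣ) : dd θ φ = 0 ∨ dd θ φ = 1 := by
  have hsq : θ * θ ≠ 1 := fun e => hθ (hom_eq_one_of_sq (C.D.card_B.symm ▸ C.D.b_odd) e)
  simp only [dd]
  split_ifs with a b
  · subst a; exact absurd b hsq
  all_goals simp

theorem dd_inv_zero {θ φ : C.D.B →* ℂˣ} (hθ : ¬ C.Inv θ) (hφ : C.Inv φ) : dd θ φ = 0 := by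
  apply Int.cast_injective (α := ℂ)
  rw [dd_cast, C.delta2_inv_zero hθ hφ, Int.cast_zero]

namespace Rot

variable {C} (R : C.Rot)

theorem dd_orb (hco : C.e.Coprime C.D.b) {θ : C.D.B →* ℂˣ} (hθ : θ ≠ 1) (hi : C.Inv θ) (k l : Fin 3) :
    dd (R.orb θ k) (R.orb θ l) = if k = l then 1 else 0 := by
  have hrot : ∀ {ψ : C.D.B →* ℂˣ}, ψ ≠ 1 → C.Inv ψ → dd ψ (ψ.comp R.rB) = 0 := fun h1 h2 => by
    simp [dd, Ne.symm (R.comp_ne hco h1 h2), R.comp_mul_ne hco h1 h2]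
  have n1 := R.comp_ne_one hθ
  have i1 := R.Inv_comp hi
  have h20 : dd ((θ.comp R.rB).comp R.rB) θ = 0 := by
    have h := hrot (R.comp_ne_one n1) (R.Inv_comp i1)
    rwa [R.comp_three] at h
  fin_cases k <;> fin_cases l
  · exact C.dd_self' hθ
  · exact hrot hθ hi
  · exact (C.dd_symm' _ _).trans h20
  · exact (C.dd_symm' _ _).trans (hrot hθ hi)
  · exact C.dd_self' n1
  · exact hrot n1 i1
  · exact h20
  · exact (C.dd_symm' _ _).trans (hrot n1 i1)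
  · exact C.dd_self' (R.comp_ne_one n1)

include R in
theorem card_fixed_mod : Nat.card C.B0K % 3 = 1 := by
  haveI : Fact (Nat.Prime 3) := ⟨Nat.prime_three⟩
  let r : C.B0K → C.B0K := fun y => ⟨R.rB y, R.rB_B0K y.2⟩
  have hr3 : ∀ y, r (r (r y)) = y := fun y => Subtype.ext (R.rB_three _)
  let σ : Equiv.Perm C.B0K := Equiv.ofBijective r
    ⟨fun a b h => Subtype.ext (R.rB_bij.1 (congrArg Subtype.val h)), fun y => ⟨r (r y), hr3 y⟩⟩
  have hσ : σ ^ 3 ^ 1 = 1 := Equiv.ext fun y => by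
    show (σ ^ 3) y = y
    simp only [pow_succ, pow_zero, one_mul, Equiv.Perm.mul_apply]
    exact hr3 y
  have h := Equiv.Perm.card_compl_support_modEq hσ
  have hs : σ.supportᶜ = {1} := by
    ext y
    simp only [Finset.mem_compl, Equiv.Perm.mem_support, not_not, Finset.mem_singleton]
    refine ⟨fun e => Subtype.ext (R.rB_moved y.2 (congrArg Subtype.val e)), fun e => ?_⟩
    subst e
    exact Subtype.ext (map_one R.rB)
  rw [hs, Finset.card_singleton, ← Nat.card_eq_fintype_card] at h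
  exact h.symm

end Rot

/-- The centraliser of `s` among the fixed points of `Φ` in `L`. -/
theorem card_cent_L0 : Nat.card (centralizer ({(⟨C.D.s, fun f hf => C.s_fix hf⟩ : C.L0)} : Set C.L0)) =
    4 * Nat.card C.B0K := by
  set s0 : C.L0 := ⟨C.D.s, fun f hf => C.s_fix hf⟩
  have hfix : ∀ (v : Bool × Bool) (β : C.D.B), C.vq v * (β : C.L) ∈ C.L0 ↔ β ∈ C.B0K := by
    intro v β
    have hcomm : ∀ f : C.Phi, Commute ((f : C.S.K) : G) (C.embL (C.vq v)) := fun f =>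
      congrArg Subtype.val (C.vq_Phi v f)
    constructor
    · intro h
      refine C.B0K_G.2 (Subgroup.mem_inf.2 ⟨⟨_, β.2, rfl⟩, mem_centralizer_iff.2 ?_⟩)
      rintro _ ⟨f, hf, rfl⟩
      have h1 : Commute ((f : C.S.K) : G) (C.embL (C.vq v * (β : C.L))) := h _ ⟨f, hf, rfl⟩
      rw [map_mul] at h1
      have h2 := (hcomm ⟨f, hf⟩).inv_right.mul_right h1
      rwa [inv_mul_cancel_left] at h2
    · intro h
      rintro _ ⟨f, hf, rfl⟩
      rw [map_mul]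
      exact (hcomm ⟨f, hf⟩).mul_right
        (mem_centralizer_iff.1 (Subgroup.mem_inf.1 (C.B0K_G.1 h)).2 _ ⟨f, hf, rfl⟩)
  have hvs : ∀ (v : Bool × Bool) (β : C.D.B), Commute (C.vq v * (β : C.L)) C.D.s := by
    rintro ⟨i, j⟩ β
    have hu : Commute C.uL C.D.s := C.uL_spec.1
    have hvq : Commute (C.vq (i, j)) C.D.s := by
      cases i <;> cases j <;> simp [vq, Commute.one_left]
      · exact hu
      · exact (Commute.refl C.D.s).mul_left hu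
    exact hvq.mul_left (C.D.B_s _ β.2).symm
  have hinj : Function.Injective fun p : (Bool × Bool) × C.D.B => C.vq p.1 * (p.2 : C.L) := by
    rintro ⟨v, β⟩ ⟨v', β'⟩ h
    simp only at h
    obtain rfl : v = v' := C.vq_inj (by
      rw [show (C.vq v)⁻¹ * C.vq v' = ((β * β'⁻¹ : C.D.B) : C.L) by
        rw [Subgroup.coe_mul, Subgroup.coe_inv, inv_mul_eq_iff_eq_mul, ← mul_assoc, h, mul_inv_cancel_right]]
      exact SetLike.coe_mem _)
    rw [Subtype.ext (mul_left_cancel h)]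
  let f : (Bool × Bool) × C.D.B → centralizer ({C.D.s} : Set C.L) := fun p =>
    ⟨C.vq p.1 * (p.2 : C.L), mem_centralizer_singleton_iff.2 (hvs p.1 p.2).eq⟩
  have hf : Function.Bijective f := (Nat.bijective_iff_injective_and_card f).2
    ⟨fun a b h => hinj (congrArg Subtype.val h), by
      rw [Nat.card_prod, C.D.card_B, C.D.card_cent, Nat.card_eq_fintype_card (α := Bool × Bool)]; rfl⟩
  let g : (Bool × Bool) × C.B0K → centralizer ({s0} : Set C.L0) := fun p =>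
    ⟨⟨C.vq p.1 * ((p.2 : C.D.B) : C.L), (hfix _ _).2 p.2.2⟩,
      mem_centralizer_singleton_iff.2 (Subtype.ext (hvs p.1 p.2).eq)⟩
  have hg : Function.Bijective g := by
    constructor
    · intro a b h
      have := hinj (a₁ := (a.1, (a.2 : C.D.B))) (a₂ := (b.1, (b.2 : C.D.B)))
        (congrArg (fun x : centralizer ({s0} : Set C.L0) => ((x : C.L0) : C.L)) h)
      have h1 : a.1 = b.1 := (Prod.ext_iff.1 this).1
      have h2 : (a.2 : C.D.B) = b.2 := (Prod.ext_iff.1 this).2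
      exact Prod.ext h1 (Subtype.ext h2)
    · intro x
      have hx : ((x : C.L0) : C.L) * C.D.s = C.D.s * ((x : C.L0) : C.L) :=
        congrArg Subtype.val (mem_centralizer_singleton_iff.1 x.2)
      obtain ⟨⟨v, β⟩, e⟩ := hf.2 ⟨_, mem_centralizer_singleton_iff.2 hx⟩
      have e' : C.vq v * (β : C.L) = ((x : C.L0) : C.L) := congrArg Subtype.val e
      exact ⟨(v, ⟨β, (hfix v β).1 (e' ▸ (x : C.L0).2)⟩), Subtype.ext (Subtype.ext e')⟩
  rw [← Nat.card_congr (Equiv.ofBijective g hg), Nat.card_prod, Nat.card_eq_fintype_card (α := Bool × Bool)]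
  rfl

theorem b_mod' (R : C.Rot) (h0 : C.B0 ≠ ⊥) : C.D.b % 6 = 1 := by
  obtain ⟨x, hx, hx1⟩ := C.exists_fixed h0
  have h5 : 5 < Fintype.card C.F0 := by
    rw [← Nat.card_eq_fintype_card]; exact C.F0_q5 (C.B0K_G.1 hx) (C.emb_ne hx1)
  have h8 : Fintype.card C.F0 % 8 = 3 ∨ Fintype.card C.F0 % 8 = 5 := by
    rw [← Nat.card_eq_fintype_card]; exact C.F0_q8
  obtain ⟨eL⟩ := C.L0_iso
  obtain ⟨D0⟩ := Psl.exists_kd h8 h5 (F := C.F0)
  obtain ⟨D', -⟩ := exists_kd_map eL D0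
  have hc := C.card_cent_L0
  set s0 : C.L0 := ⟨C.D.s, fun f hf => C.s_fix hf⟩
  obtain ⟨g, hg⟩ := isConj_iff.1 (D'.s_conj s0 (by rw [← Subgroup.orderOf_coe]; exact C.D.hs))
  have hcard : 4 * D'.b = 4 * Nat.card C.B0K := by
    rw [← hc, ← D'.card_cent]
    refine Nat.card_congr (Equiv.subtypeEquiv (MulAut.conj g).toEquiv fun x => ?_)
    rw [mem_centralizer_singleton_iff, mem_centralizer_singleton_iff]
    show _ ↔ MulAut.conj g x * s0 = s0 * MulAut.conj g x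
    rw [show s0 = MulAut.conj g D'.s from hg.symm, ← map_mul, ← map_mul, EquivLike.apply_eq_iff_eq]
  have hB := R.card_fixed_mod
  obtain ⟨k, hk⟩ := C.F0_card
  have hq := C.D.q8
  have hb := C.D.hb
  have hb' := D'.hb
  rw [Nat.card_eq_fintype_card] at hk
  set q0 := Fintype.card C.F0
  set q := Fintype.card F with hqdef
  have hodd : k % 2 = 1 := by
    by_contra hk2
    obtain ⟨j, rfl⟩ : ∃ j, k = 2 * j := ⟨k / 2, by omega⟩
    have : q % 8 = 1 := by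
      rw [hk, pow_mul, Nat.pow_mod, show q0 ^ 2 % 8 = 1 by rw [Nat.pow_mod]; rcases h8 with h | h <;> rw [h]]
      simp
    omega
  obtain ⟨j, rfl⟩ : ∃ j, k = 2 * j + 1 := ⟨k / 2, by omega⟩
  have h38 : q % 8 = q0 % 8 := by
    rw [hk, pow_succ, Nat.mul_mod, pow_mul, Nat.pow_mod,
      show q0 ^ 2 % 8 = 1 by rw [Nat.pow_mod]; rcases h8 with h | h <;> rw [h]]
    simp
  have h3 : q % 3 = q0 % 3 := by
    rw [hk, Nat.pow_mod]
    rcases (show q0 % 3 = 0 ∨ q0 % 3 = 1 ∨ q0 % 3 = 2 by omega) with h | h | h <;> rw [h]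
    · simp
    · simp
    · rw [pow_succ, Nat.mul_mod, pow_mul, Nat.pow_mod]; norm_num
  have hbo := Nat.odd_iff.1 C.D.b_odd
  have hbo' := Nat.odd_iff.1 D'.b_odd
  rcases C.D.hε with e | e <;> rcases D'.hε with e' | e' <;> rw [e] at hb <;> rw [e'] at hb' <;> omega

/-! ### Coordinates -/

/-- `z ↦ χ (t z)`. -/
noncomputable def tf (χ : IrrCharacter G) : C.S.K → ℂ := fun z => (χ : G → ℂ) (C.S.t * z)

theorem cl_tf (χ : IrrCharacter G) : IsClassFunction C.S.K (C.tf χ) := fun z h => by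
  show (χ : G → ℂ) (C.S.t * ((h * z * h⁻¹ : C.S.K) : G)) = (χ : G → ℂ) (C.S.t * z)
  rw [← isClassFunction_character (irr_isCharacter χ.2) (C.S.t * (z : G)) (h : G)]
  congr 1
  rw [Subgroup.coe_mul, Subgroup.coe_mul, Subgroup.coe_inv, ← mul_assoc, ← mul_assoc,
    show C.S.t * (h : G) = (h : G) * C.S.t from (C.S.comm_t h.2).symm]
  group

theorem LL_cast {Φ : C.S.K → ℂ} (h : IsGeneralizedCharacter C.S.K Φ) (χ : IrrCharacter G) :
    (C.LL Φ χ : ℂ) = classInner Φ (C.tf χ) := by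
  rw [LL, ← coord_spec (C.S.gen_lift h), C.S.inner_lift _ (isClassFunction_character (irr_isCharacter χ.2))]
  rfl

theorem LL_gram {Φ Φ' : C.S.K → ℂ} (h : IsGeneralizedCharacter C.S.K Φ) (h' : IsGeneralizedCharacter C.S.K Φ')
    (hcl : IsClassFunction C.S.K Φ') (ho : ∀ z : C.S.K, ¬ Odd (orderOf z) → Φ z = 0)
    (ho' : ∀ z : C.S.K, ¬ Odd (orderOf z) → Φ' z = 0) :
    ((∑ χ, C.LL Φ χ * C.LL Φ' χ : ℤ) : ℂ) = 2 * classInner Φ Φ' := by
  rw [LL, LL, coord_inner (C.S.gen_lift h) (C.S.gen_lift h'), C.S.isometry hcl ho' Φ ho]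

theorem LL_deg {Φ : C.S.K → ℂ} (h : IsGeneralizedCharacter C.S.K Φ) :
    ∑ χ, C.LL Φ χ * (deg (χ : G → ℂ) : ℤ) = 0 :=
  coord_deg (C.S.gen_lift h) (C.S.lift_one Φ)

/-- The principal character. -/
noncomputable def oneG : IrrCharacter G := ⟨fun _ => 1, isIrrCharacter_one⟩

theorem LL_one {Φ : C.S.K → ℂ} (h : IsGeneralizedCharacter C.S.K Φ) :
    (C.LL Φ (oneG (G := G)) : ℂ) = classInner Φ (C.lin 1 : C.S.K → ℂ) := by
  rw [C.LL_cast h, C.lin_one]; rfl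

theorem gram_FF' (hM : IsPModular 2 M) (μ : C.Phi →* ℂˣ) (k l : Fin 3) :
    ∑ χ, C.LL (C.Fmu M k μ) χ * C.LL (C.Fmu M l μ) χ = if k = l then 4 else 2 := by
  apply Int.cast_injective (α := ℂ)
  rw [C.LL_gram (C.gen_Fmu k μ) (C.gen_Fmu l μ) (C.cl_Fmu l μ) (fun z hz => C.Fmu_even hM k μ hz)
    (fun z hz => C.Fmu_even hM l μ hz), C.inner_Fmu hM, if_pos rfl, C.Q4.Fk_eq, C.Q4.Fk_eq]
  simp only [classInner_sum_left, classInner_sum_right, classInner_smul_left, classInner_smul_right, C.Q4.inner_η,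
    map_intCast, mul_ite, mul_one, mul_zero, Finset.sum_ite_eq, Finset.sum_ite_eq', Finset.mem_univ, if_true]
  rcases C.Q4.unit 1 with e1 | e1 <;> rcases C.Q4.unit 2 with e2 | e2 <;> rcases C.Q4.unit 3 with e3 | e3 <;>
    fin_cases k <;> fin_cases l <;> simp [KFacts.Four.cF, Fin.sum_univ_four, e1, e2, e3] <;> norm_num

theorem gram_FY' (hM : IsPModular 2 M) (hco : C.e.Coprime C.D.b) {θ : C.D.B →* ℂˣ} (hθ : θ ≠ 1) (k : Fin 3)
    (μ ν : C.Phi →* ℂˣ) : ∑ χ, C.LL (C.Fmu M k μ) χ * C.LL (C.Yt M θ ν) χ = 0 := by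
  apply Int.cast_injective (α := ℂ)
  rw [C.LL_gram (C.gen_Fmu k μ) (C.gen_Yt θ ν) (C.cl_Yt θ ν) (fun z hz => C.Fmu_even hM k μ hz)
    (fun z hz => C.Yt_even hM θ ν hz), ← classInner_symm, C.Yt_Fmu hθ hM hco, map_zero, mul_zero, Int.cast_zero]

theorem gram_YY' (hM : IsPModular 2 M) (hco : C.e.Coprime C.D.b) {θ φ : C.D.B →* ℂˣ} (hθ : θ ≠ 1) (hφ : φ ≠ 1)
    (hφi : C.Inv φ) (μ μ' : C.Phi →* ℂˣ) :
    ∑ χ, C.LL (C.Yt M θ μ) χ * C.LL (C.Yt M φ μ') χ = 4 * (C.selZ θ μ μ' * dd θ φ) := by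
  apply Int.cast_injective (α := ℂ)
  rw [C.LL_gram (C.gen_Yt θ μ) (C.gen_Yt φ μ') (C.cl_Yt φ μ') (fun z hz => C.Yt_even hM θ μ hz)
    (fun z hz => C.Yt_even hM φ μ' hz), C.inner_Yt_inv hθ hφ hφi hM hco]
  push_cast
  rw [dd_cast]; ring

/-! ### The coordinates of `Ψ` -/

/-- The coordinates of `Ψ(θ, stab θ, μ)`. -/
noncomputable def cPs (θ : C.D.B →* ℂˣ) (μ : C.Phi →* ℂˣ) : IrrCharacter G → ℤ := coord (C.Ps θ (C.stab θ) μ)

theorem cPs_spec (θ : C.D.B →* ℂˣ) (μ : C.Phi →* ℂˣ) (χ : IrrCharacter G) :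
    classInner (C.Ps θ (C.stab θ) μ) (χ : G → ℂ) = C.cPs θ μ χ := coord_spec (C.gen_Ps le_rfl μ) χ

theorem cPs_deg (θ : C.D.B →* ℂˣ) (μ : C.Phi →* ℂˣ) : ∑ χ, C.cPs θ μ χ * (deg (χ : G → ℂ) : ℤ) = 0 :=
  coord_deg (C.gen_Ps le_rfl μ) (C.Ps_one _ _ _)

theorem cPs_LL {Φ : C.S.K → ℂ} (h : IsGeneralizedCharacter C.S.K Φ) (θ : C.D.B →* ℂˣ) (μ : C.Phi →* ℂˣ) :
    ((∑ χ, C.cPs θ μ χ * C.LL Φ χ : ℤ) : ℂ) = classInner (C.Ps θ (C.stab θ) μ) (C.S.lift Φ) := by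
  rw [LL, cPs, coord_inner (C.gen_Ps le_rfl μ) (C.S.gen_lift h)]

theorem inner_Df_Fmu (hM : IsPModular 2 M) (hco : C.e.Coprime C.D.b) {θ : C.D.B →* ℂˣ} (hθ : θ ≠ 1)
    (μ : C.Phi →* ℂˣ) (k : Fin 3) (ν : C.Phi →* ℂˣ) :
    classInner (C.Df θ (C.stab θ) μ) (C.Fmu M k ν) = if k = 0 then 0 else -2 * (C.selZ θ μ ν : ℂ) := by
  rw [Fmu, classInner_sum_right]
  simp only [classInner_smul_right, C.dc_spec, C.dc_eq hθ hM hco, map_intCast]
  rcases C.Q4.unit 1 with e1 | e1 <;> rcases C.Q4.unit 2 with e2 | e2 <;> rcases C.Q4.unit 3 with e3 | e3 <;>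
    fin_cases k <;> simp [KFacts.Four.cF, KFacts.Four.cY, Fin.sum_univ_four, e1, e2, e3] <;> norm_num <;> ring

theorem inner_Df_Yt (hM : IsPModular 2 M) (hco : C.e.Coprime C.D.b) {θ φ : C.D.B →* ℂˣ} (hφ : φ ≠ 1)
    (μ ν : C.Phi →* ℂˣ) :
    classInner (C.Df θ (C.stab θ) μ) (C.Yt M φ ν) = classInner (C.Yt M θ μ) (C.Yt M φ ν) := by
  conv_rhs => arg 1; rw [Yt]
  rw [classInner_add_left, classInner_sum_left, Finset.sum_eq_zero fun ν' _ => ?_, add_zero]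
  rw [classInner_smul_left, ← classInner_symm, C.Yt_Yone hφ hM hco, map_zero, mul_zero]

namespace Rot

variable {C} (R : C.Rot)

theorem inner_Ps_lift' (θ : C.D.B →* ℂˣ) (μ : C.Phi →* ℂˣ) {Φ : C.S.K → ℂ}
    (hΦ : IsClassFunction C.S.K Φ) (hodd : ∀ z : C.S.K, ¬ Odd (orderOf z) → Φ z = 0) :
    classInner (C.Ps θ (C.stab θ) μ) (C.S.lift Φ) = 2⁻¹ * (classInner (C.Df θ (C.stab θ) μ) Φ -
      classInner (C.Df (θ.comp R.rB) (C.stab (θ.comp R.rB)) μ) Φ -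
      classInner (C.Df ((θ.comp R.rB).comp R.rB) (C.stab ((θ.comp R.rB).comp R.rB)) μ) Φ) := by
  simp only [R.inner_Ps_lift θ (C.stab θ) μ hΦ hodd, R.stab_comp]

include R in
theorem cPs_F (hM : IsPModular 2 M) (hco : C.e.Coprime C.D.b) {θ : C.D.B →* ℂˣ} (hθ : θ ≠ 1)
    (μ : C.Phi →* ℂˣ) (k : Fin 3) (ν : C.Phi →* ℂˣ) :
    ∑ χ, C.cPs θ μ χ * C.LL (C.Fmu M k ν) χ = if k = 0 then 0 else C.selZ θ μ ν := by
  apply Int.cast_injective (α := ℂ)
  have hsel : ∀ θ' : C.D.B →* ℂˣ, C.selZ (θ'.comp R.rB) μ ν = C.selZ θ' μ ν := fun θ' => by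
    rw [selZ, selZ, R.stab_comp]
  rw [C.cPs_LL (C.gen_Fmu k ν), R.inner_Ps_lift' θ μ (C.cl_Fmu k ν) (fun z hz => C.Fmu_even hM k ν hz),
    C.inner_Df_Fmu hM hco hθ, C.inner_Df_Fmu hM hco (R.comp_ne_one hθ),
    C.inner_Df_Fmu hM hco (R.comp_ne_one (R.comp_ne_one hθ))]
  simp only [hsel]
  split_ifs <;> push_cast <;> ring

include R in
theorem cPs_Y (hM : IsPModular 2 M) (hco : C.e.Coprime C.D.b) {θ φ : C.D.B →* ℂˣ} (hθ : θ ≠ 1) (hφ : φ ≠ 1)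
    (hφi : C.Inv φ) (μ ν : C.Phi →* ℂˣ) :
    ∑ χ, C.cPs θ μ χ * C.LL (C.Yt M φ ν) χ =
      C.selZ θ μ ν * (dd θ φ - dd (θ.comp R.rB) φ - dd ((θ.comp R.rB).comp R.rB) φ) := by
  apply Int.cast_injective (α := ℂ)
  have hsel : ∀ θ' : C.D.B →* ℂˣ, C.selZ (θ'.comp R.rB) μ ν = C.selZ θ' μ ν := fun θ' => by
    rw [selZ, selZ, R.stab_comp]
  rw [C.cPs_LL (C.gen_Yt φ ν), R.inner_Ps_lift' θ μ (C.cl_Yt φ ν) (fun z hz => C.Yt_even hM φ ν hz),
    C.inner_Df_Yt hM hco hφ, C.inner_Df_Yt hM hco hφ, C.inner_Df_Yt hM hco hφ,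
    C.inner_Yt_inv hθ hφ hφi hM hco, C.inner_Yt_inv (R.comp_ne_one hθ) hφ hφi hM hco,
    C.inner_Yt_inv (R.comp_ne_one (R.comp_ne_one hθ)) hφ hφi hM hco]
  simp only [hsel]
  push_cast
  simp only [dd_cast]
  ring

include R in
theorem cPs_Y_outside (hM : IsPModular 2 M) (hco : C.e.Coprime C.D.b) {θ φ : C.D.B →* ℂˣ} (hθ : θ ≠ 1)
    (hθi : C.Inv θ) (hφ : φ ≠ 1) (hφn : ¬ C.Inv φ) (μ ν : C.Phi →* ℂˣ) :
    ∑ χ, C.cPs θ μ χ * C.LL (C.Yt M φ ν) χ = 0 := by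
  apply Int.cast_injective (α := ℂ)
  have hz : ∀ θ' : C.D.B →* ℂˣ, θ' ≠ 1 → C.Inv θ' →
      classInner (C.Df θ' (C.stab θ') μ) (C.Yt M φ ν) = 0 := fun θ' h1 h2 => by
    rw [C.inner_Df_Yt hM hco hφ, ← classInner_symm, C.inner_Yt_inv hφ h1 h2 hM hco, C.delta2_inv_zero hφn h2,
      mul_zero, map_zero]
  rw [C.cPs_LL (C.gen_Yt φ ν), R.inner_Ps_lift' θ μ (C.cl_Yt φ ν) (fun z hz => C.Yt_even hM φ ν hz),
    hz θ hθ hθi, hz _ (R.comp_ne_one hθ) (R.Inv_comp hθi),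
    hz _ (R.comp_ne_one (R.comp_ne_one hθ)) (R.Inv_comp (R.Inv_comp hθi))]
  simp

include R in
theorem cPs_gram (h0 : C.B0 ≠ ⊥) (hco : C.e.Coprime C.D.b) {θ φ : C.D.B →* ℂˣ} (hθ : θ ≠ 1) (hφ : φ ≠ 1)
    (hφi : C.Inv φ) (μ μ' : C.Phi →* ℂˣ) :
    ∑ χ, C.cPs θ μ χ * C.cPs φ μ' χ = C.selZ θ μ μ' * (2 + dd θ φ) := by
  apply Int.cast_injective (α := ℂ)
  rw [cPs, cPs, coord_inner (C.gen_Ps le_rfl μ) (C.gen_Ps le_rfl μ'), R.inner_Ps h0 hco le_rfl,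
    show C.stab φ = ⊤ from hφi, C.inner_Df_inv le_rfl hφi hθ hφ hco, selZ]
  split_ifs <;> push_cast <;> simp only [dd_cast] <;> ring

include R in
theorem cPs_norm (h0 : C.B0 ≠ ⊥) (hco : C.e.Coprime C.D.b) {θ : C.D.B →* ℂˣ} (hθ : θ ≠ 1) (μ : C.Phi →* ℂˣ) :
    ∑ χ, C.cPs θ μ χ * C.cPs θ μ χ = 2 * ((C.stab θ).index : ℤ) + 1 := by
  apply Int.cast_injective (α := ℂ)
  rw [cPs, coord_inner (C.gen_Ps le_rfl μ) (C.gen_Ps le_rfl μ), R.inner_Ps h0 hco le_rfl, C.inner_Df_self hθ hco]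
  push_cast
  ring

include R in
theorem cPs_one (θ : C.D.B →* ℂˣ) (μ : C.Phi →* ℂˣ) : C.cPs θ μ (oneG (G := G)) = 0 := by
  apply Int.cast_injective (α := ℂ)
  rw [← C.cPs_spec, Int.cast_zero]
  exact R.inner_Ps_one _ _ _

/-- The parity inside an orbit. -/
theorem parity_Yt {θ : C.D.B →* ℂˣ} (μ : C.Phi →* ℂˣ) (χ : IrrCharacter G) :
    (2 : ℤ) ∣ C.LL (C.Yt M (θ.comp R.rB) μ) χ - C.LL (C.Yt M θ μ) χ := by
  have h : (C.LL (C.Yt M (θ.comp R.rB) μ) χ - C.LL (C.Yt M θ μ) χ) =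
      (C.LL (C.Df (θ.comp R.rB) (C.stab θ) μ) χ - C.LL (C.Df θ (C.stab θ) μ) χ) := by
    apply Int.cast_injective (α := ℂ)
    have hsel : ∀ ν, C.selZ (θ.comp R.rB) μ ν = C.selZ θ μ ν := fun ν => by rw [selZ, selZ, R.stab_comp]
    push_cast
    rw [C.LL_cast (C.gen_Yt _ μ), C.LL_cast (C.gen_Yt _ μ),
      C.LL_cast (C.gen_Df (by rw [R.stab_comp]) μ), C.LL_cast (C.gen_Df le_rfl μ)]
    simp only [Yt, hsel, R.stab_comp, classInner_add_left]
    ring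
  rw [h]
  exact R.parity_Df le_rfl μ χ

end Rot

end Frame

end Cfsg.Agent.Walter.JR
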