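import Cfsg.Agent.Lib.Walter.JR.Sep
import Cfsg.Agent.Lib.Walter.JR.Local
import Cfsg.Agent.Lib.Char.ReeOrder.PsiFun

/-!
# The functions `Ψ` induced from `V × B P`

Every element conjugating a non-trivial element of `B` into `B` normalises `V`, so the values of these functions on
`V × B Φ` are expressed by the values of `D(θ, P, μ)` at the three rotated arguments.
-/

set_option autoImplicit false
set_option linter.unusedSectionVars false
set_option linter.unusedSimpArgs false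
set_option linter.style.haveILetI false
set_option maxHeartbeats 800000

open Cfsg
open scoped ComplexConjugate Classical

namespace Cfsg.Agent.Walter.JR

open Subgroup Cfsg.Agent.Char Cfsg.Agent.Char.ReeThree Cfsg.Agent.Char.ReeOrder

universe u

namespace Frame

variable {G : Type u} [Group G] [Finite G] {F : Type} [Field F] [Fintype F] (C : Frame G F) [Fintype G]

/-! ### The model of `V × B P` -/

/-- `V` in `G`. -/
noncomputable def vG : V4 →* G :=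
  MonoidHom.noncommCoprod (invHom C.S.sq_t) (invHom C.sq_s) (invHom_comm C.S.sq_t C.sq_s C.s_t.symm)

theorem vG_t : C.vG (-1, 1) = C.S.t := by simp [vG, invHom]

theorem vG_s : C.vG (1, -1) = C.s := by simp [vG, invHom]

theorem vG_ts : C.vG (-1, -1) = C.S.t * C.s := by simp [vG, invHom]

theorem vG_mem (v : V4) : C.vG v ∈ C.V := by
  obtain ⟨a, c⟩ := v
  rcases Int.units_eq_one_or a with rfl | rfl <;> rcases Int.units_eq_one_or c with rfl | rfl
  · rw [show ((1, 1) : V4) = 1 from rfl, map_one]; exact one_mem _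
  · rw [C.vG_s]; exact C.s_mem_V
  · rw [C.vG_t]; exact C.t_mem_V
  · rw [C.vG_ts]; exact C.ts_mem_V

theorem vG_inj : Function.Injective C.vG := by
  rw [injective_iff_map_eq_one]
  rintro ⟨a, c⟩ h
  rcases Int.units_eq_one_or a with rfl | rfl <;> rcases Int.units_eq_one_or c with rfl | rfl
  · rfl
  · exact absurd (C.vG_s ▸ h) C.s_ne
  · exact absurd (C.vG_t ▸ h) C.t_ne
  · rw [C.vG_ts] at h
    exfalso
    apply C.t_ne_s
    rw [← one_mul C.s, ← h, mul_assoc, C.sq_s, mul_one]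

theorem vG_comm {P : Subgroup C.Phi} (v : V4) (x : C.HP P) : Commute (C.vG v) (((x : C.S.K) : G)) :=
  ((C.V_comm_of (C.S.comm_t (x : C.S.K).2) (congrArg Subtype.val (C.HP_s x).symm.eq) (C.vG_mem v))).symm

/-- `V × B P` as a homomorphism. -/
noncomputable def phiP (P : Subgroup C.Phi) : V4 × C.HP P →* G :=
  MonoidHom.noncommCoprod C.vG (C.S.K.subtype.comp (C.HP P).subtype) fun v x => C.vG_comm v x

theorem phiP_apply {P : Subgroup C.Phi} (v : V4) (x : C.HP P) : C.phiP P (v, x) = C.vG v * ((x : C.S.K) : G) := rfl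

theorem phiP_inj (P : Subgroup C.Phi) : Function.Injective (C.phiP P) := by
  rw [injective_iff_map_eq_one]
  rintro ⟨v, x⟩ h
  rw [C.phiP_apply] at h
  have hx : Odd (orderOf ((x : C.S.K) : G)) := by
    rw [Subgroup.orderOf_coe, Subgroup.orderOf_coe]
    exact (C.odd_HP P).of_dvd_nat (orderOf_dvd_natCard x)
  have e : ((x : C.S.K) : G) = 1 := by
    refine odd_sq_one hx ?_
    rw [eq_inv_of_mul_eq_one_right h, ← mul_inv_rev, C.V_sq (C.vG_mem v), _root_.inv_one]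
  rw [e, mul_one] at h
  exact Prod.ext (C.vG_inj (h.trans (map_one C.vG).symm)) (Subtype.ext (Subtype.ext e))

/-- The point `v β f`. -/
noncomputable def pt (v : V4) (β : C.D.B) (f : C.Phi) : G := C.vG v * ((C.bK β * (f : C.S.K) : C.S.K) : G)

theorem phiP_hpE {P : Subgroup C.Phi} (v : V4) (β : C.D.B) (h : P) :
    C.phiP P (v, C.hpE P (β, h)) = C.pt v β (h : C.Phi) := rfl

theorem pt_one (v : V4) : C.pt v 1 1 = C.vG v := by simp [pt]

/-- The model. -/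
noncomputable def MEP (P : Subgroup C.Phi) : V4 × C.HP P ≃* (C.phiP P).range :=
  MonoidHom.ofInjective (C.phiP_inj P)

theorem MEP_symm {P : Subgroup C.Phi} {m : (C.phiP P).range} {p : V4 × C.HP P} (h : C.phiP P p = (m : G)) :
    (C.MEP P).symm m = p :=
  (C.MEP P).injective (by rw [MulEquiv.apply_symm_apply]; exact Subtype.ext h.symm)

theorem card_range (P : Subgroup C.Phi) : Nat.card (C.phiP P).range = 4 * (C.D.b * Nat.card P) := by
  rw [← Nat.card_congr (C.MEP P).toEquiv, Nat.card_prod, C.card_HP, Nat.card_eq_fintype_card (α := V4)]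
  rfl

/-- `λ₀ ⊗ μ (1 - θ)`. -/
noncomputable def fP (θ : C.D.B →* ℂˣ) (P : Subgroup C.Phi) (μ : C.Phi →* ℂˣ) : (C.phiP P).range → ℂ :=
  fun m => (Ctx.lam0 ((C.MEP P).symm m).1 : ℂ) * C.psi θ P μ ((C.MEP P).symm m).2

/-- `Ψ(θ, P, μ)`. -/
noncomputable def Ps (θ : C.D.B →* ℂˣ) (P : Subgroup C.Phi) (μ : C.Phi →* ℂˣ) : G → ℂ :=
  indFun (C.phiP P).range (C.fP θ P μ)

theorem cl_Ps (θ : C.D.B →* ℂˣ) (P : Subgroup C.Phi) (μ : C.Phi →* ℂˣ) : IsClassFunction G (C.Ps θ P μ) :=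
  isClassFunction_indFun _ _

theorem gen_Ps {θ : C.D.B →* ℂˣ} {P : Subgroup C.Phi} (hθ : P ≤ C.stab θ) (μ : C.Phi →* ℂˣ) :
    IsGeneralizedCharacter G (C.Ps θ P μ) := by
  let l0 : (C.phiP P).range →* ℂˣ := (Ctx.lam0.comp (MonoidHom.fst _ _)).comp (C.MEP P).symm.toMonoidHom
  let p2 : (C.phiP P).range →* C.HP P := (MonoidHom.snd _ _).comp (C.MEP P).symm.toMonoidHom
  let l1 : (C.phiP P).range →* ℂˣ := l0 * (μ.comp (C.pr.comp (C.HP P).subtype)).comp p2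
  let l2 : (C.phiP P).range →* ℂˣ := l0 * (C.chi hθ μ).comp p2
  refine ⟨indFun _ (fun m => (l1 m : ℂ)), indFun _ (fun m => (l2 m : ℂ)), isCharacter_indFun _ (isCharacter_linear l1),
    isCharacter_indFun _ (isCharacter_linear l2), ?_⟩
  rw [Ps, ← indFun_sub]
  congr 1
  funext m
  simp [fP, C.psi_eq hθ, l1, l2, l0, p2, mul_sub]

theorem Ps_one (θ : C.D.B →* ℂˣ) (P : Subgroup C.Phi) (μ : C.Phi →* ℂˣ) : C.Ps θ P μ 1 = 0 := by
  rw [Ps, indFun_one]
  have h : C.bp (1 : C.HP P) = 1 := Subtype.ext (Subtype.ext (by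
    show ((1 : C.HP P) : C.S.K) * _ = 1; simp))
  simp [fP, psi, h]

/-- Frobenius reciprocity on the model. -/
theorem inner_fP (θ : C.D.B →* ℂˣ) (P : Subgroup C.Phi) (μ : C.Phi →* ℂˣ) {χ : G → ℂ} (hχ : IsClassFunction G χ) :
    classInner (C.Ps θ P μ) χ = (4 * ((C.D.b : ℂ) * Nat.card P))⁻¹ * ∑ v : V4, ∑ β : C.D.B, ∑ h : P,
      (Ctx.lam0 v : ℂ) * ((μ h : ℂ) * (1 - (θ β : ℂ))) * conj (χ (C.pt v β (h : C.Phi))) := by
  rw [Ps, Cfsg.Agent.Char.frobenius _ _ hχ, classInner, C.card_range, Nat.cast_mul, Nat.cast_mul, Nat.cast_ofNat,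
    ← (C.MEP P).toEquiv.sum_comp, Fintype.sum_prod_type]
  congr 1
  refine Finset.sum_congr rfl fun v _ => ?_
  rw [← (C.hpE P).sum_comp, Fintype.sum_prod_type]
  refine Finset.sum_congr rfl fun β _ => Finset.sum_congr rfl fun h _ => ?_
  simp only [fP, MulEquiv.toEquiv_eq_coe, EquivLike.coe_coe, MulEquiv.symm_apply_apply, C.psi_hpE]
  rfl

/-- `D(θ, P, μ)` against a class function. -/
theorem inner_Df_fn (θ : C.D.B →* ℂˣ) (P : Subgroup C.Phi) (μ : C.Phi →* ℂˣ) {χ : C.S.K → ℂ}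
    (hχ : IsClassFunction C.S.K χ) :
    classInner (C.Df θ P μ) χ = ((C.D.b : ℂ) * Nat.card P)⁻¹ * ∑ β : C.D.B, ∑ h : P,
      ((μ h : ℂ) * (1 - (θ β : ℂ))) * conj (χ (C.bK β * ((h : C.Phi) : C.S.K))) := by
  rw [Df, Cfsg.Agent.Char.frobenius _ _ hχ, classInner, C.card_HP, Nat.cast_mul, ← (C.hpE P).sum_comp,
    Fintype.sum_prod_type]
  simp only [C.psi_hpE]
  rfl

/-- The values of `D(φ, P, μ)` at elements with a non-trivial power in `B`. -/
theorem Df_conj_sum (φ : C.D.B →* ℂˣ) (P : Subgroup C.Phi) (μ : C.Phi →* ℂˣ) {z : C.S.K} {y : C.D.B} (hy : y ≠ 1)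
    (hzy : z ^ C.e = C.bK y) :
    C.Df φ P μ z = (Nat.card (C.HP P) : ℂ)⁻¹ *
      ∑ p, extendByZero (C.HP P) (C.psi φ P μ) ((C.rep p)⁻¹ * z * C.rep p) := by
  have hzero : ∀ g ∉ Finset.univ.image C.rep, extendByZero (C.HP P) (C.psi φ P μ) (g⁻¹ * z * g) = 0 := by
    intro g hg
    refine extendByZero_not_mem _ _ fun hm => hg ?_
    have hm' := pow_mem hm C.e
    rw [show (g⁻¹ * z * g) ^ C.e = g⁻¹ * z ^ C.e * g by
      simpa using conj_pow (i := C.e) (a := g⁻¹) (b := z), hzy] at hm'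
    have hp : C.pr (g⁻¹ * C.bK y * g) = 1 := by
      rw [map_mul, map_mul, map_inv, C.pr_eq_one.2 (C.bK_mem_L y), mul_one, inv_mul_cancel]
    have e : g⁻¹ * C.bK y * g = C.bK ⟨C.lp (g⁻¹ * C.bK y * g), hm'.2⟩ := by
      show _ = (C.lp _ : C.S.K)
      conv_lhs => rw [← C.lp_mul_pr (g⁻¹ * C.bK y * g), hp, OneMemClass.coe_one, mul_one]
    obtain ⟨p, hp⟩ := C.conj_B hy e
    exact Finset.mem_image.2 ⟨p, Finset.mem_univ _, hp⟩
  rw [Df, indFun, ← Finset.sum_subset (Finset.subset_univ (Finset.univ.image C.rep)) fun g _ hg => hzero g hg,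
    Finset.sum_image fun a _ b _ e => C.rep_inj e]

/-! ### Conjugation into `B` -/

theorem emb_ne {y : C.D.B} (hy : y ≠ 1) : C.embL (y : C.L) ≠ 1 := fun e =>
  hy (Subtype.ext (C.embL_inj (e.trans (map_one C.embL).symm)))

/-- An element conjugating `1 ≠ y ∈ B` into `B` normalises `V`. -/
theorem norm_of_conj (h0 : C.B0 ≠ ⊥) {y y' : C.D.B} (hy : y ≠ 1) {g : G}
    (h : g⁻¹ * C.embL (y : C.L) * g = C.embL (y' : C.L)) : ∀ v ∈ C.V, g * v * g⁻¹ ∈ C.V := by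
  set z := C.embL (y : C.L)
  have hz : z ∈ C.BG := ⟨_, y.2, rfl⟩
  set Q := C.V.map (MulAut.conj g).toMonoidHom
  have hQ : IsPGroup 2 Q := C.V_pgroup.map _
  have hQc : Q ≤ normalizer (C.V : Set G) := by
    rintro _ ⟨v, hv, rfl⟩
    refine C.cent_BG h0 hz (C.emb_ne hy) (mem_centralizer_singleton_iff.2 ?_)
    show g * v * g⁻¹ * z = z * (g * v * g⁻¹)
    have hc : Commute (C.embL (y' : C.L)) v := C.V_BG hv ⟨_, y'.2, rfl⟩
    have e : z = g * C.embL (y' : C.L) * g⁻¹ := by rw [← h]; group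
    calc g * v * g⁻¹ * z = g * (v * C.embL (y' : C.L)) * g⁻¹ := by rw [e]; group
      _ = z * (g * v * g⁻¹) := by rw [← hc.eq, e]; group
  have hS : IsPGroup 2 (C.V ⊔ Q : Subgroup G) := C.V_pgroup.to_sup_of_normal_left' hQ hQc
  have hle : (C.V ⊔ Q : Subgroup G) ≤ centralizer ({z} : Set G) := by
    refine sup_le (C.V_le_cent hz) ?_
    rintro _ ⟨v, hv, rfl⟩
    refine mem_centralizer_singleton_iff.2 ?_
    show g * v * g⁻¹ * z = z * (g * v * g⁻¹)
    have hc : Commute (C.embL (y' : C.L)) v := C.V_BG hv ⟨_, y'.2, rfl⟩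
    have e : z = g * C.embL (y' : C.L) * g⁻¹ := by rw [← h]; group
    calc g * v * g⁻¹ * z = g * (v * C.embL (y' : C.L)) * g⁻¹ := by rw [e]; group
      _ = z * (g * v * g⁻¹) := by rw [← hc.eq, e]; group
  have hE := C.two_eq_V hz (C.emb_ne hy) hS le_sup_left hle
  intro v hv
  rw [← hE]
  exact mem_sup_right ⟨v, hv, rfl⟩

/-! ### The rotation of `B` -/

namespace Rot

variable {C} (R : C.Rot)

theorem exists_rB (β : C.D.B) : ∃ β' : C.D.B, R.rho * C.embL (β : C.L) * R.rho⁻¹ = C.embL (β' : C.L) := by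
  obtain ⟨y, hy, e⟩ := R.rho_B (β := C.embL (β : C.L)) ⟨_, β.2, rfl⟩
  exact ⟨⟨y, hy⟩, e.symm⟩

/-- The action of `ρ` on `B`. -/
noncomputable def rB : C.D.B →* C.D.B where
  toFun β := (R.exists_rB β).choose
  map_one' := Subtype.ext (C.embL_inj (by
    rw [← (R.exists_rB 1).choose_spec, OneMemClass.coe_one, map_one, mul_one, mul_inv_cancel]))
  map_mul' a b := Subtype.ext (C.embL_inj (by
    rw [← (R.exists_rB _).choose_spec, Subgroup.coe_mul, Subgroup.coe_mul, map_mul, map_mul,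
      ← (R.exists_rB _).choose_spec, ← (R.exists_rB _).choose_spec]
    group))

theorem rB_spec (β : C.D.B) : R.rho * C.embL (β : C.L) * R.rho⁻¹ = C.embL ((R.rB β : C.D.B) : C.L) :=
  (R.exists_rB β).choose_spec

theorem rB_three (β : C.D.B) : R.rB (R.rB (R.rB β)) = β := by
  refine Subtype.ext (C.embL_inj ?_)
  rw [← R.rB_spec, ← R.rB_spec, ← R.rB_spec, show ∀ z : G, R.rho * (R.rho * (R.rho * z * R.rho⁻¹) * R.rho⁻¹) * R.rho⁻¹ =
    R.rho ^ 3 * z * (R.rho ^ 3)⁻¹ from fun z => by rw [pow_succ, pow_two]; group, R.rho3]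
  group

theorem rB_bij : Function.Bijective R.rB :=
  ⟨fun a b h => by rw [← R.rB_three a, h, R.rB_three], fun b => ⟨R.rB (R.rB b), R.rB_three b⟩⟩

theorem rB_bconj (f : C.Phi) (β : C.D.B) : R.rB (C.bconj f β) = C.bconj f (R.rB β) := by
  refine Subtype.ext (C.embL_inj ?_)
  have e : ∀ β : C.D.B, C.embL ((C.bconj f β : C.D.B) : C.L) =
      ((f : C.S.K) : G) * C.embL (β : C.L) * ((f : C.S.K) : G)⁻¹ := fun β => by
    rw [← C.bK_G, ← C.bconj_spec]; rfl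
  have hc : Commute ((f : C.S.K) : G) R.rho := R.rho_fix _ ⟨f, f.2, rfl⟩
  rw [← R.rB_spec, e, e, ← R.rB_spec]
  calc R.rho * (((f : C.S.K) : G) * C.embL (β : C.L) * ((f : C.S.K) : G)⁻¹) * R.rho⁻¹
      = R.rho * ((f : C.S.K) : G) * C.embL (β : C.L) * (R.rho * ((f : C.S.K) : G))⁻¹ := by group
    _ = _ := by rw [← hc.eq]; group

theorem rB_inv (β : C.D.B) : R.rB β⁻¹ = (R.rB β)⁻¹ := map_inv _ _

theorem stab_comp (θ : C.D.B →* ℂˣ) : C.stab (θ.comp R.rB) = C.stab θ := by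
  ext f
  rw [C.mem_stab, C.mem_stab]
  constructor
  · intro h
    refine MonoidHom.ext fun β => ?_
    obtain ⟨z, rfl⟩ := R.rB_bij.2 β
    show θ (C.bconj f (R.rB z)) = θ (R.rB z)
    rw [← R.rB_bconj]
    exact DFunLike.congr_fun h z
  · intro h
    refine MonoidHom.ext fun β => ?_
    show θ (R.rB (C.bconj f β)) = θ (R.rB β)
    rw [R.rB_bconj]
    exact DFunLike.congr_fun h _

theorem rho_vG (v : V4) : R.rho * C.vG v * R.rho⁻¹ = C.vG (sig v) := by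
  obtain ⟨a, c⟩ := v
  rcases Int.units_eq_one_or a with rfl | rfl <;> rcases Int.units_eq_one_or c with rfl | rfl
  · rw [show ((1, 1) : V4) = 1 from rfl, map_one, map_one, map_one, mul_one, mul_inv_cancel]
  · rw [C.vG_s, R.rho_s, ← C.vG_ts]; rfl
  · rw [C.vG_t, R.rho_t, ← C.vG_s]; rfl
  · rw [C.vG_ts, R.rho_ts, ← C.vG_t]; rfl

theorem rho_pt (v : V4) (β : C.D.B) (f : C.Phi) :
    R.rho * C.pt v β f * R.rho⁻¹ = C.pt (sig v) (R.rB β) f := by
  simp only [pt, Subgroup.coe_mul, C.bK_G]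
  rw [← R.rho_vG, ← R.rB_spec]
  have hc : Commute ((f : C.S.K) : G) R.rho := R.rho_fix _ ⟨f, f.2, rfl⟩
  calc R.rho * (C.vG v * (C.embL (β : C.L) * ((f : C.S.K) : G))) * R.rho⁻¹
      = R.rho * C.vG v * C.embL (β : C.L) * (((f : C.S.K) : G) * R.rho⁻¹) := by group
    _ = R.rho * C.vG v * C.embL (β : C.L) * (R.rho⁻¹ * ((f : C.S.K) : G)) := by rw [hc.inv_right.eq]
    _ = _ := by group

theorem sig_three (v : V4) : sig (sig (sig v)) = v := by
  obtain ⟨a, c⟩ := v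
  rcases Int.units_eq_one_or a with rfl | rfl <;> rcases Int.units_eq_one_or c with rfl | rfl <;> decide

/-- The exponents of the three rotations. -/
def ex : Fin 3 → ℕ := ![0, 2, 1]

theorem rho_pow_pt (j : Fin 3) (v : V4) (β : C.D.B) (f : C.Phi) :
    (R.rho ^ (j : ℕ))⁻¹ * C.pt v β f * R.rho ^ (j : ℕ) = C.pt (sig^[ex j] v) (R.rB^[ex j] β) f := by
  have h1 : ∀ v β, R.rho⁻¹ * C.pt v β f * R.rho = C.pt (sig (sig v)) (R.rB (R.rB β)) f := fun v β => by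
    conv_lhs => rw [← sig_three v, ← R.rB_three β, ← R.rho_pt]
    group
  fin_cases j
  · simp [ex]
  · simp only [ex]
    simpa using h1 v β
  · simp only [ex]
    show (R.rho ^ 2)⁻¹ * C.pt v β f * R.rho ^ 2 = C.pt (sig v) (R.rB β) f
    rw [show (R.rho ^ 2)⁻¹ * C.pt v β f * R.rho ^ 2 = R.rho⁻¹ * (R.rho⁻¹ * C.pt v β f * R.rho) * R.rho by
      rw [pow_two]; group, h1, h1, sig_three, R.rB_three]

/-- The elements conjugating `B` into itself. -/
noncomputable def rG (q : Fin 3 × ℤˣ × ((Bool × Bool) × C.Phi × C.D.B)) : G :=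
  R.rho ^ (q.1 : ℕ) * invHom C.S.sq_t q.2.1 * ((C.rep q.2.2 : C.S.K) : G)

theorem invHom_t (a : ℤˣ) : invHom C.S.sq_t a = C.vG (a, 1) := by simp [vG]

theorem rho_pow_t_inj {j j' : Fin 3}
    (h : R.rho ^ (j : ℕ) * C.S.t * (R.rho ^ (j : ℕ))⁻¹ = R.rho ^ (j' : ℕ) * C.S.t * (R.rho ^ (j' : ℕ))⁻¹) : j = j' := by
  have e : ∀ j : Fin 3, R.rho ^ (j : ℕ) * C.S.t * (R.rho ^ (j : ℕ))⁻¹ =
      C.vG (![(-1, 1), (1, -1), (-1, -1)] j) := by
    intro j
    fin_cases j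
    · simp [C.vG_t]
    · simpa [C.vG_s] using R.rho_t
    · show R.rho ^ 2 * C.S.t * (R.rho ^ 2)⁻¹ = C.vG (-1, -1)
      rw [C.vG_ts, ← R.rho_s, ← R.rho_t, pow_two]; group
  rw [e, e] at h
  have h' := C.vG_inj h
  revert h'
  fin_cases j <;> fin_cases j' <;> simp +decide

theorem rG_t (a : ℤˣ) (p : (Bool × Bool) × C.Phi × C.D.B) :
    invHom C.S.sq_t a * ((C.rep p : C.S.K) : G) * C.S.t * (invHom C.S.sq_t a * ((C.rep p : C.S.K) : G))⁻¹ = C.S.t := by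
  have h1 : Commute ((C.rep p : C.S.K) : G) C.S.t := C.S.comm_t (C.rep p).2
  have h2 : Commute (invHom C.S.sq_t a) C.S.t := by
    rcases Int.units_eq_one_or a with rfl | rfl <;> simp [invHom, Commute.one_left]
  rw [(h2.mul_left h1).eq, mul_inv_cancel_right]

theorem rG_inj : Function.Injective R.rG := by
  rintro ⟨j, a, p⟩ ⟨j', a', p'⟩ h
  have hj : j = j' := by
    refine R.rho_pow_t_inj ?_
    have e : ∀ (j : Fin 3) a p, R.rG (j, a, p) * C.S.t * (R.rG (j, a, p))⁻¹ =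
        R.rho ^ (j : ℕ) * C.S.t * (R.rho ^ (j : ℕ))⁻¹ := fun j a p => by
      simp only [rG]
      conv_rhs => rw [← rG_t (C := C) a p]
      group
    rw [← e j a p, h, e]
  subst hj
  simp only [rG, mul_assoc, mul_left_cancel_iff] at h
  rcases Int.units_eq_one_or a with rfl | rfl <;> rcases Int.units_eq_one_or a' with rfl | rfl <;>
    simp [invHom] at h
  · rw [C.rep_inj h]
  · exact absurd (C.rep p).2 (by rw [h]; exact C.S.not_both (C.rep p').2)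
  · exact absurd (C.rep p').2 (by rw [← h]; exact C.S.not_both (C.rep p).2)
  · rw [C.rep_inj h]

theorem conj_G (h0 : C.B0 ≠ ⊥) {y y' : C.D.B} (hy : y ≠ 1) {g : G}
    (h : g⁻¹ * C.embL (y : C.L) * g = C.embL (y' : C.L)) : ∃ q, R.rG q = g := by
  obtain ⟨i, hi, c, hct, hcs, e⟩ := R.norm_V (C.norm_of_conj h0 hy h)
  obtain ⟨a, k, hck⟩ : ∃ (a : ℤˣ) (k : C.S.K), c = invHom C.S.sq_t a * (k : G) := by
    rcases C.S.split (C.S.mem_C.2 hct) with hk | hk
    · exact ⟨1, ⟨c, hk⟩, by rw [map_one, one_mul]⟩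
    · exact ⟨-1, ⟨_, hk⟩, by simp [invHom, ← mul_assoc, C.S.sq_t]⟩
  set j : Fin 3 := ⟨i, hi⟩
  set y1 := R.rB^[ex j] y
  have h1 : (R.rho ^ (j : ℕ))⁻¹ * C.embL (y : C.L) * R.rho ^ (j : ℕ) = C.embL (y1 : C.L) := by
    have := R.rho_pow_pt j 1 y 1
    rwa [show sig^[ex j] (1 : V4) = 1 from Function.iterate_fixed (map_one sig) _, pt, pt, map_one, one_mul,
      one_mul, OneMemClass.coe_one, mul_one, mul_one] at this
  have hk : k⁻¹ * C.bK y1 * k = C.bK y' := by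
    apply Subtype.ext
    show (k : G)⁻¹ * C.embL (y1 : C.L) * (k : G) = C.embL (y' : C.L)
    rw [← h, e, hck, ← h1]
    have hcomm : Commute (invHom C.S.sq_t a) (C.embL (y1 : C.L)) := by
      rw [invHom_t]
      exact (C.V_BG (C.vG_mem _) ⟨_, y1.2, rfl⟩).symm
    rw [h1]
    calc (k : G)⁻¹ * C.embL (y1 : C.L) * (k : G)
        = (k : G)⁻¹ * ((invHom C.S.sq_t a)⁻¹ * (invHom C.S.sq_t a * C.embL (y1 : C.L))) * (k : G) := by group
      _ = _ := by rw [hcomm.eq, ← h1]; simp only [show (j : ℕ) = i from rfl]; group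
  have hy1 : y1 ≠ 1 := fun e1 => hy (by
    rw [e1, OneMemClass.coe_one, map_one] at h1
    refine Subtype.ext (C.embL_inj ?_)
    rw [OneMemClass.coe_one, map_one, show C.embL (y : C.L) = R.rho ^ (j : ℕ) * ((R.rho ^ (j : ℕ))⁻¹ *
      C.embL (y : C.L) * R.rho ^ (j : ℕ)) * (R.rho ^ (j : ℕ))⁻¹ by group, h1]
    group)
  obtain ⟨p, hp⟩ := C.conj_B hy1 hk
  exact ⟨(j, a, p), by simp [rG, j, hp, e, hck, mul_assoc]⟩

end Rot

/-! ### The values -/

theorem pow_pt {β : C.D.B} {f : C.Phi} {y : C.D.B} (hxy : (C.bK β * (f : C.S.K)) ^ C.e = C.bK y) (v : V4) :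
    C.pt v β f ^ (C.e * (C.D.b + 1)) = C.embL (y : C.L) := by
  have hc : Commute (C.vG v) ((C.bK β * (f : C.S.K) : C.S.K) : G) :=
    C.vG_comm v ⟨_, (C.bf_mem_iff (P := ⊤) β f).2 (mem_top f)⟩
  obtain ⟨k, hk⟩ := C.D.b_odd
  have hv : C.vG v ^ (C.e * (C.D.b + 1)) = 1 := by
    rw [hk, show C.e * (2 * k + 1 + 1) = 2 * (C.e * (k + 1)) by ring, pow_mul, pow_two, C.V_sq (C.vG_mem v), one_pow]
  rw [pt, hc.mul_pow, hv, one_mul, pow_mul, ← Subgroup.coe_pow, hxy, C.bK_G, pow_succ, ← map_pow,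
    show (y : C.L) ^ C.D.b = 1 from congrArg Subtype.val (C.D.card_B ▸ pow_card_eq_one' : y ^ C.D.b = 1), map_one,
    one_mul]

theorem rep_s (p : (Bool × Bool) × C.Phi × C.D.B) : Commute ((C.rep p : C.S.K)) (C.D.s : C.S.K) := by
  obtain ⟨⟨i, j⟩, f, β⟩ := p
  have hu : Commute C.uL C.D.s := C.uL_spec.1
  have hvq' : Commute (C.vq (i, j)) C.D.s := by
    cases i <;> cases j <;> simp [vq, Commute.one_left]
    · exact hu
    · exact (Commute.refl C.D.s).mul_left hu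
  have hvq : Commute (C.vq (i, j) : C.S.K) (C.D.s : C.S.K) := congrArg Subtype.val hvq'
  exact (hvq.mul_left (C.s_Phi f)).mul_left (Subtype.ext (C.BG_s (show C.embL (β : C.L) ∈ C.BG from ⟨_, β.2, rfl⟩)))

/-- The model, extended by zero, at `v k`. -/
theorem ext_fP (φ : C.D.B →* ℂˣ) (P : Subgroup C.Phi) (μ : C.Phi →* ℂˣ) (v : V4) {k : C.S.K} (hk : k ∈ C.HP ⊤) :
    extendByZero (C.phiP P).range (C.fP φ P μ) (C.vG v * (k : G)) =
      (Ctx.lam0 v : ℂ) * extendByZero (C.HP P) (C.psi φ P μ) k := by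
  by_cases hP : k ∈ C.HP P
  · have hm : C.vG v * (k : G) ∈ (C.phiP P).range := ⟨(v, ⟨k, hP⟩), rfl⟩
    rw [extendByZero_mem _ _ hm, extendByZero_mem _ _ hP, fP, C.MEP_symm (p := (v, ⟨k, hP⟩)) rfl]
  · rw [extendByZero_not_mem _ _ hP, mul_zero, extendByZero_not_mem]
    rintro ⟨⟨v', x⟩, hx⟩
    apply hP
    have hxT : (x : C.S.K) ∈ C.HP ⊤ := C.mem_HP.2 ⟨mem_top _, x.2.2⟩
    have e := C.phiP_inj ⊤ (a₁ := (v', ⟨_, hxT⟩)) (a₂ := (v, ⟨k, hk⟩)) hx
    rw [show k = (x : C.S.K) from (congrArg (fun p : V4 × C.HP ⊤ => (p.2 : C.S.K)) e).symm]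
    exact x.2

theorem rho_pow_emb (R : C.Rot) (n : ℕ) (y : C.D.B) :
    R.rho ^ n * C.embL (y : C.L) * (R.rho ^ n)⁻¹ = C.embL ((R.rB^[n] y : C.D.B) : C.L) := by
  induction n with
  | zero => simp
  | succ n ih => rw [Function.iterate_succ_apply', ← R.rB_spec, ← ih, pow_succ']; group

namespace Rot

variable {C} (R : C.Rot)

theorem pow_rB {β : C.D.B} {f : C.Phi} {y : C.D.B} (hxy : (C.bK β * (f : C.S.K)) ^ C.e = C.bK y) (n : ℕ) :
    (C.bK (R.rB^[n] β) * (f : C.S.K)) ^ C.e = C.bK (R.rB^[n] y) := by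
  induction n with
  | zero => exact hxy
  | succ n ih =>
    rw [Function.iterate_succ_apply', Function.iterate_succ_apply']
    have h1 := R.rho_pt 1 (R.rB^[n] β) f
    rw [map_one sig] at h1
    simp only [pt, map_one, one_mul] at h1
    apply Subtype.ext
    rw [Subgroup.coe_pow, ← h1, conj_pow, ← Subgroup.coe_pow, ih, C.bK_G, R.rB_spec]
    rfl

/-- The values of `Ψ` on `V × B Φ`. -/
theorem Ps_val (h0 : C.B0 ≠ ⊥) (φ : C.D.B →* ℂˣ) (P : Subgroup C.Phi) (μ : C.Phi →* ℂˣ) (v : V4)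
    {β : C.D.B} {f : C.Phi} {y : C.D.B} (hy : y ≠ 1) (hxy : (C.bK β * (f : C.S.K)) ^ C.e = C.bK y) :
    C.Ps φ P μ (C.pt v β f) = 2⁻¹ * ∑ j : Fin 3, (Ctx.lam0 (sig^[ex j] v) : ℂ) *
      C.Df φ P μ (C.bK (R.rB^[ex j] β) * (f : C.S.K)) := by
  have hzero : ∀ g ∉ Finset.univ.image R.rG,
      extendByZero (C.phiP P).range (C.fP φ P μ) (g⁻¹ * C.pt v β f * g) = 0 := by
    intro g hg
    refine extendByZero_not_mem _ _ ?_
    rintro ⟨⟨v', x⟩, hx⟩
    have hp : C.phiP P (v', x) ^ (C.e * (C.D.b + 1)) = (g⁻¹ * C.pt v β f * g) ^ (C.e * (C.D.b + 1)) := by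
      rw [hx]
    rw [show (g⁻¹ * C.pt v β f * g) ^ (C.e * (C.D.b + 1)) = g⁻¹ * C.pt v β f ^ (C.e * (C.D.b + 1)) * g by
      simpa using conj_pow (i := C.e * (C.D.b + 1)) (a := g⁻¹) (b := C.pt v β f), C.pow_pt hxy] at hp
    obtain ⟨y', hy'⟩ : ∃ y' : C.D.B, (x : C.S.K) ^ C.e = C.bK y' := by
      refine ⟨⟨C.lp ((x : C.S.K) ^ C.e), (pow_mem x.2 _ : (x : C.S.K) ^ C.e ∈ C.HP P).2⟩, ?_⟩
      have hp1 : C.pr ((x : C.S.K) ^ C.e) = 1 := by rw [map_pow]; exact pow_card_eq_one'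
      show (x : C.S.K) ^ C.e = (x : C.S.K) ^ C.e * (C.pr ((x : C.S.K) ^ C.e) : C.S.K)⁻¹
      rw [hp1, OneMemClass.coe_one, _root_.inv_one, mul_one]
    have hx' : C.phiP P (v', x) = C.pt v' ⟨C.lp (x : C.S.K), x.2.2⟩ (C.pr (x : C.S.K)) := by
      rw [C.phiP_apply, pt]
      congr 2
      exact (C.lp_mul_pr _).symm
    rw [hx', C.pow_pt (y := y') (by rw [← hy']; congr 1; exact C.lp_mul_pr _)] at hp
    obtain ⟨q, hq⟩ := R.conj_G h0 hy hp.symm
    exact hg (Finset.mem_image.2 ⟨q, Finset.mem_univ _, hq⟩)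
  have hmem : ∀ n : ℕ, C.bK (R.rB^[n] β) * (f : C.S.K) ∈ C.HP ⊤ := fun n => (C.bf_mem_iff _ _).2 (mem_top f)
  have hval : ∀ q, extendByZero (C.phiP P).range (C.fP φ P μ) ((R.rG q)⁻¹ * C.pt v β f * R.rG q) =
      (Ctx.lam0 (sig^[ex q.1] v) : ℂ) * extendByZero (C.HP P) (C.psi φ P μ)
        ((C.rep q.2.2)⁻¹ * (C.bK (R.rB^[ex q.1] β) * (f : C.S.K)) * C.rep q.2.2) := by
    rintro ⟨j, a, p⟩
    set z := C.bK (R.rB^[ex j] β) * (f : C.S.K)
    set v' := sig^[ex j] v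
    set r := C.rep p
    have hrv : Commute (r : G) (C.vG v') :=
      C.V_comm_of (C.S.comm_t r.2) (congrArg Subtype.val (C.rep_s p).eq) (C.vG_mem _)
    have hav : Commute (invHom C.S.sq_t a) (C.pt v' (R.rB^[ex j] β) f) := by
      rw [invHom_t]
      refine Commute.mul_right ?_ (C.vG_comm (a, 1) ⟨_, hmem (ex j)⟩)
      rw [Commute, SemiconjBy, ← map_mul, ← map_mul, mul_comm]
    have e : (R.rG (j, a, p))⁻¹ * C.pt v β f * R.rG (j, a, p) = C.vG v' * ((r⁻¹ * z * r : C.S.K) : G) := by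
      calc (R.rG (j, a, p))⁻¹ * C.pt v β f * R.rG (j, a, p)
          = (r : G)⁻¹ * ((invHom C.S.sq_t a)⁻¹ * ((R.rho ^ (j : ℕ))⁻¹ * C.pt v β f * R.rho ^ (j : ℕ)) *
              invHom C.S.sq_t a) * (r : G) := by simp only [rG, r]; group
        _ = (r : G)⁻¹ * (C.vG v' * (z : G)) * (r : G) := by
          rw [R.rho_pow_pt, hav.inv_left.eq, inv_mul_cancel_right]; rfl
        _ = C.vG v' * ((r⁻¹ * z * r : C.S.K) : G) := by
          rw [← mul_assoc, hrv.inv_left.eq]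
          simp only [Subgroup.coe_mul, Subgroup.coe_inv, mul_assoc]
    have hk : r⁻¹ * z * r ∈ C.HP ⊤ := by
      refine C.odd_cent_s ?_ ?_
      · rw [show r⁻¹ * z * r = MulAut.conj r⁻¹ z by simp [MulAut.conj_apply], MulEquiv.orderOf_eq,
          ← Subgroup.orderOf_mk z (hmem (ex j))]
        exact (C.odd_HP ⊤).of_dvd_nat (orderOf_dvd_natCard _)
      · exact (((C.rep_s p).inv_left.mul_left (C.HP_s (⟨z, hmem (ex j)⟩ : C.HP ⊤)).symm).mul_left (C.rep_s p))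
    rw [e, C.ext_fP φ P μ v' hk]
  have hD : ∀ j : Fin 3, C.Df φ P μ (C.bK (R.rB^[ex j] β) * (f : C.S.K)) = (Nat.card (C.HP P) : ℂ)⁻¹ *
      ∑ p, extendByZero (C.HP P) (C.psi φ P μ)
        ((C.rep p)⁻¹ * (C.bK (R.rB^[ex j] β) * (f : C.S.K)) * C.rep p) := fun j => by
    refine C.Df_conj_sum φ P μ (fun h => hy ?_) (R.pow_rB hxy (ex j))
    have := Function.Injective.iterate R.rB_bij.1 (ex j) (h.trans (Function.iterate_fixed (map_one R.rB) (ex j)).symm)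
    exact this
  rw [Ps, indFun, ← Finset.sum_subset (Finset.subset_univ (Finset.univ.image R.rG)) fun g _ hg => hzero g hg,
    Finset.sum_image fun a _ b _ e => R.rG_inj e, Fintype.sum_prod_type]
  simp only [Fintype.sum_prod_type (α₁ := ℤˣ)]
  rw [Finset.mul_sum, Finset.mul_sum]
  refine Finset.sum_congr rfl fun j _ => ?_
  rw [Finset.sum_congr rfl fun a _ => Finset.sum_congr rfl fun p _ => hval (j, a, p)]
  dsimp only
  rw [Finset.sum_const,
    Finset.card_univ, show Fintype.card ℤˣ = 2 from rfl, ← Finset.mul_sum, hD j, C.card_range, C.card_HP]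
  have hb := C.b_ne
  have hP : (Nat.card P : ℂ) ≠ 0 := Nat.cast_ne_zero.2 Nat.card_pos.ne'
  push_cast
  simp only [nsmul_eq_mul, Nat.cast_ofNat]
  field_simp
  ring

include R in
/-- `⟨Ψ, Ψ'⟩` is half of `⟨D, D'⟩`. -/
theorem inner_Ps (h0 : C.B0 ≠ ⊥) (hco : C.e.Coprime C.D.b) {θ φ : C.D.B →* ℂˣ} {P P' : Subgroup C.Phi}
    (hθ : P ≤ C.stab θ) (μ μ' : C.Phi →* ℂˣ) :
    classInner (C.Ps θ P μ) (C.Ps φ P' μ') = 2⁻¹ * classInner (C.Df θ P μ) (C.Df φ P' μ') := by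
  rw [C.inner_fP θ P μ (C.cl_Ps φ P' μ'), C.inner_Df_fn θ P μ (C.cl_Df φ P' μ')]
  have hv : ∀ (v : V4) (β : C.D.B) (h : P), (Ctx.lam0 v : ℂ) * ((μ h : ℂ) * (1 - (θ β : ℂ))) *
      conj (C.Ps φ P' μ' (C.pt v β (h : C.Phi))) = 2⁻¹ * ∑ j : Fin 3,
        ((Ctx.lam0 v : ℂ) * (Ctx.lam0 (sig^[ex j] v) : ℂ)) * (((μ h : ℂ) * (1 - (θ β : ℂ))) *
          conj (C.Df φ P' μ' (C.bK (R.rB^[ex j] β) * ((h : C.Phi) : C.S.K)))) := by
    intro v β h
    by_cases hβ : θ β = 1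
    · simp [hβ]
    obtain ⟨y, hy, hxy⟩ := C.pow_mem_B hθ hco (x := C.hpE P (β, h)) (by
      rw [show C.bp (C.hpE P (β, h)) = β from Subtype.ext (C.lp_mul (β : C.L) (h : C.Phi))]; exact hβ)
    rw [R.Ps_val h0 φ P' μ' v hy hxy, map_mul, map_sum, map_inv₀, map_ofNat]
    simp only [Finset.mul_sum, map_mul, Ctx.conj_lam0]
    exact Finset.sum_congr rfl fun j _ => by ring
  rw [Finset.sum_congr rfl fun v _ => Finset.sum_congr rfl fun β _ => Finset.sum_congr rfl fun h _ => hv v β h]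
  have hsw : ∀ T : V4 → Fin 3 → C.D.B → P → ℂ, ∑ v, ∑ β, ∑ h, ∑ j, T v j β h = ∑ j, ∑ β, ∑ h, ∑ v, T v j β h := by
    intro T
    rw [Finset.sum_comm, Finset.sum_congr rfl fun β _ => Finset.sum_comm,
      Finset.sum_congr rfl fun β _ => Finset.sum_congr rfl fun h _ => Finset.sum_comm,
      Finset.sum_congr rfl fun β _ => Finset.sum_comm, Finset.sum_comm]
  simp only [← Finset.mul_sum]
  rw [hsw, Fin.sum_univ_three]
  simp only [← Finset.sum_mul]
  have horth : ∀ n, n = 1 ∨ n = 2 → ∑ v, (Ctx.lam0 v : ℂ) * (Ctx.lam0 (sig^[n] v) : ℂ) = 0 := by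
    rintro n (rfl | rfl)
    · simpa using Ctx.lam_orth 1
    · simpa using Ctx.lam_orth 2
  have h4 : ∑ v, (Ctx.lam0 v : ℂ) * (Ctx.lam0 (sig^[0] v) : ℂ) = 4 := by simpa using Ctx.lam_orth 0
  rw [show ex 0 = 0 from rfl, show ex 1 = 2 from rfl, show ex 2 = 1 from rfl, horth 2 (Or.inr rfl),
    horth 1 (Or.inl rfl), h4]
  simp only [zero_mul, Finset.sum_const_zero, add_zero, Function.iterate_zero, id_eq]
  have hb := C.b_ne
  have hP : (Nat.card P : ℂ) ≠ 0 := Nat.cast_ne_zero.2 Nat.card_pos.ne'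
  simp only [← Finset.mul_sum]
  field_simp

end Rot

theorem bf_odd (β : C.D.B) (f : C.Phi) : Odd (orderOf (C.bK β * (f : C.S.K))) := by
  rw [← Subgroup.orderOf_mk _ ((C.bf_mem_iff (P := ⊤) β f).2 (mem_top f))]
  exact (C.odd_HP ⊤).of_dvd_nat (orderOf_dvd_natCard _)

theorem inv_of_pair {u g : G} (hu : orderOf u = 2) (hug : orderOf (u * g) = 2) : u * g * u⁻¹ = g⁻¹ := by
  rw [inv_eq_of_mul_eq_one_left (sq_of_order_two hu)]
  refine eq_inv_of_mul_eq_one_left ?_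
  calc u * g * u * g = (u * g) * (u * g) := by group
    _ = 1 := sq_of_order_two hug

/-- No pair of involutions gives `v β f` with `f ≠ 1`. -/
theorem pairs_outside (hco : C.e.Coprime C.D.b) (v : V4) (β : C.D.B) {f : C.Phi} (hf : f ≠ 1) :
    pairs (C.pt v β f) = 0 := by
  have : IsEmpty {u : G // orderOf u = 2 ∧ orderOf (u * C.pt v β f) = 2} := by
    refine ⟨fun ⟨u, hu1, hu2⟩ => hf ?_⟩
    set z : C.HP ⊤ := ⟨C.bK β * (f : C.S.K), (C.bf_mem_iff β f).2 (mem_top f)⟩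
    set x := z ^ (2 * C.D.b)
    have hc : Commute (C.vG v) (((z : C.S.K)) : G) := C.vG_comm v z
    have hw : C.pt v β f ^ (2 * C.D.b) = ((x : C.S.K) : G) := by
      rw [pt, show (C.bK β * (f : C.S.K)) = (z : C.S.K) from rfl, hc.mul_pow, pow_mul, pow_two,
        C.V_sq (C.vG_mem v), one_pow, one_mul]
      rfl
    have hze : ∃ y : C.D.B, z ^ C.e = ⟨C.bK y, C.bK_mem ⊤ y⟩ := by
      refine ⟨C.bp (z ^ C.e), Subtype.ext ?_⟩
      have hp1 : C.pr ((z : C.S.K) ^ C.e) = 1 := by rw [map_pow]; exact pow_card_eq_one'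
      show (z : C.S.K) ^ C.e = (z : C.S.K) ^ C.e * (C.pr ((z : C.S.K) ^ C.e) : C.S.K)⁻¹
      rw [hp1, OneMemClass.coe_one, _root_.inv_one, mul_one]
    obtain ⟨y, hy⟩ := hze
    have hxe : x ^ C.e = 1 := by
      rw [← pow_mul, mul_comm, pow_mul, hy]
      refine Subtype.ext ?_
      show C.bK y ^ (2 * C.D.b) = 1
      rw [← map_pow, mul_comm, pow_mul, show y ^ C.D.b = 1 from C.D.card_B ▸ pow_card_eq_one', one_pow, map_one]
    obtain ⟨γ, hγ⟩ := C.conj_pr hco hxe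
    have hinv : u * ((x : C.S.K) : G) * u⁻¹ = ((x : C.S.K) : G)⁻¹ := by
      rw [← hw, ← conj_pow, inv_of_pair hu1 hu2, inv_pow]
    set f' := C.pr (x : C.S.K)
    set c : G := ((C.bK γ : C.S.K) : G)
    have hx : ((x : C.S.K) : G) = c * ((f' : C.S.K) : G) * c⁻¹ := congrArg Subtype.val hγ
    have hn : c⁻¹ * u * c * ((f' : C.S.K) : G) * (c⁻¹ * u * c)⁻¹ = ((f' : C.S.K) : G)⁻¹ := by
      calc c⁻¹ * u * c * ((f' : C.S.K) : G) * (c⁻¹ * u * c)⁻¹
          = c⁻¹ * (u * (c * ((f' : C.S.K) : G) * c⁻¹) * u⁻¹) * c := by group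
        _ = ((f' : C.S.K) : G)⁻¹ := by rw [← hx, hinv, hx]; group
    have hff : f' = f'⁻¹ := Subtype.ext (Subtype.ext
      (C.Phi_conj (f' := ((f' : C.S.K) : G)⁻¹) ⟨f', f'.2, rfl⟩ ⟨(f'⁻¹ : C.Phi), (f'⁻¹).2, rfl⟩ hn))
    have hf' : f' = 1 := odd_sq_one (C.odd.of_dvd_nat (orderOf_dvd_natCard f')) (by
      nth_rewrite 2 [hff]; exact mul_inv_cancel f')
    have hfp : f ^ (2 * C.D.b) = 1 := by
      rw [← hf']
      show f ^ (2 * C.D.b) = C.pr ((z : C.S.K) ^ (2 * C.D.b))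
      rw [map_pow]
      congr 1
      exact (C.pr_mul (β : C.L) f).symm
    have hg := pow_gcd_eq_one.mpr ⟨hfp, (pow_card_eq_one' : f ^ C.e = 1)⟩
    rwa [(Nat.Coprime.mul_left (Nat.coprime_two_left.2 C.odd) hco.symm).gcd_eq_one, pow_one] at hg
  rw [pairs, Nat.card_of_isEmpty]

theorem pairs_t_B {β : C.D.B} (hβ : β ≠ 1) : pairs (C.pt (-1, 1) β 1) = 4 * C.D.b := by
  have h1 : ((β : C.L)) ≠ 1 := fun e => hβ (Subtype.ext e)
  rw [pt, C.vG_t, C.S.pairs_tK (C.bf_odd β 1), show 4 * C.D.b = 2 * (2 * C.D.b) by ring,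
    ← KFacts.inv_B C.D β.2 h1, show C.bK β * ((1 : C.Phi) : C.S.K) = ((β : C.L) : C.S.K) by simp]
  congr 1
  have hL : ∀ x : C.S.K, orderOf x = 2 → x ∈ C.L := fun x hx => C.pr_eq_one.1 (orderOf_eq_one_iff.1
    (Nat.eq_one_of_dvd_coprimes (Nat.coprime_two_left.2 C.odd) (hx ▸ orderOf_map_dvd C.pr x)
      (orderOf_dvd_natCard _)))
  refine Nat.card_congr
    { toFun := fun x => ⟨⟨x.1, hL x.1 x.2.1⟩, by rw [Subgroup.orderOf_mk]; exact x.2.1, Subtype.ext x.2.2⟩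
      invFun := fun x => ⟨(x.1 : C.S.K), by rw [Subgroup.orderOf_coe]; exact x.2.1, congrArg Subtype.val x.2.2⟩
      left_inv := fun x => rfl
      right_inv := fun x => rfl }

namespace Rot

variable {C} (R : C.Rot)

include R in
theorem pairs_one_B (h0 : C.B0 ≠ ⊥) {β : C.D.B} (hβ : β ≠ 1) :
    pairs (C.pt (1, 1) β 1) = pairs (C.pt (-1, 1) β 1) := by
  set g := C.embL (β : C.L)
  have hg1 : C.pt (1, 1) β 1 = g := by simp [pt, show ((1, 1) : V4) = 1 from rfl, g]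
  have hgt : C.pt (-1, 1) β 1 = C.S.t * g := by simp [pt, C.vG_t, g]
  rw [hg1, hgt]
  have hgo : Odd (orderOf g) := C.BG_odd ⟨_, β.2, rfl⟩
  have hct : Commute C.S.t g := (C.BG_t (x := g) ⟨_, β.2, rfl⟩).symm
  have hne : ∀ u : G, u * g * u⁻¹ = g⁻¹ → u ≠ C.S.t := by
    intro u hu e
    rw [e, hct.eq, mul_inv_cancel_right] at hu
    exact C.emb_ne hβ (odd_sq_one hgo (eq_inv_iff_mul_eq_one.1 hu))
  have h2 : ∀ u : G, orderOf u = 2 → orderOf (u * (C.S.t * g)) = 2 →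
      Commute u C.S.t ∧ u * g * u⁻¹ = g⁻¹ := by
    intro u hu1 hu2
    have hi := inv_of_pair hu1 hu2
    obtain ⟨k, hk⟩ := C.D.b_odd
    have hgb : g ^ C.D.b = 1 := by
      rw [← map_pow, show (β : C.L) ^ C.D.b = 1 from
        congrArg Subtype.val (C.D.card_B ▸ pow_card_eq_one' : β ^ C.D.b = 1), map_one]
    have hp : (C.S.t * g) ^ C.D.b = C.S.t := by
      rw [hct.mul_pow, hgb, mul_one, hk, pow_succ, pow_mul, pow_two, C.S.sq_t, one_pow, one_mul]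
    have ht : u * C.S.t * u⁻¹ = C.S.t := by
      rw [← hp, ← conj_pow, hi, inv_pow, hp]
      exact inv_eq_of_mul_eq_one_left C.S.sq_t
    have hc : Commute u C.S.t := mul_inv_eq_iff_eq_mul.1 ht
    refine ⟨hc, ?_⟩
    calc u * g * u⁻¹ = u * C.S.t * u⁻¹ * (u * (C.S.t * g) * u⁻¹) := by
          rw [show C.S.t * g = C.S.t⁻¹ * g by rw [inv_eq_of_mul_eq_one_left C.S.sq_t]]; group
      _ = g⁻¹ := by rw [ht, hi, mul_inv_rev, ← mul_assoc, hct.inv_right.eq, mul_assoc,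
            mul_inv_cancel, mul_one]
  have h1 : ∀ u : G, orderOf u = 2 → orderOf (u * g) = 2 → Commute u C.S.t ∧ u * g * u⁻¹ = g⁻¹ := by
    intro u hu1 hu2
    have hi := inv_of_pair hu1 hu2
    refine ⟨?_, hi⟩
    have hu : u⁻¹ = u := inv_eq_of_mul_eq_one_left (sq_of_order_two hu1)
    obtain ⟨i, hi3, c, hct', hcs, e⟩ := R.norm_V (C.norm_of_conj h0 hβ (y' := β⁻¹) (g := u) (by
      rw [hu]; nth_rewrite 2 [← hu]; rw [hi, Subgroup.coe_inv, map_inv]))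
    set j : Fin 3 := ⟨i, hi3⟩
    have hj : j = 0 := by
      have et : u * C.S.t * u⁻¹ = R.rho ^ i * C.S.t * (R.rho ^ i)⁻¹ := by
        rw [e, show R.rho ^ i * c * C.S.t * (R.rho ^ i * c)⁻¹ = R.rho ^ i * (c * C.S.t * c⁻¹) * (R.rho ^ i)⁻¹ by group,
          hct', mul_inv_cancel_right]
      have h3 : ∀ n : ℕ, R.rho ^ (n + 3) = R.rho ^ n := fun n => by rw [pow_add, R.rho3, mul_one]
      have e2 : R.rho ^ (2 * i) * C.S.t * (R.rho ^ (2 * i))⁻¹ = C.S.t := by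
        have hcV : Commute c (R.rho ^ i * C.S.t * (R.rho ^ i)⁻¹) := by
          refine C.V_comm_of hct' hcs ?_
          have hp := R.rho_pow_pt (0 : Fin 3) (1 : V4) 1 1
          rcases (show i = 0 ∨ i = 1 ∨ i = 2 by omega) with rfl | rfl | rfl
          · simpa using C.t_mem_V
          · rw [pow_one, R.rho_t]; exact C.s_mem_V
          · rw [pow_two, show R.rho * R.rho * C.S.t * (R.rho * R.rho)⁻¹ = R.rho * (R.rho * C.S.t * R.rho⁻¹) * R.rho⁻¹
              by group, R.rho_t, R.rho_s]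
            exact C.ts_mem_V
        have : u * (u * C.S.t * u⁻¹) * u⁻¹ = C.S.t := by
          rw [hu, show u * (u * C.S.t * u) * u = (u * u) * C.S.t * (u * u) by group, sq_of_order_two hu1, one_mul,
            mul_one]
        rw [et, e, show R.rho ^ i * c * (R.rho ^ i * C.S.t * (R.rho ^ i)⁻¹) * (R.rho ^ i * c)⁻¹ =
          R.rho ^ i * (c * (R.rho ^ i * C.S.t * (R.rho ^ i)⁻¹) * c⁻¹) * (R.rho ^ i)⁻¹ by group, hcV.eq,
          mul_inv_cancel_right] at this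
        rw [two_mul, pow_add]
        calc _ = R.rho ^ i * (R.rho ^ i * C.S.t * (R.rho ^ i)⁻¹) * (R.rho ^ i)⁻¹ := by group
          _ = C.S.t := this
      rcases (show i = 0 ∨ i = 1 ∨ i = 2 by omega) with rfl | rfl | rfl
      · rfl
      · exact absurd (R.rho_pow_t_inj (j := 2) (j' := 0) (by simpa using e2)) (by decide)
      · refine absurd (R.rho_pow_t_inj (j := 1) (j' := 0) ?_) (by decide)
        rw [show 2 * 2 = 1 + 3 from rfl, h3] at e2
        simpa using e2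
    have hi0 : i = 0 := congrArg Fin.val hj
    rw [e, hi0, pow_zero, one_mul]
    exact hct'
  have hot : ∀ u : G, orderOf u = 2 → Commute u C.S.t → u * g * u⁻¹ = g⁻¹ → orderOf (u * C.S.t) = 2 := by
    intro u hu hc hinv
    refine orderOf_eq_prime ?_ fun e => hne u hinv ?_
    · rw [hc.mul_pow, pow_two, pow_two, sq_of_order_two hu, C.S.sq_t, one_mul]
    · rw [eq_inv_of_mul_eq_one_left e, inv_eq_of_mul_eq_one_left C.S.sq_t]
  exact Nat.card_congr
    { toFun := fun u => ⟨u.1 * C.S.t, hot _ u.2.1 (h1 _ u.2.1 u.2.2).1 (h1 _ u.2.1 u.2.2).2, by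
        rw [mul_assoc, ← mul_assoc C.S.t, C.S.sq_t, one_mul]; exact u.2.2⟩
      invFun := fun u => ⟨u.1 * C.S.t, hot _ u.2.1 (h2 _ u.2.1 u.2.2).1 (h2 _ u.2.1 u.2.2).2, by
        rw [mul_assoc]; exact u.2.2⟩
      left_inv := fun u => Subtype.ext (by simp [mul_assoc, C.S.sq_t])
      right_inv := fun u => Subtype.ext (by simp [mul_assoc, C.S.sq_t]) }

include R in
/-- The pair count at `v β` does not depend on `v`. -/
theorem pairs_B (h0 : C.B0 ≠ ⊥) {β : C.D.B} (hβ : β ≠ 1) (v : V4) : pairs (C.pt v β 1) = 4 * C.D.b := by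
  have hne : ∀ {β : C.D.B}, β ≠ 1 → R.rB β ≠ 1 := fun hb e => hb (R.rB_bij.1 (e.trans (map_one R.rB).symm))
  have hs : ∀ {β : C.D.B}, β ≠ 1 → pairs (C.pt (1, -1) β 1) = 4 * C.D.b := fun {β} hb => by
    rw [show C.pt (1, -1) β 1 = R.rho * C.pt (-1, 1) (R.rB (R.rB β)) 1 * R.rho⁻¹ by
      rw [R.rho_pt, R.rB_three]; rfl, pairs_class, C.pairs_t_B (hne (hne hb))]
  obtain ⟨a, c⟩ := v
  rcases Int.units_eq_one_or a with rfl | rfl <;> rcases Int.units_eq_one_or c with rfl | rfl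
  · rw [R.pairs_one_B h0 hβ, C.pairs_t_B hβ]
  · exact hs hβ
  · exact C.pairs_t_B hβ
  · rw [show C.pt (-1, -1) β 1 = R.rho * C.pt (1, -1) (R.rB (R.rB β)) 1 * R.rho⁻¹ by
      rw [R.rho_pt, R.rB_three]; rfl, pairs_class, hs (hne (hne hβ))]

include R in
/-- The equation sum of `Ψ` vanishes. -/
theorem Ps_pairs (h0 : C.B0 ≠ ⊥) (hco : C.e.Coprime C.D.b) (θ : C.D.B →* ℂˣ) (P : Subgroup C.Phi)
    (μ : C.Phi →* ℂˣ) :
    ∑ a : G, ∑ b : G, C.Ps θ P μ (a * C.S.t * a⁻¹ * (b * C.S.t * b⁻¹)) = 0 := by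
  rw [sum_pairs C.S C.hconj, C.inner_fP θ P μ (fun g h => by simp only [pairs_class])]
  have hv : ∀ (v : V4) (β : C.D.B) (h : P), (Ctx.lam0 v : ℂ) * ((μ h : ℂ) * (1 - (θ β : ℂ))) *
      conj ((pairs (C.pt v β (h : C.Phi)) : ℕ) : ℂ) = (Ctx.lam0 v : ℂ) * (if (h : C.Phi) = 1 then
        (μ h : ℂ) * (1 - (θ β : ℂ)) * ((4 * C.D.b : ℕ) : ℂ) else 0) := by
    intro v β h
    by_cases hβ : β = 1
    · subst hβ; simp
    by_cases hh : (h : C.Phi) = 1
    · rw [if_pos hh, hh, R.pairs_B h0 hβ v, map_natCast]; ring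
    · rw [if_neg hh, C.pairs_outside hco v β hh, map_natCast]; simp
  simp only [hv, ← Finset.mul_sum, ← Finset.sum_mul, Ctx.lam0_sum, zero_mul, mul_zero]

include R in
theorem inner_Ps_one (θ : C.D.B →* ℂˣ) (P : Subgroup C.Phi) (μ : C.Phi →* ℂˣ) :
    classInner (C.Ps θ P μ) (fun _ => 1) = 0 := by
  rw [C.inner_fP θ P μ (fun _ _ => rfl)]
  simp only [map_one, mul_one, ← Finset.mul_sum, ← Finset.sum_mul, Ctx.lam0_sum, zero_mul, mul_zero]

/-- `⟨Ψ, lift Φ⟩`. -/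
theorem inner_Ps_lift (θ : C.D.B →* ℂˣ) (P : Subgroup C.Phi) (μ : C.Phi →* ℂˣ) {Φ : C.S.K → ℂ}
    (hΦ : IsClassFunction C.S.K Φ) (hodd : ∀ z : C.S.K, ¬ Odd (orderOf z) → Φ z = 0) :
    classInner (C.Ps θ P μ) (C.S.lift Φ) = 2⁻¹ * (classInner (C.Df θ P μ) Φ -
      classInner (C.Df (θ.comp R.rB) P μ) Φ - classInner (C.Df ((θ.comp R.rB).comp R.rB) P μ) Φ) := by
  have hcl : IsClassFunction G (C.S.lift Φ) := isClassFunction_indFun _ _
  have e1 : ∀ β f, C.S.lift Φ (C.pt (1, 1) β f) = 0 := fun β f => by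
    rw [pt, show ((1, 1) : V4) = 1 from rfl, map_one, one_mul]
    exact lift_odd _ _ (by rw [Subgroup.orderOf_coe]; exact C.bf_odd β f)
  have et : ∀ β f, C.S.lift Φ (C.pt (-1, 1) β f) = 2 * Φ (C.bK β * (f : C.S.K)) := fun β f => by
    rw [pt, C.vG_t]
    exact C.S.lift_tK hΦ hodd (C.bf_odd β f)
  have es : ∀ β f, C.S.lift Φ (C.pt (1, -1) β f) = 2 * Φ (C.bK (R.rB (R.rB β)) * (f : C.S.K)) := fun β f => by
    rw [show C.pt (1, -1) β f = R.rho * C.pt (-1, 1) (R.rB (R.rB β)) f * R.rho⁻¹ by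
      rw [R.rho_pt, R.rB_three]; rfl, hcl, et]
  have ets : ∀ β f, C.S.lift Φ (C.pt (-1, -1) β f) = 2 * Φ (C.bK (R.rB β) * (f : C.S.K)) := fun β f => by
    rw [show C.pt (-1, -1) β f = R.rho * C.pt (1, -1) (R.rB (R.rB β)) f * R.rho⁻¹ by
      rw [R.rho_pt, R.rB_three]; rfl, hcl, es, R.rB_three]
  rw [C.inner_fP θ P μ hcl, C.inner_Df_fn θ P μ hΦ, C.inner_Df_fn _ P μ hΦ, C.inner_Df_fn _ P μ hΦ]
  set w : C.D.B → C.D.B → P → ℂ := fun x β h =>
    ((μ h : ℂ) * (1 - (θ x : ℂ))) * conj (Φ (C.bK β * ((h : C.Phi) : C.S.K)))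
  have hr : ∀ h : P, ∑ β, w β (R.rB β) h = ∑ β, w (R.rB (R.rB β)) β h :=
    fun h => Fintype.sum_bijective R.rB R.rB_bij _ _ fun β => by rw [R.rB_three]
  have hrr : ∀ h : P, ∑ β, w β (R.rB (R.rB β)) h = ∑ β, w (R.rB β) β h :=
    fun h => Fintype.sum_bijective _ (R.rB_bij.comp R.rB_bij) _ _ fun β => by
      simp only [Function.comp_apply, R.rB_three]
  have hL : ∑ v : V4, ∑ β : C.D.B, ∑ h : P, (Ctx.lam0 v : ℂ) * ((μ h : ℂ) * (1 - (θ β : ℂ))) *
      conj (C.S.lift Φ (C.pt v β (h : C.Phi))) =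
      2 * (∑ h : P, ∑ β, w β β h - ∑ h : P, ∑ β, w (R.rB β) β h - ∑ h : P, ∑ β, w (R.rB (R.rB β)) β h) := by
    simp only [← hr, ← hrr]
    rw [← Finset.sum_sub_distrib, ← Finset.sum_sub_distrib, Finset.mul_sum, Finset.sum_comm,
      Finset.sum_congr rfl fun β _ => Finset.sum_comm, Finset.sum_comm]
    refine Finset.sum_congr rfl fun h _ => ?_
    rw [← Finset.sum_sub_distrib, ← Finset.sum_sub_distrib, Finset.mul_sum]
    refine Finset.sum_congr rfl fun β _ => ?_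
    rw [sum_V4, e1, et, es, ets]
    simp [w, Ctx.lam0_val, map_ofNat]
    ring
  rw [hL]
  simp only [MonoidHom.comp_apply, Finset.sum_comm (γ := P), w]
  have hb := C.b_ne
  have hP : (Nat.card P : ℂ) ≠ 0 := Nat.cast_ne_zero.2 Nat.card_pos.ne'
  field_simp
  ring

include R in
/-- The multiplicities on `V × B`. -/
theorem Ps_coeff {χ : G → ℂ} (hχ : IsCharacter G χ) {c : ℤ}
    (hc : ∀ θ : C.D.B →* ℂˣ, θ ≠ 1 →
      ∑ μ, classInner (C.Ps θ (C.stab θ) μ) χ = ((C.stab θ).index : ℂ) * c) :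
    ∃ m : ℤ, χ 1 - conj (χ C.S.t) = 4 * (c : ℂ) + 4 * (C.D.b : ℂ) * m := by
  haveI := finite_hom_units C.D.B
  letI : Fintype (C.D.B →* ℂˣ) := Fintype.ofFinite _
  have hcl := isClassFunction_character hχ
  set T : (C.D.B →* ℂˣ) → ℂ := fun θ => (4 * (C.D.b : ℂ))⁻¹ *
    ∑ v : V4, ∑ y : C.D.B, (Ctx.lam0 v : ℂ) * (θ y : ℂ) * conj (χ (C.pt v y 1)) with hT
  have hTθ' : ∀ θ : C.D.B →* ℂˣ, θ ≠ 1 → T θ = T 1 - c := by
    intro θ hθ
    have hm : ((C.stab θ).index : ℂ) ≠ 0 := Nat.cast_ne_zero.2 Subgroup.index_ne_zero_of_finite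
    have key : ∑ μ, classInner (C.Ps θ (C.stab θ) μ) χ = ((C.stab θ).index : ℂ) * (T 1 - T θ) := by
      simp only [C.inner_fP θ (C.stab θ) _ hcl, ← Finset.mul_sum]
      rw [Finset.sum_comm]
      have he : (Fintype.card (C.Phi →* ℂˣ) : ℂ) = Nat.card (C.stab θ) * (C.stab θ).index := by
        have h := sum_hom_apply C.Phi_comm' (1 : C.Phi)
        simp only [map_one, Units.val_one, Finset.sum_const, Finset.card_univ, nsmul_eq_mul, mul_one, if_true] at h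
        rw [h]
        exact_mod_cast (C.stab θ).card_mul_index.symm
      have hsum : ∀ v β, ∑ μ : C.Phi →* ℂˣ, ∑ h : C.stab θ, (Ctx.lam0 v : ℂ) *
          ((μ h : ℂ) * (1 - (θ β : ℂ))) * conj (χ (C.pt v β (h : C.Phi))) =
          (Fintype.card (C.Phi →* ℂˣ) : ℂ) * ((Ctx.lam0 v : ℂ) * (1 - (θ β : ℂ)) * conj (χ (C.pt v β 1))) := by
        intro v β
        rw [Finset.sum_comm, Finset.sum_eq_single (1 : C.stab θ)]
        · simp [mul_assoc]
        · intro h _ hh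
          rw [Finset.sum_congr rfl (g := fun μ : C.Phi →* ℂˣ => (μ h : ℂ) * ((Ctx.lam0 v : ℂ) *
            (1 - (θ β : ℂ)) * conj (χ (C.pt v β (h : C.Phi))))) fun μ _ => by ring, ← Finset.sum_mul,
            sum_hom_apply C.Phi_comm', if_neg (show (h : C.Phi) ≠ 1 from fun e => hh (Subtype.ext e)), zero_mul]
        · intro h; exact absurd (Finset.mem_univ _) h
      rw [Finset.sum_congr rfl fun v _ => Finset.sum_comm]
      rw [Finset.sum_congr rfl fun v _ => Finset.sum_congr rfl fun β _ => hsum v β]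
      simp only [← Finset.mul_sum, he, hT, MonoidHom.one_apply, Units.val_one, mul_sub, sub_mul,
        Finset.sum_sub_distrib, mul_one]
      have hb := C.b_ne
      have hP : (Nat.card (C.stab θ) : ℂ) ≠ 0 := Nat.cast_ne_zero.2 Nat.card_pos.ne'
      field_simp
    rw [hc θ hθ] at key
    linear_combination mul_left_cancel₀ hm key
  let φB : V4 × C.D.B →* G := MonoidHom.noncommCoprod C.vG (C.embL.comp C.D.B.subtype)
    fun v y => (C.V_BG (C.vG_mem v) ⟨_, y.2, rfl⟩).symm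
  have hφB : ∀ v y, φB (v, y) = C.pt v y 1 := fun v y => by
    show C.vG v * C.embL (y : C.L) = _
    simp [pt]
  obtain ⟨n, hn⟩ := classInner_natCast (isCharacter_linear (Ctx.lam0.comp (MonoidHom.fst V4 C.D.B)))
    (isCharacter_comp φB hχ)
  have hn1 : T 1 = n := by
    rw [← hn, classInner, Nat.card_prod, C.D.card_B, Fintype.sum_prod_type, Nat.card_eq_fintype_card (α := V4),
      show Fintype.card V4 = 4 from rfl]
    simp [hT, hφB]
  have hsum : ∑ θ : C.D.B →* ℂˣ, T θ = (conj (χ 1) - conj (χ C.S.t)) / 4 := by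
    simp only [hT]
    rw [← Finset.mul_sum, Finset.sum_comm, Finset.sum_congr rfl fun v _ => Finset.sum_comm]
    have h : ∀ v : V4, ∑ y : C.D.B, ∑ θ : C.D.B →* ℂˣ, (Ctx.lam0 v : ℂ) * (θ y : ℂ) * conj (χ (C.pt v y 1)) =
        (Ctx.lam0 v : ℂ) * (C.D.b : ℂ) * conj (χ (C.vG v)) := by
      intro v
      rw [Finset.sum_congr rfl (g := fun y => if y = 1 then
        (Ctx.lam0 v : ℂ) * (C.D.b : ℂ) * conj (χ (C.pt v y 1)) else 0) fun y _ => by
          rw [← Finset.sum_mul, ← Finset.mul_sum, sum_hom_apply C.B_comm', C.D.card_B]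
          split_ifs <;> ring,
        Finset.sum_ite_eq', if_pos (Finset.mem_univ _), C.pt_one]
    have e1 : χ C.s = χ C.S.t := by rw [← R.rho_t, hcl]
    have e2 : χ (C.S.t * C.s) = χ C.S.t := by rw [← R.rho_s, hcl, e1]
    rw [Finset.sum_congr rfl fun v _ => h v, sum_V4, show C.vG (1, 1) = 1 from map_one _, C.vG_s, C.vG_t, C.vG_ts,
      e1, e2]
    have := C.b_ne
    simp [Ctx.lam0_val]
    field_simp
    ring
  refine ⟨n - c, ?_⟩
  rw [← Finset.add_sum_erase _ _ (Finset.mem_univ (1 : C.D.B →* ℂˣ)),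
    Finset.sum_congr rfl fun θ hθ => hTθ' θ (Finset.mem_erase.1 hθ).1, Finset.sum_const,
    Finset.card_erase_of_mem (Finset.mem_univ _), Finset.card_univ, card_hom_comm C.D.B_comm, C.D.card_B, hn1,
    nsmul_eq_mul, Nat.cast_sub C.D.b_odd.pos] at hsum
  obtain ⟨d, hd⟩ := charOne_eq_natCast hχ
  rw [hd, map_natCast] at hsum
  rw [hd]
  push_cast at hsum ⊢
  linear_combination (-4 : ℂ) * hsum

/-- The parity inside an orbit of the rotation. -/
theorem parity_Df {θ : C.D.B →* ℂˣ} {P : Subgroup C.Phi} (hθ : P ≤ C.stab θ) (μ : C.Phi →* ℂˣ)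
    (χ : IrrCharacter G) :
    (2 : ℤ) ∣ C.LL (C.Df (θ.comp R.rB) P μ) χ - C.LL (C.Df θ P μ) χ := by
  have hθ' : P ≤ C.stab (θ.comp R.rB) := by rw [R.stab_comp]; exact hθ
  have hχ := irr_isCharacter χ.2
  have hcl := isClassFunction_character hχ
  have hr : IsClassFunction C.S.K (fun z => (χ : G → ℂ) (C.S.t * z)) := fun z h => by
    show (χ : G → ℂ) (C.S.t * ((h * z * h⁻¹ : C.S.K) : G)) = (χ : G → ℂ) (C.S.t * z)
    rw [← hcl (C.S.t * (z : G)) (h : G)]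
    congr 1
    rw [Subgroup.coe_mul, Subgroup.coe_mul, Subgroup.coe_inv, ← mul_assoc, ← mul_assoc,
      show C.S.t * (h : G) = (h : G) * C.S.t from (C.S.comm_t h.2).symm]
    group
  let S : (C.D.B →* ℂˣ) → ℤˣ → ℂ := fun θ a => ((C.D.b : ℂ) * Nat.card P)⁻¹ * ∑ β : C.D.B, ∑ h : P,
    ((μ h : ℂ) * (1 - (θ β : ℂ))) * conj ((χ : G → ℂ) (C.pt (a, 1) β (h : C.Phi)))
  have e : ∀ θ' : C.D.B →* ℂˣ, P ≤ C.stab θ' → (C.LL (C.Df θ' P μ) χ : ℂ) = S θ' (-1) := by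
    intro θ' h'
    rw [LL, ← coord_spec (C.S.gen_lift (C.gen_Df h' μ)), C.S.inner_lift _ hcl]
    change classInner (C.Df θ' P μ) (fun z : C.S.K => (χ : G → ℂ) (C.S.t * z)) = _
    rw [C.inner_Df_fn θ' P μ hr]
    simp only [S, pt, C.vG_t]
  have hm : ∀ θ' : C.D.B →* ℂˣ, P ≤ C.stab θ' → ∃ m m' : ℤ, S θ' 1 = m + m' ∧ S θ' (-1) = m - m' := by
    intro θ' h'
    let ι : ℤˣ × C.HP P →* G := (C.phiP P).comp
      (((MonoidHom.inl ℤˣ ℤˣ).comp (MonoidHom.fst ℤˣ (C.HP P))).prod (MonoidHom.snd ℤˣ (C.HP P)))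
    let sgn : ℤˣ × C.HP P →* ℂˣ := (Units.map (Int.castRingHom ℂ).toMonoidHom).comp (MonoidHom.fst _ _)
    let a1 : ℤˣ × C.HP P →* ℂˣ := (μ.comp (C.pr.comp (C.HP P).subtype)).comp (MonoidHom.snd _ _)
    let a2 : ℤˣ × C.HP P →* ℂˣ := (C.chi h' μ).comp (MonoidHom.snd _ _)
    obtain ⟨n1, hn1⟩ := classInner_natCast (isCharacter_linear a1) (isCharacter_comp ι hχ)
    obtain ⟨n2, hn2⟩ := classInner_natCast (isCharacter_linear a2) (isCharacter_comp ι hχ)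
    obtain ⟨k1, hk1⟩ := classInner_natCast (isCharacter_linear (a1 * sgn)) (isCharacter_comp ι hχ)
    obtain ⟨k2, hk2⟩ := classInner_natCast (isCharacter_linear (a2 * sgn)) (isCharacter_comp ι hχ)
    refine ⟨(n1 : ℤ) - n2, (k1 : ℤ) - k2, ?_, ?_⟩
    all_goals
      push_cast
      rw [← hn1, ← hn2, ← hk1, ← hk2, ← classInner_sub_left, ← classInner_sub_left]
      simp only [classInner, Nat.card_prod, C.card_HP, Fintype.sum_prod_type,
        show ∀ f : ℤˣ → ℂ, ∑ u, f u = f 1 + f (-1) from fun f => by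
          rw [show (Finset.univ : Finset ℤˣ) = {1, -1} from rfl, Finset.sum_pair (by decide)],
        ← (C.hpE P).sum_comp]
      have hψ := C.psi_eq h' μ
      have hval : ∀ β (h : P), ((a1 (1, C.hpE P (β, h)) : ℂ) - (a2 (1, C.hpE P (β, h)) : ℂ)) =
          (μ h : ℂ) * (1 - (θ' β : ℂ)) := fun β h => by
        rw [← C.psi_hpE θ' μ β h, hψ]
        rfl
      simp only [S, ← hval]
      have hb := C.b_ne
      have hP : (Nat.card P : ℂ) ≠ 0 := Nat.cast_ne_zero.2 Nat.card_pos.ne'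
      simp [a1, a2, sgn, ι, Function.comp_def, C.phiP_hpE, Nat.card_eq_fintype_card (α := ℤˣ),
        show Fintype.card ℤˣ = 2 from rfl, -map_mul, sub_mul, mul_sub, Finset.sum_sub_distrib,
        Finset.sum_add_distrib, Finset.sum_neg_distrib]
      field_simp
      ring_nf
      simp only [Finset.sum_add_distrib, Finset.sum_neg_distrib]
      ring
  have hinv : S (θ.comp R.rB) 1 = S θ 1 := by
    simp only [S]
    congr 1
    refine Fintype.sum_bijective R.rB R.rB_bij _ _ fun β => Finset.sum_congr rfl fun h _ => ?_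
    rw [MonoidHom.comp_apply]
    congr 2
    rw [show ((1, 1) : V4) = 1 from rfl]
    nth_rewrite 2 [← map_one sig]
    rw [← R.rho_pt, hcl]
  obtain ⟨m, m', a, b⟩ := hm θ hθ
  obtain ⟨k, k', a', b'⟩ := hm _ hθ'
  refine ⟨k - m, ?_⟩
  apply Int.cast_injective (α := ℂ)
  push_cast
  rw [e _ hθ, e _ hθ', b, b']
  rw [hinv, a] at a'
  linear_combination a'

end Rot

end Frame

end Cfsg.Agent.Walter.JR
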