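import Cfsg.Agent.Lib.Walter.JR.CentPhi
import Cfsg.Agent.Lib.Walter.JR.Res3.RFinal

/-!
# `q₀ = 3`, `3 ∣ e`

The order of `C(τ)` from `card_cent` gives the bound on its 3-subgroups that `res_three_false` uses.
-/

set_option autoImplicit false
set_option linter.unusedSectionVars false
set_option linter.style.haveILetI false

namespace Cfsg.Agent.Walter.JR

open Subgroup

universe u

theorem not_three_q1 {m : ℕ} (hm : 0 < m) : ¬ 3 ∣ ((3 ^ m) ^ 3 + 1) * (3 ^ m - 1) := by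
  have h3 : 3 ∣ 3 ^ m := dvd_pow_self 3 hm.ne'
  have h3' : 3 ∣ (3 ^ m) ^ 3 := h3.trans (dvd_pow_self _ (by norm_num))
  have h1 : 1 ≤ 3 ^ m := Nat.one_le_pow _ _ (by norm_num)
  intro h
  rcases Nat.prime_three.dvd_mul.1 h with h | h <;> omega

theorem Res3.Cfg.tb_of {G : Type u} [Group G] [Finite G] {F : Type} [Field F] [Fintype F] (c : Res3.Cfg G F)
    (hs : Smaller.{u} (Nat.card G)) (hm : 1 < c.mm) : c.TB := by
  intro P hP h3
  obtain ⟨y, hy, hty⟩ := c.tau_mem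
  set fP : c.C.Phi := ⟨y, hy⟩
  have hgel : c.C.gel fP = c.tau := hty
  have hord : orderOf fP = c.t3 := by
    rw [← c.C.orderOf_gel, hgel, Res3.Cfg.tau, orderOf_pow, c.ord_f, Nat.gcd_eq_right c.mm_dvd]
    conv_lhs => rw [← c.t3_mul_mm]
    exact Nat.mul_div_cancel _ c.mm_pos
  have hne : fP ≠ 1 := fun h => by
    rw [h, orderOf_one] at hord
    have := c.three_dvd_t3
    omega
  have hcard : Nat.card (c.C.fixF fP) = 3 ^ c.mm := by
    refine Nat.pow_left_injective c.t3_pos.ne' ?_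
    show Nat.card (c.C.fixF fP) ^ c.t3 = (3 ^ c.mm) ^ c.t3
    rw [← hord, c.C.card_fixF, hord, c.hq, ← pow_mul, mul_comm, c.t3_mul_mm]
  obtain ⟨-, -, -, hC⟩ := c.C.card_cent hs hne (by
    rw [hcard]
    calc 5 < 3 ^ 2 := by norm_num
      _ ≤ 3 ^ c.mm := Nat.pow_le_pow_right (by norm_num) hm)
  rw [hgel, hcard, show c.C.e = c.ee from c.eq] at hC
  have hdvd : Nat.card P ∣ c.mm * (((3 ^ c.mm) ^ 3 + 1) * (3 ^ c.mm - 1)) * (c.t3 * (3 ^ c.mm) ^ 3) := by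
    have h := Subgroup.card_dvd_of_le hP
    rw [hC, ← c.t3_mul_mm] at h
    rw [show c.mm * (((3 ^ c.mm) ^ 3 + 1) * (3 ^ c.mm - 1)) * (c.t3 * (3 ^ c.mm) ^ 3) =
      c.t3 * c.mm * ((3 ^ c.mm) ^ 3 * ((3 ^ c.mm) ^ 3 + 1) * (3 ^ c.mm - 1)) by ring]
    exact h
  haveI := Fact.mk Nat.prime_three
  obtain ⟨k, hk⟩ := IsPGroup.iff_card.1 h3
  refine Nat.Coprime.dvd_of_dvd_mul_left ?_ hdvd
  rw [hk]
  refine Nat.Coprime.pow_left _ ((Nat.prime_three.coprime_iff_not_dvd).2 fun h => ?_)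
  rcases Nat.prime_three.dvd_mul.1 h with h | h
  · exact c.not_three_mm h
  · exact not_three_q1 c.mm_pos h

theorem three_false {G : Type u} [Group G] [Finite G] [IsSimpleGroup G] {F : Type} [Field F] [Fintype F]
    (C : Frame G F) (hs : Smaller.{u} (Nat.card G)) {e : ℕ} (h3 : 3 ∣ e) (hC : C.e = e)
    (hq : Fintype.card F = 3 ^ e) : False :=
  Res3.res_three_false C h3 hC hq fun c _ hm => c.tb_of hs hm

end Cfsg.Agent.Walter.JR
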