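import Cfsg.Agent.Lib.Walter.JR.SepTag

/-!
# The functions of different `μ` have disjoint coordinates in `G`

A character of `G` in the support of a lifted function belongs to a block induced from a block of `C(t)` containing
one of the constituents, so its central character at a generator of `Φ` is determined modulo the maximal ideal.
-/

set_option autoImplicit false
set_option linter.unusedSectionVars false
set_option linter.unusedSimpArgs false
set_option linter.style.haveILetI false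
set_option maxHeartbeats 800000

open Cfsg
open scoped ComplexConjugate Classical

namespace Cfsg.Agent.Walter.JR

open Subgroup Cfsg.Agent.Char Cfsg.Agent.Char.ReeThree Cfsg.Agent.Char.ReeOrder

universe u

namespace Frame

variable {G : Type u} [Group G] [Finite G] {F : Type} [Field F] [Fintype F] (C : Frame G F) [Fintype G]
variable {M : Ideal AlgInt}

/-- The coordinates of a lifted function. -/
noncomputable def LL (Φ : C.S.K → ℂ) : IrrCharacter G → ℤ := coord (C.S.lift Φ)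

/-- `K` inside `C(t)`. -/
noncomputable def toC : C.S.K →* C.S.C := Subgroup.inclusion C.S.K_le

theorem res_irr {ξ : C.S.C → ℂ} (hξ : IsIrrCharacter C.S.C ξ) : IsIrrCharacter C.S.K (ξ ∘ C.toC) := by
  refine isIrr_of_norm_one (isCharacter_comp C.toC (irr_isCharacter hξ)) ?_
  have htc : (⟨C.S.t, C.S.t_mem_C⟩ : C.S.C) ∈ Subgroup.center C.S.C := mem_center_iff.2 fun c => Subtype.ext (C.S.mem_C.1 c.2)
  have hnorm : ∀ y : C.S.C, ξ (⟨C.S.t, C.S.t_mem_C⟩ * y) * conj (ξ (⟨C.S.t, C.S.t_mem_C⟩ * y)) = ξ y * conj (ξ y) := by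
    intro y
    rw [Complex.mul_conj, Complex.mul_conj, Complex.normSq_eq_norm_sq, Complex.normSq_eq_norm_sq,
      character_central_mul hξ htc y]
  set f : C.S.C → ℂ := fun c => ξ c * conj (ξ c)
  have h1 : ∑ c : C.S.C, f c = 2 * ∑ z : C.S.K, f (C.toC z) := by
    have e : ∑ c : C.S.C, (if (c : G) ∈ C.S.K then f c else 0) = ∑ z : C.S.K, f (C.toC z) := by
      rw [← Finset.sum_filter]
      refine Finset.sum_bij' (fun c hc => ⟨(c : G), (Finset.mem_filter.1 hc).2⟩) (fun z _ => C.toC z)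
        (fun _ _ => Finset.mem_univ _) (fun z _ => Finset.mem_filter.2 ⟨Finset.mem_univ _, z.2⟩)
        (fun c _ => Subtype.ext rfl) (fun z _ => Subtype.ext rfl) (fun c _ => rfl)
    have e' := C.S.sum_C (fun c => if (c : G) ∈ C.S.K then 0 else f c) fun c hc => if_pos hc
    rw [Finset.sum_congr rfl (g := fun z : C.S.K => f (C.toC z)) fun z _ => ?_] at e'
    · rw [two_mul]
      nth_rewrite 1 [← e]
      rw [← e', ← Finset.sum_add_distrib]
      exact Finset.sum_congr rfl fun c _ => by split_ifs <;> ring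
    · rw [if_neg (C.S.not_both z.2)]
      exact hnorm (C.toC z)
  have h := irr_self hξ
  rw [classInner, h1, C.S.card_C] at h
  rw [classInner, ← h]
  push_cast
  simp only [f, Function.comp_apply]
  field_simp

theorem induced_eq {ξ : C.S.C → ℂ} :
    inducedCentralChar C.S.C ξ ((C.f0 : C.S.K) : G) = C.tag (ξ ∘ C.toC) := by
  have hord : Odd (orderOf ((C.f0 : C.S.K) : G)) := by
    rw [Subgroup.orderOf_coe, Subgroup.orderOf_coe, C.f0_order]; exact C.odd
  have hK : ∀ c : C.S.C, IsConj ((C.f0 : C.S.K) : G) (c : G) → (c : G) ∈ C.S.K := by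
    intro c hc
    refine (C.S.split c.2).resolve_right fun h => ?_
    obtain ⟨g, hg⟩ := isConj_iff.1 hc
    obtain ⟨k, hk⟩ := hord
    have ho : (c : G) ^ (2 * k + 1) = 1 := by
      rw [← hg, conj_pow, ← hk, pow_orderOf_eq_one]; group
    have hcm : Commute C.S.t (C.S.t * (c : G)) := (C.S.comm_t h).symm
    have e : (C.S.t * (C.S.t * (c : G))) ^ (2 * k + 1) = 1 := by rw [← mul_assoc, C.S.sq_t, one_mul, ho]
    rw [hcm.mul_pow, pow_succ C.S.t, pow_mul, pow_two, C.S.sq_t, one_pow, one_mul] at e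
    exact C.S.t_not_mem (by rw [eq_inv_of_mul_eq_one_left e]; exact inv_mem (pow_mem h _))
  rw [tag, inducedCentralChar, Function.comp_apply, map_one, Finset.sum_div]
  rw [finsum_mem_eq_finite_toFinset_sum _ (Set.toFinite _)]
  refine (Finset.sum_bij' (fun h _ => C.toC h) (fun c hc => ⟨(c : G), hK c ((Set.Finite.mem_toFinset
    (Set.toFinite {h : C.S.C | IsConj ((C.f0 : C.S.K) : G) (h : G)})).1 hc)⟩) ?_ ?_
    (fun h _ => Subtype.ext rfl) (fun c _ => Subtype.ext rfl) (fun h _ => rfl)).symm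
  · intro h hh
    exact (Set.Finite.mem_toFinset _).2 (C.mem_Tset.1 hh)
  · intro c hc
    exact C.mem_Tset.2 ((Set.Finite.mem_toFinset
      (Set.toFinite {h : C.S.C | IsConj ((C.f0 : C.S.K) : G) (h : G)})).1 hc)

/-- A character in the support of a lifted function is linked to a constituent. -/
theorem link (hM : IsPModular 2 M) {Φ : C.S.K → ℂ} (hg : IsGeneralizedCharacter C.S.K Φ)
    (h0 : ∀ z : C.S.K, ¬ Odd (orderOf z) → Φ z = 0) {χ : IrrCharacter G} (hχ : C.LL Φ χ ≠ 0) :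
    ∃ ξ : IrrCharacter C.S.K, classInner Φ (ξ : C.S.K → ℂ) ≠ 0 ∧
      MemLocalIdeal M (C.tag (ξ : C.S.K → ℂ) - centralChar (χ : G → ℂ) ((C.f0 : C.S.K) : G)) := by
  have hP := pmod_prime hM
  by_contra hno
  push Not at hno
  apply hχ
  apply Int.cast_injective (α := ℂ)
  rw [LL, ← coord_spec (C.S.gen_lift hg), C.S.inner_lift Φ (isClassFunction_character (irr_isCharacter χ.2)),
    Int.cast_zero]
  refine mul_eq_zero_of_right _ ?_
  letI : Fintype C.S.C := Fintype.ofFinite _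
  set S := (Finset.univ : Finset (IrrCharacter C.S.C)).image (fun ξ : IrrCharacter C.S.C => blockOf M (ξ : C.S.C → ℂ))
  set σ := secFun C.S.t (χ : G → ℂ)
  have hsplit : ∀ z : C.S.K, Φ z * conj ((χ : G → ℂ) (C.S.t * z)) =
      ∑ b ∈ S, Φ z * conj (blockPart b σ (C.toC z)) := fun z => by
    rw [← Finset.mul_sum, ← map_sum, ← eq_sum_blockPart hP
      (isClassFunction_secFun (isClassFunction_character (irr_isCharacter χ.2))) (C.toC z)]
    rfl
  rw [Finset.sum_congr rfl fun z _ => hsplit z, Finset.sum_comm]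
  refine Finset.sum_eq_zero fun b hb => ?_
  obtain ⟨ξ0, -, rfl⟩ := Finset.mem_image.1 hb
  by_cases hind : IsInducedBlock M C.S.C (blockOf M (ξ0 : C.S.C → ℂ)) (blockOf M (χ : G → ℂ))
  · simp only [blockPart_eq, map_sum, map_mul, Finset.mul_sum]
    rw [Finset.sum_comm]
    refine Finset.sum_eq_zero fun ξ hξ => ?_
    set ξK : IrrCharacter C.S.K := ⟨(ξ : C.S.C → ℂ) ∘ C.toC, C.res_irr ξ.2⟩
    have hcong : MemLocalIdeal M (C.tag (ξK : C.S.K → ℂ) - centralChar (χ : G → ℂ) ((C.f0 : C.S.K) : G)) := by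
      show MemLocalIdeal M (C.tag ((ξ : C.S.C → ℂ) ∘ C.toC) - _)
      rw [← C.induced_eq]
      exact hind.2.2 ξ (Finset.mem_filter.1 hξ).2 χ (self_mem_blockOf hP χ) _
    have hz : classInner Φ (ξK : C.S.K → ℂ) = 0 := by
      by_contra h
      exact hno ξK h hcong
    rw [classInner, mul_eq_zero, or_iff_right (inv_ne_zero (Nat.cast_ne_zero.2 Nat.card_pos.ne'))] at hz
    rw [Finset.sum_congr rfl (g := fun z : C.S.K =>
      conj (classInner σ (ξ : C.S.C → ℂ)) * (Φ z * conj ((ξ : C.S.C → ℂ) (C.toC z)))) fun z _ => by ring,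
      ← Finset.mul_sum]
    exact mul_eq_zero_of_right _ hz
  · refine Finset.sum_eq_zero fun z _ => ?_
    by_cases hz : Odd (orderOf z)
    · rw [blockPart_secFun_eq_zero hM ⟨1, by rw [C.S.ht, pow_one]⟩ (isPBlock_blockOf M χ) χ (self_mem_blockOf hP χ)
        (isPBlock_blockOf M ξ0) hind (C.toC z) ?_, map_zero, mul_zero]
      have e : orderOf (C.toC z) = orderOf z :=
        orderOf_injective C.toC (Subgroup.inclusion_injective C.S.K_le) z
      rw [e]
      exact fun h => Nat.not_even_iff_odd.2 hz (even_iff_two_dvd.2 h)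
    · rw [h0 z hz, zero_mul]

/-- The constituents of `Φ` have the value `a` at the class of the generator, modulo the ideal. -/
def TagAt (M : Ideal AlgInt) (Φ : C.S.K → ℂ) (a : ℂ) : Prop :=
  ∀ ξ : IrrCharacter C.S.K, classInner Φ (ξ : C.S.K → ℂ) ≠ 0 → MemLocalIdeal M (C.tag (ξ : C.S.K → ℂ) - a)

theorem tagAt_Fmu (hM : IsPModular 2 M) (hco : C.e.Coprime C.D.b) (k : Fin 3) (μ : C.Phi →* ℂˣ) :
    C.TagAt M (C.Fmu M k μ) (μ C.f0 : ℂ) := by
  intro ξ hξ
  rw [Fmu, classInner_sum_left] at hξ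
  obtain ⟨i, -, hi⟩ := Finset.exists_ne_zero_of_sum_ne_zero hξ
  rw [classInner_smul_left, irrC_orth] at hi
  have e : C.ext M i μ = ξ := by
    by_contra h
    exact hi (by rw [if_neg h, mul_zero])
  exact e ▸ C.tag_ext hM hco i μ

theorem tagAt_Yt (hM : IsPModular 2 M) (hco : C.e.Coprime C.D.b) {θ : C.D.B →* ℂˣ} (hθ : θ ≠ 1)
    (μ : C.Phi →* ℂˣ) : C.TagAt M (C.Yt M θ μ) (if C.Inv θ then (μ C.f0 : ℂ) else 0) :=
  fun _ hξ => C.tag_Yt hM hco hθ μ hξ

theorem sep (hM : IsPModular 2 M) {Φ Φ' : C.S.K → ℂ} (hg : IsGeneralizedCharacter C.S.K Φ)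
    (hg' : IsGeneralizedCharacter C.S.K Φ') (h0 : ∀ z : C.S.K, ¬ Odd (orderOf z) → Φ z = 0)
    (h0' : ∀ z : C.S.K, ¬ Odd (orderOf z) → Φ' z = 0) {a a' : ℂ} (ha : C.TagAt M Φ a) (ha' : C.TagAt M Φ' a')
    {χ : IrrCharacter G} (hχ : C.LL Φ χ ≠ 0) (hχ' : C.LL Φ' χ ≠ 0) : MemLocalIdeal M (a - a') := by
  have hP := pmod_prime hM
  obtain ⟨ξ, h1, h2⟩ := C.link hM hg h0 hχ
  obtain ⟨ξ', h1', h2'⟩ := C.link hM hg' h0' hχ'
  refine memLI_trans hP ?_ (memLI_trans hP h2' ?_) (y := C.tag (ξ' : C.S.K → ℂ))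
  · exact memLI_trans hP (memLI_symm hP (ha ξ h1)) (memLI_trans hP h2 (memLI_symm hP h2'))
  · exact memLI_trans hP (memLI_symm hP h2') (ha' ξ' h1')

theorem hom_f0_ext {μ ν : C.Phi →* ℂˣ} (h : μ C.f0 = ν C.f0) : μ = ν :=
  MonoidHom.ext fun f => by
    obtain ⟨n, rfl⟩ := C.f0_gen f
    simp only [map_zpow, h]

theorem val_f0_pow (μ : C.Phi →* ℂˣ) : (μ C.f0 : ℂ) ^ C.e = 1 := by
  rw [← Units.val_pow_eq_pow_val, ← map_pow, pow_card_eq_one', map_one, Units.val_one]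

theorem not_two_dvd_e : ¬ 2 ∣ C.e := fun hd => Nat.not_even_iff_odd.2 C.odd (even_iff_two_dvd.2 hd)

theorem sep_eq (hM : IsPModular 2 M) {μ ν : C.Phi →* ℂˣ} (h : MemLocalIdeal M ((μ C.f0 : ℂ) - (ν C.f0 : ℂ))) :
    μ = ν :=
  C.hom_f0_ext (Units.ext (PrincExt.root_eq_of_congr hM C.not_two_dvd_e (C.val_f0_pow μ) (C.val_f0_pow ν) h))

theorem f0_not_memLI (hM : IsPModular 2 M) (μ : C.Phi →* ℂˣ) : ¬ MemLocalIdeal M ((μ C.f0 : ℂ) - 0) := by
  intro h
  rw [sub_zero] at h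
  have hP := pmod_prime hM
  refine memLI_one_iff hP ?_
  rw [← C.val_f0_pow μ]
  obtain ⟨j, hj⟩ := C.odd
  rw [show C.e = 2 * j + 1 from hj, pow_succ]
  exact memLI_mul_left hP (memLR_pow hP (memLI_memLR h) _) h

/-- Functions of different `μ`. -/
theorem sep_F_F (hM : IsPModular 2 M) (hco : C.e.Coprime C.D.b) {μ ν : C.Phi →* ℂˣ} (hne : μ ≠ ν) (k l : Fin 3)
    {χ : IrrCharacter G} (h : C.LL (C.Fmu M k μ) χ ≠ 0) : C.LL (C.Fmu M l ν) χ = 0 := by
  by_contra h'
  exact hne (C.sep_eq hM (C.sep hM (C.gen_Fmu k μ) (C.gen_Fmu l ν) (fun z hz => C.Fmu_even hM k μ hz)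
    (fun z hz => C.Fmu_even hM l ν hz) (C.tagAt_Fmu hM hco k μ) (C.tagAt_Fmu hM hco l ν) h h'))

theorem sep_F_Y (hM : IsPModular 2 M) (hco : C.e.Coprime C.D.b) {μ ν : C.Phi →* ℂˣ} {θ : C.D.B →* ℂˣ} (hθ : θ ≠ 1)
    (hne : C.Inv θ → μ ≠ ν) (k : Fin 3) {χ : IrrCharacter G} (h : C.LL (C.Fmu M k μ) χ ≠ 0) :
    C.LL (C.Yt M θ ν) χ = 0 := by
  by_contra h'
  have := C.sep hM (C.gen_Fmu k μ) (C.gen_Yt θ ν) (fun z hz => C.Fmu_even hM k μ hz)
    (fun z hz => C.Yt_even hM θ ν hz) (C.tagAt_Fmu hM hco k μ) (C.tagAt_Yt hM hco hθ ν) h h'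
  by_cases hi : C.Inv θ
  · rw [if_pos hi] at this
    exact hne hi (C.sep_eq hM this)
  · rw [if_neg hi] at this
    exact C.f0_not_memLI hM μ this

theorem sep_Y_Y (hM : IsPModular 2 M) (hco : C.e.Coprime C.D.b) {μ ν : C.Phi →* ℂˣ} {θ φ : C.D.B →* ℂˣ}
    (hθ : θ ≠ 1) (hθi : C.Inv θ) (hφ : φ ≠ 1) (hne : C.Inv φ → μ ≠ ν) {χ : IrrCharacter G}
    (h : C.LL (C.Yt M θ μ) χ ≠ 0) : C.LL (C.Yt M φ ν) χ = 0 := by
  by_contra h'
  have := C.sep hM (C.gen_Yt θ μ) (C.gen_Yt φ ν) (fun z hz => C.Yt_even hM θ μ hz) (fun z hz => C.Yt_even hM φ ν hz)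
    (C.tagAt_Yt hM hco hθ μ) (C.tagAt_Yt hM hco hφ ν) h h'
  rw [if_pos hθi] at this
  by_cases hi : C.Inv φ
  · rw [if_pos hi] at this
    exact hne hi (C.sep_eq hM this)
  · rw [if_neg hi] at this
    exact C.f0_not_memLI hM μ this

end Frame

end Cfsg.Agent.Walter.JR
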