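import Cfsg.Agent.Lib.Walter.JR.EY
import Cfsg.Agent.Lib.Char.KleinFourBlock
import Cfsg.Agent.Lib.Char.PPartElem
import Cfsg.Agent.Lib.Char.Regular
import Cfsg.Agent.Lib.Small.PSLn.Out

/-!
# The blocks of full defect of `E`, sums over the section of `s`, and the class of a generator of `Φ`
-/

set_option autoImplicit false
set_option linter.unusedSectionVars false
set_option linter.unusedSimpArgs false
set_option linter.style.haveILetI false
set_option maxHeartbeats 800000

open Cfsg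
open scoped ComplexConjugate Classical

namespace Cfsg.Agent.Walter.JR

open Subgroup Cfsg.Agent.Char Cfsg.Agent.Char.ReeThree Cfsg.Agent.Char.ReeOrder

universe u

/-- A sum invariant under two commuting involutions acting freely together. -/
theorem sum_four {ι : Type*} [Fintype ι] (S : Finset ι) (t : ι → ℂ) (a b : ι → ι)
    (ha : ∀ i, a (a i) = i) (hb : ∀ i, b (b i) = i) (hab : ∀ i, a (b i) = b (a i))
    (Sa : ∀ i ∈ S, a i ∈ S) (Sb : ∀ i ∈ S, b i ∈ S)
    (fa : ∀ i ∈ S, a i ≠ i) (fb : ∀ i ∈ S, b i ≠ i) (fab : ∀ i ∈ S, a (b i) ≠ i)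
    (ta : ∀ i ∈ S, t (a i) = t i) (tb : ∀ i ∈ S, t (b i) = t i) :
    ∃ S' : Finset ι, S' ⊆ S ∧ ∑ i ∈ S, t i = 4 * ∑ i ∈ S', t i := by
  let e := Fintype.equivFin ι
  let isMin : ι → Prop := fun i => e i < e (a i) ∧ e i < e (b i) ∧ e i < e (a (b i))
  refine ⟨S.filter isMin, Finset.filter_subset _ _, ?_⟩
  have move : ∀ g : ι → ι, (∀ i, g (g i) = i) → (∀ i ∈ S, g i ∈ S) → (∀ i ∈ S, t (g i) = t i) →
      ∑ i ∈ S, (if isMin (g i) then t i else 0) = ∑ i ∈ S.filter isMin, t i := by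
    intro g hg Sg tg
    rw [Finset.sum_filter]
    refine Finset.sum_bij' (fun i _ => g i) (fun i _ => g i) (fun i hi => Sg i hi) (fun i hi => Sg i hi)
      (fun i _ => hg i) (fun i _ => hg i) (fun i hi => ?_)
    rw [tg i hi]
  have h1 := move id (fun i => rfl) (fun i hi => hi) (fun i hi => rfl)
  have h2 := move a ha Sa ta
  have h3 := move b hb Sb tb
  have h4 := move (fun i => a (b i)) (fun i => by rw [hab i, hb, ha]) (fun i hi => Sa _ (Sb i hi))
    (fun i hi => by rw [ta _ (Sb i hi), tb i hi])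
  rw [show (4 : ℂ) * ∑ i ∈ S.filter isMin, t i = ∑ i ∈ S.filter isMin, t i + ∑ i ∈ S.filter isMin, t i +
    ∑ i ∈ S.filter isMin, t i + ∑ i ∈ S.filter isMin, t i by ring]
  nth_rewrite 1 [← h1]
  nth_rewrite 1 [← h2]
  nth_rewrite 1 [← h3]
  nth_rewrite 1 [← h4]
  simp only [← Finset.sum_add_distrib]
  refine Finset.sum_congr rfl fun i hi => ?_
  simp only [id_eq, isMin, ha, hb, hab, show ∀ j, a (b (b j)) = a j from fun j => by rw [hb]]
  have n1 : e i ≠ e (a i) := fun h => fa i hi (e.injective h).symm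
  have n2 : e i ≠ e (b i) := fun h => fb i hi (e.injective h).symm
  have n3 : e i ≠ e (b (a i)) := fun h => fab i hi (by rw [hab]; exact (e.injective h).symm)
  have n4 : e (a i) ≠ e (b i) := fun h => fab i hi (by rw [← e.injective h, ha])
  have n5 : e (a i) ≠ e (b (a i)) := fun h => fb (a i) (Sa i hi) (e.injective h).symm
  have n6 : e (b i) ≠ e (b (a i)) := fun h => fa i hi (by
    have := congrArg b (e.injective h); rw [hb, hb] at this; exact this.symm)
  revert n1 n2 n3 n4 n5 n6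
  generalize e i = w
  generalize e (a i) = x
  generalize e (b i) = y
  generalize e (b (a i)) = z
  intro n1 n2 n3 n4 n5 n6
  rcases lt_trichotomy w x with p1 | p1 | p1 <;> try exact absurd p1 n1
  all_goals rcases lt_trichotomy w y with p2 | p2 | p2 <;> try exact absurd p2 n2
  all_goals rcases lt_trichotomy w z with p3 | p3 | p3 <;> try exact absurd p3 n3
  all_goals rcases lt_trichotomy x y with p4 | p4 | p4 <;> try exact absurd p4 n4
  all_goals rcases lt_trichotomy x z with p5 | p5 | p5 <;> try exact absurd p5 n5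
  all_goals rcases lt_trichotomy y z with p6 | p6 | p6 <;> try exact absurd p6 n6
  all_goals simp [p1, p2, p3, p4, p5, p6, p1.not_gt, p2.not_gt, p3.not_gt, p4.not_gt, p5.not_gt, p6.not_gt]
  all_goals (exfalso; omega)

namespace Frame

variable {G : Type u} [Group G] [Finite G] {F : Type} [Field F] [Fintype F] (C : Frame G F) [Fintype G]
variable {M : Ideal AlgInt}

/-- A character vanishing on the elements of even order has degree divisible by four. -/
theorem four_dvd_of_vanish {ξ : IrrCharacter C.S.K} (h : ∀ z, ¬ Odd (orderOf z) → (ξ : C.S.K → ℂ) z = 0) :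
    4 ∣ deg (ξ : C.S.K → ℂ) := by
  obtain ⟨n, hn⟩ := classInner_natCast (isCharacter_comp C.vK (irr_isCharacter ξ.2))
    (isCharacter_one (G := ℤˣ × ℤˣ))
  refine ⟨n, ?_⟩
  rw [classInner, Finset.sum_eq_single (1 : ℤˣ × ℤˣ)] at hn
  · simp only [Function.comp_apply, map_one, char_one_eq_deg (irr_isCharacter ξ.2)] at hn
    rw [show (Nat.card (ℤˣ × ℤˣ) : ℂ) = 4 by rw [Nat.card_eq_fintype_card]; rfl] at hn
    have : (deg (ξ : C.S.K → ℂ) : ℂ) = ((4 * n : ℕ) : ℂ) := by
      push_cast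
      linear_combination 4 * hn
    exact_mod_cast this
  · intro p _ hp
    rw [Function.comp_apply, h _ ?_, zero_mul]
    have ho : orderOf (C.vK p) = 2 := orderOf_eq_prime (by
      rw [pow_two, ← map_mul, show p * p = 1 from Prod.ext (Int.units_mul_self _) (Int.units_mul_self _), map_one])
      fun e => hp (C.vK_inj (e.trans C.vK.map_one.symm))
    rw [ho]; decide
  · intro h; exact absurd (Finset.mem_univ _) h

/-- Two orthogonal functions of norm two share no character of degree prime to four. -/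
theorem share {f g : C.S.K → ℂ} (hf : IsGeneralizedCharacter C.S.K f) (hg : IsGeneralizedCharacter C.S.K g)
    (f2 : classInner f f = 2) (g2 : classInner g g = 2) (fg : classInner f g = 0)
    (f0 : ∀ z, ¬ Odd (orderOf z) → f z = 0) (g0 : ∀ z, ¬ Odd (orderOf z) → g z = 0)
    {ξ : IrrCharacter C.S.K} (hξf : classInner f (ξ : C.S.K → ℂ) ≠ 0) (hξg : classInner g (ξ : C.S.K → ℂ) ≠ 0) :
    4 ∣ deg (ξ : C.S.K → ℂ) := by
  obtain ⟨a, b, s, r, hab, hs, hr, hfe, hfc⟩ := KFacts.two_terms hf f2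
  obtain ⟨c, d, s', r', hcd, hs', hr', hge, hgc⟩ := KFacts.two_terms hg g2
  have hfg : (s : ℂ) * classInner g (a : C.S.K → ℂ) + (r : ℂ) * classInner g (b : C.S.K → ℂ) = 0 := by
    have h := congrArg conj fg
    rw [classInner_symm, hfe, classInner_add_right, classInner_smul_right, classInner_smul_right] at h
    simpa using h
  have hs0 : (s : ℂ) ≠ 0 := by rcases hs with e | e <;> rw [e] <;> norm_num
  have hr0 : (r : ℂ) ≠ 0 := by rcases hr with e | e <;> rw [e] <;> norm_num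
  have hξ : ξ = a ∨ ξ = b := by
    by_contra h
    push Not at h
    exact hξf (by rw [hfc, if_neg h.1, if_neg h.2, add_zero])
  have hga : classInner g (a : C.S.K → ℂ) ≠ 0 := by
    intro e
    rcases hξ with rfl | rfl
    · exact hξg e
    · rw [e, mul_zero, zero_add] at hfg
      exact hξg ((mul_eq_zero.1 hfg).resolve_left hr0)
  have hgb : classInner g (b : C.S.K → ℂ) ≠ 0 := by
    intro e
    rw [e, mul_zero, add_zero] at hfg
    exact hga ((mul_eq_zero.1 hfg).resolve_left hs0)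
  have hga' := hga
  have hgb' := hgb
  rw [hgc] at hga' hgb'
  have ha' : a = c ∨ a = d := by
    by_contra h; push Not at h; exact hga' (by rw [if_neg h.1, if_neg h.2, add_zero])
  have hb' : b = c ∨ b = d := by
    by_contra h; push Not at h; exact hgb' (by rw [if_neg h.1, if_neg h.2, add_zero])
  -- both vanish on elements of even order
  refine C.four_dvd_of_vanish fun z hz => ?_
  have e1 := f0 z hz
  have e2 := g0 z hz
  rw [hfe] at e1
  rw [hge] at e2
  simp only [Pi.add_apply, Pi.smul_apply, smul_eq_mul] at e1 e2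
  rw [hgc, hgc] at hfg
  have hza : (a : C.S.K → ℂ) z = 0 ∧ (b : C.S.K → ℂ) z = 0 := by
    rcases ha' with rfl | rfl <;> rcases hb' with rfl | rfl
    · exact absurd rfl hab
    · simp only [if_pos, if_neg hab, if_neg (Ne.symm hab), add_zero, zero_add] at hfg
      rcases hs with e | e <;> rcases hr with e' | e' <;> rcases hs' with e'' | e'' <;> rcases hr' with e''' | e''' <;>
        simp [e, e', e'', e'''] at hfg e1 e2 ⊢ <;>
        first
          | (norm_num at hfg; done)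
          | exact ⟨by linear_combination (1 / 2 : ℂ) * e1 + (1 / 2 : ℂ) * e2, by linear_combination (1 / 2 : ℂ) * e1 - (1 / 2 : ℂ) * e2⟩
          | exact ⟨by linear_combination (-1 / 2 : ℂ) * e1 + (1 / 2 : ℂ) * e2, by linear_combination (1 / 2 : ℂ) * e1 + (1 / 2 : ℂ) * e2⟩
          | exact ⟨by linear_combination (1 / 2 : ℂ) * e1 + (1 / 2 : ℂ) * e2, by linear_combination (-1 / 2 : ℂ) * e1 + (1 / 2 : ℂ) * e2⟩
          | exact ⟨by linear_combination (1 / 2 : ℂ) * e1 - (1 / 2 : ℂ) * e2, by linear_combination (1 / 2 : ℂ) * e1 + (1 / 2 : ℂ) * e2⟩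
          | exact ⟨by linear_combination (-1 / 2 : ℂ) * e1 - (1 / 2 : ℂ) * e2, by linear_combination (1 / 2 : ℂ) * e1 - (1 / 2 : ℂ) * e2⟩
          | exact ⟨by linear_combination (-1 / 2 : ℂ) * e1 - (1 / 2 : ℂ) * e2, by linear_combination (-1 / 2 : ℂ) * e1 + (1 / 2 : ℂ) * e2⟩
          | exact ⟨by linear_combination (1 / 2 : ℂ) * e1 - (1 / 2 : ℂ) * e2, by linear_combination (-1 / 2 : ℂ) * e1 - (1 / 2 : ℂ) * e2⟩
          | exact ⟨by linear_combination (-1 / 2 : ℂ) * e1 + (1 / 2 : ℂ) * e2, by linear_combination (-1 / 2 : ℂ) * e1 - (1 / 2 : ℂ) * e2⟩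
    · simp only [if_pos, if_neg hab, if_neg (Ne.symm hab), add_zero, zero_add] at hfg
      rcases hs with e | e <;> rcases hr with e' | e' <;> rcases hs' with e'' | e'' <;> rcases hr' with e''' | e''' <;>
        simp [e, e', e'', e'''] at hfg e1 e2 ⊢ <;>
        first
          | (norm_num at hfg; done)
          | exact ⟨by linear_combination (1 / 2 : ℂ) * e1 + (1 / 2 : ℂ) * e2, by linear_combination (1 / 2 : ℂ) * e1 - (1 / 2 : ℂ) * e2⟩
          | exact ⟨by linear_combination (-1 / 2 : ℂ) * e1 + (1 / 2 : ℂ) * e2, by linear_combination (1 / 2 : ℂ) * e1 + (1 / 2 : ℂ) * e2⟩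
          | exact ⟨by linear_combination (1 / 2 : ℂ) * e1 + (1 / 2 : ℂ) * e2, by linear_combination (-1 / 2 : ℂ) * e1 + (1 / 2 : ℂ) * e2⟩
          | exact ⟨by linear_combination (1 / 2 : ℂ) * e1 - (1 / 2 : ℂ) * e2, by linear_combination (1 / 2 : ℂ) * e1 + (1 / 2 : ℂ) * e2⟩
          | exact ⟨by linear_combination (-1 / 2 : ℂ) * e1 - (1 / 2 : ℂ) * e2, by linear_combination (1 / 2 : ℂ) * e1 - (1 / 2 : ℂ) * e2⟩
          | exact ⟨by linear_combination (-1 / 2 : ℂ) * e1 - (1 / 2 : ℂ) * e2, by linear_combination (-1 / 2 : ℂ) * e1 + (1 / 2 : ℂ) * e2⟩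
          | exact ⟨by linear_combination (1 / 2 : ℂ) * e1 - (1 / 2 : ℂ) * e2, by linear_combination (-1 / 2 : ℂ) * e1 - (1 / 2 : ℂ) * e2⟩
          | exact ⟨by linear_combination (-1 / 2 : ℂ) * e1 + (1 / 2 : ℂ) * e2, by linear_combination (-1 / 2 : ℂ) * e1 - (1 / 2 : ℂ) * e2⟩
    · exact absurd rfl hab
  rcases hξ with rfl | rfl
  · exact hza.1
  · exact hza.2

/-- The block of `ν ∘ pr` consists of the four extensions. -/
theorem mem_U (hM : IsPModular 2 M) {ν : C.Phi →* ℂˣ} {χ : IrrCharacter C.S.K} (h : χ ∈ C.U M ν) :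
    ∃ i, C.ext M i ν = χ := by
  have hd : blockDefect 2 (C.U M ν) = 2 := by
    have h0 : 0 ∈ (fun χ : IrrCharacter C.S.K => (charDegree (χ : C.S.K → ℂ)).factorization 2) '' C.U M ν := by
      refine ⟨C.lin ν, self_mem_blockOf (pmod_prime hM) _, ?_⟩
      show (charDegree (C.lin ν : C.S.K → ℂ)).factorization 2 = 0
      rw [charDegree, C.lin_apply]
      simp
    rw [blockDefect, C.fact_two_K, Nat.sInf_eq_zero.2 (Or.inl h0), Nat.sub_zero]
  have hsub : Finset.univ.image (fun i => C.ext M i ν) ⊆ bset (C.U M ν) := fun x hx => by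
    obtain ⟨i, -, rfl⟩ := Finset.mem_image.1 hx
    exact mem_bset.2 (C.ext_mem hM i ν)
  have heq := Finset.eq_of_subset_of_card_le hsub (by
    rw [Finset.card_image_of_injective _ fun i j e => (C.ext_inj hM e).1, Finset.card_univ, Fintype.card_fin]
    exact KleinBlock.card_le_four hM (isPBlock_blockOf M _) hd)
  have := mem_bset.2 h
  rw [← heq] at this
  obtain ⟨i, -, hi⟩ := Finset.mem_image.1 this
  exact ⟨i, hi⟩

/-! ### Elements commuting with `s` -/

theorem s_Phi (f : C.Phi) : Commute (f : C.S.K) (C.D.s : C.S.K) := Subtype.ext (C.s_fix ⟨f, f.2, rfl⟩)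

/-- An element of odd order commuting with `s` lies in `B Φ`. -/
theorem odd_cent_s {y : C.S.K} (hy : Odd (orderOf y)) (hc : Commute y (C.D.s : C.S.K)) : y ∈ C.HP ⊤ := by
  have h := C.odd_cent_V (x := (y : G)) (C.S.comm_t y.2) (congrArg Subtype.val hc.eq)
    (by rwa [Subgroup.orderOf_coe])
  obtain ⟨_, ⟨β, hβ, rfl⟩, _, ⟨f, hf, rfl⟩, e⟩ := C.mem_BP.1 h
  rw [show y = C.bK ⟨β, hβ⟩ * ((⟨f, hf⟩ : C.Phi) : C.S.K) from Subtype.ext e]
  exact (C.bf_mem_iff _ _).2 (mem_top _)

theorem card_cent_sK : Nat.card (centralizer ({(C.D.s : C.S.K)} : Set C.S.K)) = 4 * C.D.b * C.e := by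
  let E : centralizer ({(C.D.s : C.S.K)} : Set C.S.K) ≃ centralizer ({C.D.s} : Set C.L) × C.Phi :=
    { toFun := fun x => (⟨C.lp x, mem_centralizer_singleton_iff.2 (Subtype.ext (by
          have hx : Commute (x : C.S.K) (C.D.s : C.S.K) := mem_centralizer_singleton_iff.1 x.2
          exact (hx.mul_left (C.s_Phi (C.pr x)).inv_left).eq))⟩, C.pr x)
      invFun := fun p => ⟨((p.1 : C.L) : C.S.K) * (p.2 : C.S.K), mem_centralizer_singleton_iff.2 (by
          have h1 : Commute ((p.1 : C.L) : C.S.K) (C.D.s : C.S.K) :=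
            congrArg Subtype.val (mem_centralizer_singleton_iff.1 p.1.2)
          exact (h1.mul_left (C.s_Phi p.2)).eq)⟩
      left_inv := fun x => Subtype.ext (C.lp_mul_pr x)
      right_inv := fun p => Prod.ext (Subtype.ext (C.lp_mul _ _)) (C.pr_mul _ _) }
  rw [Nat.card_congr E, Nat.card_prod, C.D.card_cent]

theorem ppt_sx (x : C.HP ⊤) : ppt 2 ((C.D.s : C.S.K) * (x : C.S.K)) = (C.D.s : C.S.K) := by
  refine ppt_mul Nat.prime_two (C.HP_s x) ⟨1, by rw [orderOf_coe, C.D.hs, pow_one]⟩ fun h => ?_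
  rw [orderOf_coe] at h
  exact Nat.not_even_iff_odd.2 ((C.odd_HP ⊤).of_dvd_nat (orderOf_dvd_natCard x)) (even_iff_two_dvd.2 h)

theorem exists_ppt_conj {z : C.S.K} (hz : 2 ∣ orderOf z) :
    ∃ g : C.S.K, ppt 2 z = g * (C.D.s : C.S.K) * g⁻¹ := by
  set w := ppt 2 z with hw
  obtain ⟨k, hk⟩ := ppt_ppower Nat.prime_two z
  have hw1 : w ≠ 1 := fun e => (ppt_eq_one_iff Nat.prime_two z).1 e hz
  have hwL : w ∈ C.L := C.pr_eq_one.1 (orderOf_eq_one_iff.1 (by
    have h1 : orderOf (C.pr w) ∣ 2 ^ k := hk ▸ orderOf_map_dvd C.pr w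
    have h2 : orderOf (C.pr w) ∣ C.e := orderOf_dvd_natCard _
    exact Nat.eq_one_of_dvd_coprimes (Nat.Coprime.pow_left k (Nat.coprime_two_left.2 C.odd)) h1 h2))
  set l : C.L := ⟨w, hwL⟩ with hl
  have hol : orderOf l = 2 ^ k := by rw [← hk, hl, Subgroup.orderOf_mk]
  have hk1 : k = 1 := by
    rcases k with - | - | k
    · rw [pow_zero, orderOf_eq_one_iff] at hk
      exact absurd hk hw1
    · rfl
    · exfalso
      have h4 : (l ^ 2 ^ k) ^ 4 = 1 := by
        rw [← pow_mul, show 2 ^ k * 4 = 2 ^ (k + 1 + 1) by ring, ← hol, pow_orderOf_eq_one]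
      have h2 := C.D.no_four _ h4
      rw [← pow_mul] at h2
      have := Nat.le_of_dvd (by positivity) (orderOf_dvd_of_pow_eq_one h2)
      rw [hol, pow_succ, pow_succ] at this
      have : 0 < 2 ^ k := by positivity
      omega
  obtain ⟨g, hg⟩ := isConj_iff.1 (C.D.s_conj l (by rw [hol, hk1, pow_one]))
  exact ⟨g, (congrArg Subtype.val hg).symm⟩

/-- Sums over the elements of even order. -/
theorem sing_sum {f : C.S.K → ℂ} (hf : IsClassFunction C.S.K f) :
    (4 * C.D.b * C.e : ℂ) * ∑ z : C.S.K with 2 ∣ orderOf z, f z =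
      (Nat.card C.S.K : ℂ) * ∑ x : C.HP ⊤, f ((C.D.s : C.S.K) * x) := by
  have hA : ∀ g : C.S.K, ∑ z : C.S.K with ppt 2 z = g * (C.D.s : C.S.K) * g⁻¹, f z =
      ∑ x : C.HP ⊤, f ((C.D.s : C.S.K) * x) := by
    intro g
    refine Finset.sum_bij' (fun z hz => ⟨(C.D.s : C.S.K)⁻¹ * (g⁻¹ * z * g), ?_⟩)
      (fun x _ => g * ((C.D.s : C.S.K) * x) * g⁻¹) (fun _ _ => Finset.mem_univ _) (fun x _ => ?_) ?_ ?_ ?_
    · have hp : ppt 2 (g⁻¹ * z * g) = (C.D.s : C.S.K) := by
        have := ppt_conj Nat.prime_two z g⁻¹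
        rw [inv_inv, (Finset.mem_filter.1 hz).2] at this
        rw [this]; group
      obtain ⟨y, hy, hc, -, hodd⟩ := isPPart_ppt Nat.prime_two (g⁻¹ * z * g)
      rw [hp] at hy hc
      rw [← hy, inv_mul_cancel_left]
      exact C.odd_cent_s (Nat.not_even_iff_odd.1 fun h => hodd (even_iff_two_dvd.1 h)) hc.symm
    · refine Finset.mem_filter.2 ⟨Finset.mem_univ _, ?_⟩
      rw [ppt_conj Nat.prime_two, C.ppt_sx]
    · intro z _; group
    · intro x _; exact Subtype.ext (by group)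
    · intro z _
      show f z = f ((C.D.s : C.S.K) * ((C.D.s : C.S.K)⁻¹ * (g⁻¹ * z * g)))
      rw [mul_inv_cancel_left]
      have := hf z g⁻¹
      rw [inv_inv] at this
      exact this.symm
  have hB : ∀ z : C.S.K, (∑ g : C.S.K, if ppt 2 z = g * (C.D.s : C.S.K) * g⁻¹ then f z else 0) =
      if 2 ∣ orderOf z then (4 * C.D.b * C.e : ℂ) * f z else 0 := by
    intro z
    rw [Finset.sum_ite, Finset.sum_const_zero, add_zero, Finset.sum_const, nsmul_eq_mul]
    split_ifs with hz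
    · congr 1
      obtain ⟨g0, hg0⟩ := C.exists_ppt_conj hz
      rw [← Fintype.card_subtype, ← Nat.card_eq_fintype_card]
      have e : Nat.card {g : C.S.K // ppt 2 z = g * (C.D.s : C.S.K) * g⁻¹} =
          Nat.card (centralizer ({(C.D.s : C.S.K)} : Set C.S.K)) := by
        refine Nat.card_congr ((Equiv.mulLeft g0⁻¹).subtypeEquiv fun g => ?_)
        show _ ↔ g0⁻¹ * g ∈ centralizer ({(C.D.s : C.S.K)} : Set C.S.K)
        rw [mem_centralizer_singleton_iff, hg0]
        constructor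
        · intro h
          calc g0⁻¹ * g * (C.D.s : C.S.K) = g0⁻¹ * (g * (C.D.s : C.S.K) * g⁻¹) * g := by group
            _ = _ := by rw [← h]; group
        · intro h
          calc g0 * (C.D.s : C.S.K) * g0⁻¹ = g0 * ((C.D.s : C.S.K) * (g0⁻¹ * g)) * g⁻¹ := by group
            _ = _ := by rw [← h]; group
      rw [e, C.card_cent_sK]
      push_cast; ring
    · rw [Finset.filter_eq_empty_iff.2 fun g _ hg => ?_, Finset.card_empty, Nat.cast_zero, zero_mul]
      refine hz ?_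
      by_contra h
      rw [(ppt_eq_one_iff Nat.prime_two z).2 h, eq_comm, conj_eq_one_iff] at hg
      have := C.D.hs
      rw [show C.D.s = 1 from Subtype.ext hg, orderOf_one] at this
      omega
  have h := Finset.sum_congr (s₁ := (Finset.univ : Finset C.S.K)) rfl fun g _ => hA g
  rw [Finset.sum_const, Finset.card_univ, nsmul_eq_mul, ← Nat.card_eq_fintype_card] at h
  simp only [Finset.sum_filter] at h
  rw [Finset.sum_comm, Finset.sum_congr rfl fun z _ => hB z] at h
  rw [Finset.sum_filter, Finset.mul_sum, ← h]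
  exact Finset.sum_congr rfl fun z _ => by split_ifs <;> ring

/-! ### A generator of `Φ` and its class -/

theorem Phi_cyclic : IsCyclic C.Phi := by
  obtain ⟨p, hc⟩ := CharP.exists F
  obtain ⟨n, hp, hcard⟩ := FiniteField.card F p
  haveI := Fact.mk hp
  obtain ⟨E⟩ := Small.PSLn.fieldAut_equiv (F := F) hcard
  haveI : IsCyclic (Multiplicative (ZMod (n : ℕ))) := isCyclic_multiplicative
  exact isCyclic_of_injective (E.toMonoidHom.comp C.alpha) (E.injective.comp C.alpha_inj)

/-- A generator of `Φ`. -/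
noncomputable def f0 : C.Phi := C.Phi_cyclic.exists_generator.choose

theorem f0_gen (f : C.Phi) : f ∈ zpowers C.f0 := C.Phi_cyclic.exists_generator.choose_spec f

theorem f0_order : orderOf C.f0 = C.e := orderOf_eq_card_of_forall_mem_zpowers C.f0_gen

/-- The elements of `E` conjugate in `G` to the generator. -/
noncomputable def Tset : Finset C.S.K := Finset.univ.filter fun h => IsConj ((C.f0 : C.S.K) : G) (h : G)

theorem mem_Tset {h : C.S.K} : h ∈ C.Tset ↔ IsConj ((C.f0 : C.S.K) : G) (h : G) := by simp [Tset]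

theorem f0_mem_Tset : (C.f0 : C.S.K) ∈ C.Tset := C.mem_Tset.2 (IsConj.refl _)

theorem Tset_conj {h : C.S.K} (hh : h ∈ C.Tset) (g : C.S.K) : g * h * g⁻¹ ∈ C.Tset :=
  C.mem_Tset.2 ((C.mem_Tset.1 hh).trans (isConj_iff.2 ⟨g, rfl⟩))

theorem Tset_order {h : C.S.K} (hh : h ∈ C.Tset) : orderOf h = C.e := by
  obtain ⟨g, hg⟩ := isConj_iff.1 (C.mem_Tset.1 hh)
  rw [← C.f0_order, ← Subgroup.orderOf_coe h, ← hg, show g * ((C.f0 : C.S.K) : G) * g⁻¹ =
    MulAut.conj g ((C.f0 : C.S.K) : G) from rfl, MulEquiv.orderOf_eq, Subgroup.orderOf_coe, Subgroup.orderOf_coe]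

theorem Tset_Phi {f : C.Phi} (hf : (f : C.S.K) ∈ C.Tset) : f = C.f0 := by
  obtain ⟨g, hg⟩ := isConj_iff.1 (C.mem_Tset.1 hf)
  exact (Subtype.ext (Subtype.ext (C.Phi_conj ⟨C.f0, C.f0.2, rfl⟩ ⟨f, f.2, rfl⟩ hg))).symm

/-- An element of `B Φ` of order dividing `e` is conjugate under `B` to its projection. -/
theorem conj_pr (hco : C.e.Coprime C.D.b) {x : C.HP ⊤} (hxe : x ^ C.e = 1) :
    ∃ γ : C.D.B, (x : C.S.K) = C.bK γ * (C.pr (x : C.S.K) : C.S.K) * (C.bK γ)⁻¹ := by
  set h := (x : C.S.K)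
  set f := C.pr h
  set β := C.bp x
  set σ := C.bconj f
  letI : CommGroup C.D.B := { (inferInstance : Group C.D.B) with mul_comm := C.B_comm' }
  set c : ℕ → C.D.B := fun i => C.bp (x ^ i)
  have hc0 : c 0 = 1 := by
    show C.bp (x ^ 0) = 1
    rw [pow_zero]
    exact Subtype.ext (Subtype.ext (by show ((1 : C.HP (⊤ : Subgroup C.Phi)) : C.S.K) * _ = 1; simp))
  have hce : c C.e = 1 := by
    show C.bp (x ^ C.e) = 1
    rw [hxe, ← pow_zero x]
    exact hc0
  have hstep : ∀ i, c (i + 1) = β * σ (c i) := fun i => by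
    show C.bp (x ^ (i + 1)) = _
    rw [pow_succ', C.bp_mul]
  set a := ∏ i ∈ Finset.range C.e, c i with ha
  have hσa : σ a = (β ^ C.e)⁻¹ * a := by
    have h1 : ∏ i ∈ Finset.range C.e, c (i + 1) = a := by
      have e1 := Finset.prod_range_succ c C.e
      have e2 := Finset.prod_range_succ' c C.e
      rw [e1, hce, hc0] at e2
      rw [mul_one, mul_one] at e2
      exact e2.symm
    rw [ha, map_prod, Finset.prod_congr rfl (g := fun i => β⁻¹ * c (i + 1)) fun i _ => by
      rw [hstep, inv_mul_cancel_left], Finset.prod_mul_distrib, Finset.prod_const, Finset.card_range, h1, inv_pow, ← ha]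
  obtain ⟨k, hβk⟩ := exists_pow_eq_self_of_coprime (x := β) (n := C.e)
    (hco.coprime_dvd_right (C.D.card_B ▸ orderOf_dvd_natCard β))
  refine ⟨a ^ k, ?_⟩
  have hσ : C.bconj f (a ^ k)⁻¹ = β * (a ^ k)⁻¹ := by
    show σ _ = _
    rw [map_inv, map_pow, hσa, mul_pow, inv_pow, hβk, mul_inv, inv_inv]
  have hf : h = C.bK (a ^ k) * (f : C.S.K) * (C.bK (a ^ k))⁻¹ := by
    rw [← map_inv, mul_assoc, show (f : C.S.K) * C.bK (a ^ k)⁻¹ = C.bK (C.bconj f (a ^ k)⁻¹) * (f : C.S.K) by
      rw [← C.bconj_spec, inv_mul_cancel_right], hσ, ← mul_assoc, ← map_mul, ← mul_assoc, mul_comm (a ^ k) β,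
      mul_assoc, mul_inv_cancel, mul_one]
    exact (C.lp_mul_pr h).symm
  exact hf

/-- Elements of the class commuting with `s` are conjugates of the generator under `B`. -/
theorem Tset_s (hco : C.e.Coprime C.D.b) {h : C.S.K} (hh : h ∈ C.Tset) (hs : Commute h (C.D.s : C.S.K)) :
    ∃ γ : C.D.B, h = C.bK γ * (C.f0 : C.S.K) * (C.bK γ)⁻¹ := by
  have ho : Odd (orderOf h) := by rw [C.Tset_order hh]; exact C.odd
  set x : C.HP ⊤ := ⟨h, C.odd_cent_s ho hs⟩
  have hxe : x ^ C.e = 1 := Subtype.ext (by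
    show h ^ C.e = 1
    rw [← C.Tset_order hh, pow_orderOf_eq_one])
  obtain ⟨γ, hf⟩ := C.conj_pr hco hxe
  refine ⟨γ, ?_⟩
  set f := C.pr h
  have hf : h = C.bK γ * (f : C.S.K) * (C.bK γ)⁻¹ := hf
  have hT : (f : C.S.K) ∈ C.Tset := by
    have := C.Tset_conj hh (C.bK γ)⁻¹
    rwa [hf, inv_inv, show (C.bK γ)⁻¹ * (C.bK γ * (f : C.S.K) * (C.bK γ)⁻¹) * C.bK γ =
      (f : C.S.K) by group] at this
  rwa [C.Tset_Phi hT] at hf

end Frame

end Cfsg.Agent.Walter.JR
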