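import Cfsg.Agent.Lib.Walter.JR.SepBase
import Cfsg.Agent.Lib.Char.OddIndexPrincipal

/-!
# The value of a central character at the class of a generator of `Φ`

For a character of `E` the sum over the elements of that class lying in `E` is, up to a multiple of four, an odd
multiple of the value at the generator. This separates the functions belonging to different `μ`.
-/

set_option autoImplicit false
set_option linter.unusedSectionVars false
set_option linter.unusedSimpArgs false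
set_option linter.style.haveILetI false
set_option maxHeartbeats 800000

open Cfsg
open scoped ComplexConjugate Classical

namespace Cfsg.Agent.Walter.JR

open Subgroup Cfsg.Agent.Char Cfsg.Agent.Char.ReeThree Cfsg.Agent.Char.ReeOrder

universe u

theorem delta2_comm {X : Type u} [Group X] (x y : X →* ℂˣ) : delta2 x y = delta2 y x := by
  have e1 : x * y = y * x := MonoidHom.ext fun z => mul_comm (x z) (y z)
  simp only [delta2]
  congr 1
  · exact if_congr eq_comm rfl rfl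
  · exact if_congr (by rw [e1]) rfl rfl

namespace Frame

variable {G : Type u} [Group G] [Finite G] {F : Type} [Field F] [Fintype F] (C : Frame G F) [Fintype G]
variable {M : Ideal AlgInt}

/-- The rotation in `L`. -/
noncomputable def thK : C.S.K := ((C.exists_klein.choose_spec.choose : C.L) : C.S.K)

theorem thK_s : C.thK * (C.D.s : C.S.K) * C.thK⁻¹ = (C.uL : C.S.K) := Subtype.ext C.th_s

theorem thK_u : C.thK * (C.uL : C.S.K) * C.thK⁻¹ = (C.D.s : C.S.K) * (C.uL : C.S.K) := Subtype.ext C.th_u0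

theorem thK_f0 : C.thK * (C.f0 : C.S.K) * C.thK⁻¹ = (C.f0 : C.S.K) := by
  rw [mul_inv_eq_iff_eq_mul]
  exact Subtype.ext (C.th_fix ⟨C.f0, C.f0.2, rfl⟩).symm

/-- The elements of the class commuting with `v`. -/
noncomputable def Hset (v : C.S.K) : Finset C.S.K := C.Tset.filter fun h => Commute h v

theorem mem_Hset {v h : C.S.K} : h ∈ C.Hset v ↔ h ∈ C.Tset ∧ Commute h v := by simp [Hset]

theorem sum_Hset_th {χ : C.S.K → ℂ} (hχ : IsClassFunction C.S.K χ) (v : C.S.K) :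
    ∑ h ∈ C.Hset (C.thK * v * C.thK⁻¹), χ h = ∑ h ∈ C.Hset v, χ h := by
  refine Finset.sum_bij' (fun h _ => C.thK⁻¹ * h * C.thK) (fun h _ => C.thK * h * C.thK⁻¹) ?_ ?_
    (fun h _ => by group) (fun h _ => by group) (fun h _ => ?_)
  · intro h hh
    obtain ⟨hT, hc⟩ := C.mem_Hset.1 hh
    refine C.mem_Hset.2 ⟨by simpa using C.Tset_conj hT C.thK⁻¹, ?_⟩
    show C.thK⁻¹ * h * C.thK * v = v * (C.thK⁻¹ * h * C.thK)
    calc C.thK⁻¹ * h * C.thK * v = C.thK⁻¹ * (h * (C.thK * v * C.thK⁻¹)) * C.thK := by group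
      _ = _ := by rw [hc.eq]; group
  · intro h hh
    obtain ⟨hT, hc⟩ := C.mem_Hset.1 hh
    refine C.mem_Hset.2 ⟨C.Tset_conj hT C.thK, ?_⟩
    show C.thK * h * C.thK⁻¹ * (C.thK * v * C.thK⁻¹) = C.thK * v * C.thK⁻¹ * (C.thK * h * C.thK⁻¹)
    calc C.thK * h * C.thK⁻¹ * (C.thK * v * C.thK⁻¹) = C.thK * (h * v) * C.thK⁻¹ := by group
      _ = _ := by rw [hc.eq]; group
  · have := hχ h C.thK⁻¹
    rw [inv_inv] at this
    exact this.symm

theorem fixed_both {h : C.S.K} (hh : h ∈ C.Tset) (hs : Commute h (C.D.s : C.S.K))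
    (hu : Commute h (C.uL : C.S.K)) : h = (C.f0 : C.S.K) := by
  have ho : Odd (orderOf (h : G)) := by rw [Subgroup.orderOf_coe, C.Tset_order hh]; exact C.odd
  obtain ⟨f, hf, e⟩ := C.odd_cent_Syl (C.S.comm_t h.2) (congrArg Subtype.val hs.eq) (congrArg Subtype.val hu.eq) ho
  have e' : h = ((⟨f, hf⟩ : C.Phi) : C.S.K) := Subtype.ext e.symm
  rw [e'] at hh ⊢
  rw [C.Tset_Phi hh]

theorem Hset_odd : Odd (C.Hset (C.D.s : C.S.K)).card := by
  set S := C.Hset (C.D.s : C.S.K)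
  set σ : C.S.K → C.S.K := fun h => (C.uL : C.S.K) * h * (C.uL : C.S.K)⁻¹
  have hu2 := C.u_mul_u
  have hui : (C.uL : C.S.K)⁻¹ = (C.uL : C.S.K) := inv_eq_of_mul_eq_one_left hu2
  have hus : Commute (C.uL : C.S.K) (C.D.s : C.S.K) := congrArg Subtype.val C.uL_spec.1
  have hσ : ∀ h, σ (σ h) = h := fun h => by
    simp only [σ, hui]
    rw [show (C.uL : C.S.K) * ((C.uL : C.S.K) * h * (C.uL : C.S.K)) * (C.uL : C.S.K) =
      ((C.uL : C.S.K) * (C.uL : C.S.K)) * h * ((C.uL : C.S.K) * (C.uL : C.S.K)) by group, hu2, one_mul, mul_one]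
  have hS : ∀ h ∈ S, σ h ∈ S := fun h hh => by
    obtain ⟨hT, hc⟩ := C.mem_Hset.1 hh
    exact C.mem_Hset.2 ⟨C.Tset_conj hT _, (hus.mul_left hc).mul_left hus.inv_left⟩
  have hf0 : (C.f0 : C.S.K) ∈ S := C.mem_Hset.2 ⟨C.f0_mem_Tset, C.s_Phi C.f0⟩
  have hfix : ∀ h ∈ S, σ h = h → h = (C.f0 : C.S.K) := fun h hh e => by
    obtain ⟨hT, hc⟩ := C.mem_Hset.1 hh
    exact C.fixed_both hT hc (mul_inv_eq_iff_eq_mul.1 e).symm
  have hσ0 : σ (C.f0 : C.S.K) = (C.f0 : C.S.K) := by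
    show _ * _ * _ = _
    rw [mul_inv_eq_iff_eq_mul]
    exact Subtype.ext (C.u0_fix ⟨C.f0, C.f0.2, rfl⟩).symm
  obtain ⟨S', -, hS'⟩ := Cfsg.Agent.Char.sum_pairs (S.erase (C.f0 : C.S.K)) (fun _ => (1 : ℂ)) σ hσ
    (fun h hh => Finset.mem_erase.2 ⟨fun e => (Finset.mem_erase.1 hh).1 (by rw [← hσ h, e, hσ0]),
      hS h (Finset.mem_erase.1 hh).2⟩)
    (fun h hh e => (Finset.mem_erase.1 hh).1 (hfix h (Finset.mem_erase.1 hh).2 e)) (fun _ _ => rfl)
  simp only [Finset.sum_const, nsmul_eq_mul, mul_one] at hS'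
  have h2 : (S.erase (C.f0 : C.S.K)).card = 2 * S'.card := by exact_mod_cast hS'
  rw [← Finset.card_erase_add_one hf0, h2]
  exact odd_two_mul_add_one _

/-- The sum over the class. -/
theorem sum_Tset (hco : C.e.Coprime C.D.b) {χ : C.S.K → ℂ} (hc : IsCharacter C.S.K χ) :
    ∃ (z : ℂ) (k : ℤ), IsIntegral ℤ z ∧ Odd k ∧ ∑ h ∈ C.Tset, χ h = 4 * z + (k : ℂ) * χ (C.f0 : C.S.K) := by
  have hcl := isClassFunction_character hc
  set s : C.S.K := (C.D.s : C.S.K)
  set u : C.S.K := (C.uL : C.S.K)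
  have hs2 : s * s = 1 := C.s_mul_s
  have hu2 : u * u = 1 := C.u_mul_u
  have hsi : s⁻¹ = s := inv_eq_of_mul_eq_one_left hs2
  have hui : u⁻¹ = u := inv_eq_of_mul_eq_one_left hu2
  have hus : Commute u s := congrArg Subtype.val C.uL_spec.1
  set a : C.S.K → C.S.K := fun h => s * h * s
  set b : C.S.K → C.S.K := fun h => u * h * u
  set free := C.Tset.filter fun h => ¬ Commute h s ∧ ¬ Commute h u ∧ ¬ Commute h (s * u)
  have fix_iff : ∀ {v : C.S.K}, v * v = 1 → ∀ h : C.S.K, v * h * v = h ↔ Commute h v := fun {v} hv h => by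
    constructor
    · intro e
      show h * v = v * h
      conv_lhs => rw [← e]
      rw [mul_assoc, hv, mul_one]
    · intro e
      rw [mul_assoc, e.eq, ← mul_assoc, hv, one_mul]
  have inv_comm : ∀ {v w : C.S.K}, v * v = 1 → Commute v w → ∀ {h : C.S.K}, Commute (v * h * v) w → Commute h w := by
    intro v w hv hvw h e
    have := (hvw.mul_left e).mul_left hvw
    rwa [show v * (v * h * v) * v = (v * v) * h * (v * v) by group, hv, one_mul, mul_one] at this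
  have hsu : Commute s (s * u) := (Commute.refl s).mul_right hus.symm
  have husu : Commute u (s * u) := hus.mul_right (Commute.refl u)
  have free_inv : ∀ {v : C.S.K}, v * v = 1 → Commute v s → Commute v u → Commute v (s * u) →
      ∀ h ∈ free, v * h * v ∈ free := by
    intro v hv h1 h2 h3 h hh
    obtain ⟨hT, n1, n2, n3⟩ := Finset.mem_filter.1 hh
    refine Finset.mem_filter.2 ⟨?_, fun e => n1 (inv_comm hv h1 e), fun e => n2 (inv_comm hv h2 e),
      fun e => n3 (inv_comm hv h3 e)⟩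
    have := C.Tset_conj hT v
    rwa [inv_eq_of_mul_eq_one_left hv] at this
  have hval : ∀ {v : C.S.K}, v * v = 1 → ∀ h, χ (v * h * v) = χ h := fun {v} hv h => by
    have := hcl h v
    rwa [inv_eq_of_mul_eq_one_left hv] at this
  have hsu2 : s * u * (s * u) = 1 := by
    rw [mul_assoc, ← mul_assoc u, hus.eq, mul_assoc, hu2, mul_one, hs2]
  obtain ⟨S', -, hS'⟩ := sum_four free χ a b
    (fun h => by show s * (s * h * s) * s = h; rw [show s * (s * h * s) * s = s * s * h * (s * s) by group, hs2]; simp)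
    (fun h => by show u * (u * h * u) * u = h; rw [show u * (u * h * u) * u = u * u * h * (u * u) by group, hu2]; simp)
    (fun h => by
      show s * (u * h * u) * s = u * (s * h * s) * u
      rw [show s * (u * h * u) * s = s * u * h * (u * s) by group, ← hus.eq,
        show u * (s * h * s) * u = u * s * h * (s * u) by group, ← hus.eq])
    (free_inv hs2 (Commute.refl s) hus.symm hsu) (free_inv hu2 hus (Commute.refl u) husu)
    (fun h hh e => (Finset.mem_filter.1 hh).2.1 ((fix_iff hs2 h).1 e))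
    (fun h hh e => (Finset.mem_filter.1 hh).2.2.1 ((fix_iff hu2 h).1 e))
    (fun h hh e => (Finset.mem_filter.1 hh).2.2.2 ((fix_iff hsu2 h).1 (by
      rw [show s * u * h * (s * u) = s * u * h * (u * s) by rw [hus.eq]]
      have e' : s * (u * h * u) * s = h := e
      rw [← mul_assoc] at e' ⊢
      simpa [mul_assoc] using e')))
    (fun h _ => hval hs2 h) (fun h _ => hval hu2 h)
  -- the three sets of fixed points
  have hHs : ∑ h ∈ C.Hset s, χ h = ((C.Hset s).card : ℂ) * χ (C.f0 : C.S.K) := by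
    rw [Finset.sum_congr rfl (g := fun _ => χ (C.f0 : C.S.K)) fun h hh => ?_, Finset.sum_const, nsmul_eq_mul]
    obtain ⟨hT, hcs⟩ := C.mem_Hset.1 hh
    obtain ⟨γ, rfl⟩ := C.Tset_s hco hT hcs
    exact hcl _ _
  have hHu : ∑ h ∈ C.Hset u, χ h = ∑ h ∈ C.Hset s, χ h := by
    rw [show u = C.thK * s * C.thK⁻¹ from C.thK_s.symm, C.sum_Hset_th hcl]
  have hHsu : ∑ h ∈ C.Hset (s * u), χ h = ∑ h ∈ C.Hset s, χ h := by
    rw [show s * u = C.thK * u * C.thK⁻¹ from C.thK_u.symm, C.sum_Hset_th hcl, hHu]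
  have hpt : ∀ h ∈ C.Tset, (if ¬ Commute h s ∧ ¬ Commute h u ∧ ¬ Commute h (s * u) then χ h else 0) =
      χ h - (if Commute h s then χ h else 0) - (if Commute h u then χ h else 0) -
        (if Commute h (s * u) then χ h else 0) + 2 * (if h = (C.f0 : C.S.K) then χ h else 0) := by
    intro h hh
    by_cases hf : h = (C.f0 : C.S.K)
    · subst hf
      have h1 : Commute (C.f0 : C.S.K) s := C.s_Phi C.f0
      have h2 : Commute (C.f0 : C.S.K) u := Subtype.ext (C.u0_fix ⟨C.f0, C.f0.2, rfl⟩)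
      simp [h1, h2, h1.mul_right h2]
      ring
    · by_cases h1 : Commute h s
      · have h2 : ¬ Commute h u := fun e => hf (C.fixed_both hh h1 e)
        have h3 : ¬ Commute h (s * u) := fun e => h2 (by
          have := h1.mul_right e
          rwa [← mul_assoc, hs2, one_mul] at this)
        simp [h1, h2, h3, hf]
      · by_cases h2 : Commute h u
        · have h3 : ¬ Commute h (s * u) := fun e => h1 (by
            have := e.mul_right h2
            rwa [mul_assoc, hu2, mul_one] at this)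
          simp [h1, h2, h3, hf]
        · by_cases h3 : Commute h (s * u) <;> simp [h1, h2, h3, hf]
  have hsum := Finset.sum_congr rfl hpt
  simp only [Finset.sum_add_distrib, Finset.sum_sub_distrib, ← Finset.sum_filter, ← Finset.mul_sum,
    Finset.sum_ite_eq', C.f0_mem_Tset, if_true] at hsum
  rw [show C.Tset.filter (fun h => Commute h s) = C.Hset s from rfl,
    show C.Tset.filter (fun h => Commute h u) = C.Hset u from rfl,
    show C.Tset.filter (fun h => Commute h (s * u)) = C.Hset (s * u) from rfl, hHu, hHsu, hHs, hS'] at hsum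
  rw [Finset.filter_eq', if_pos C.f0_mem_Tset, Finset.sum_singleton] at hsum
  refine ⟨∑ h ∈ S', χ h, 3 * ((C.Hset s).card : ℤ) - 2, IsIntegral.sum _ fun h _ => char_isIntegral hc h, ?_, ?_⟩
  · obtain ⟨j, hj⟩ := C.Hset_odd
    exact ⟨3 * (j : ℤ), by rw [show ((C.Hset s).card : ℤ) = 2 * (j : ℤ) + 1 by exact_mod_cast hj]; ring⟩
  · push_cast
    linear_combination -hsum

/-- The value of the central character at the class of the generator, on `E`. -/
noncomputable def tag (χ : C.S.K → ℂ) : ℂ := (∑ h ∈ C.Tset, χ h) / χ 1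

theorem memLR_alg (hM : IsPModular 2 M) {z : ℂ} (hz : IsIntegral ℤ z) : MemLocalRing M z :=
  memLocalRing_of_isIntegral (pmod_prime hM).ne_top hz

theorem memLI_two_mul (hM : IsPModular 2 M) {z : ℂ} (hz : MemLocalRing M z) : MemLocalIdeal M (2 * z) := by
  have h := memLI_mul_right (pmod_prime hM) (memLI_p hM) hz
  simpa using h

theorem memLI_sub_odd (hM : IsPModular 2 M) {k : ℤ} (hk : Odd k) : MemLocalIdeal M ((k : ℂ) - 1) := by
  obtain ⟨j, rfl⟩ := hk
  push_cast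
  rw [add_sub_cancel_right]
  exact memLI_two_mul hM (memLR_intCast (pmod_prime hM) j)

theorem tag_lin (hM : IsPModular 2 M) (hco : C.e.Coprime C.D.b) (ν : C.Phi →* ℂˣ) :
    MemLocalIdeal M (C.tag (C.lin ν : C.S.K → ℂ) - (ν C.f0 : ℂ)) := by
  have hP := pmod_prime hM
  obtain ⟨z, k, hz, hk, e⟩ := C.sum_Tset hco (irr_isCharacter (C.lin ν).2)
  rw [tag, e, C.lin_apply, C.lin_apply, C.pr_Phi, map_one, map_one, Units.val_one, div_one,
    show 4 * z + (k : ℂ) * (ν C.f0 : ℂ) - (ν C.f0 : ℂ) = 2 * (2 * z) + ((k : ℂ) - 1) * (ν C.f0 : ℂ) by ring]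
  refine memLI_add hP (memLI_two_mul hM (memLR_mul hP (by simpa using memLR_natCast hP 2) (memLR_alg hM hz)))
    (memLI_mul_right hP (memLI_sub_odd hM hk) ?_)
  have := memLR_char (M := M) hP (irr_isCharacter (C.lin ν).2) (C.f0 : C.S.K)
  rwa [C.lin_apply, C.pr_Phi] at this

theorem tag_ext (hM : IsPModular 2 M) (hco : C.e.Coprime C.D.b) (i : Fin 4) (ν : C.Phi →* ℂˣ) :
    MemLocalIdeal M (C.tag (C.ext M i ν : C.S.K → ℂ) - (ν C.f0 : ℂ)) := by
  have hP := pmod_prime hM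
  refine memLI_trans hP ?_ (C.tag_lin hM hco ν)
  have e : ∀ χ : C.S.K → ℂ, C.tag χ = lam χ (fun h => if h ∈ C.Tset then 1 else 0) := fun χ => by
    simp [tag, lam, ite_mul, Finset.sum_ite_mem]
  rw [e, e]
  refine memLI_symm hP (lam_congr hP (C.lin ν).2 (C.ext M i ν).2 (C.ext_mem hM i ν) (fun h g => ?_) fun h => ?_)
  · refine if_congr ⟨fun h' => ?_, fun h' => C.Tset_conj h' g⟩ rfl rfl
    have := C.Tset_conj h' g⁻¹
    rwa [inv_inv, show g⁻¹ * (g * h * g⁻¹) * g = h by group] at this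
  · split_ifs
    · exact memLR_one hP
    · exact memLR_zero hP

/-! ### Characters outside the blocks of full defect -/

/-- `⟨s⟩ × B P`. -/
noncomputable def sHP (P : Subgroup C.Phi) : ℤˣ × C.HP P →* C.S.K :=
  MonoidHom.noncommCoprod (invHom C.s_mul_s) (C.HP P).subtype fun u x => by
    rcases Int.units_eq_one_or u with rfl | rfl
    · simp [invHom]
    · simpa [invHom] using C.HP_s x

/-- `μ φ` on `B Φ`, as a function. -/
noncomputable def chiF (φ : C.D.B →* ℂˣ) (μ : C.Phi →* ℂˣ) : C.HP ⊤ → ℂ :=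
  fun x => (μ (C.pr x) : ℂ) * (φ (C.bp x) : ℂ)

theorem inv_one : C.Inv (1 : C.D.B →* ℂˣ) := eq_top_iff.2 fun _ _ => C.mem_stab.2 (MonoidHom.one_comp _)

theorem chiF_eq {φ : C.D.B →* ℂˣ} (hφ : C.Inv φ) (μ : C.Phi →* ℂˣ) :
    C.chiF φ μ = fun x => (C.chi (P := ⊤) (θ := φ) (hφ ▸ le_rfl) μ x : ℂ) := by
  funext x
  simp [chiF, chi]

/-- The coefficient on the coset of `s`. -/
noncomputable def dS (χ : C.S.K → ℂ) (φ : C.D.B →* ℂˣ) (μ : C.Phi →* ℂˣ) : ℂ :=
  classInner (fun x : C.HP ⊤ => χ ((C.D.s : C.S.K) * x)) (C.chiF φ μ)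

/-- The coefficient on `B Φ`. -/
noncomputable def nS (χ : C.S.K → ℂ) (φ : C.D.B →* ℂˣ) (μ : C.Phi →* ℂˣ) : ℂ :=
  classInner (fun x : C.HP ⊤ => χ x) (C.chiF φ μ)

theorem dS_nS {χ : C.S.K → ℂ} (hc : IsCharacter C.S.K χ) {φ : C.D.B →* ℂˣ} (hφ : C.Inv φ) (μ : C.Phi →* ℂˣ) :
    ∃ a b : ℤ, C.nS χ φ μ = a + b ∧ C.dS χ φ μ = a - b := by
  set l := C.chi (P := ⊤) (θ := φ) (hφ ▸ le_rfl) μ
  let sg : ℤˣ →* ℂˣ :=
    { toFun := fun u => if u = 1 then 1 else -1
      map_one' := if_pos rfl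
      map_mul' := fun a b => by
        rcases Int.units_eq_one_or a with rfl | rfl <;> rcases Int.units_eq_one_or b with rfl | rfl <;> simp }
  obtain ⟨a, ha⟩ := classInner_natCast (isCharacter_comp (C.sHP ⊤) hc)
    (isCharacter_linear (l.comp (MonoidHom.snd ℤˣ (C.HP ⊤))))
  obtain ⟨b, hb⟩ := classInner_natCast (isCharacter_comp (C.sHP ⊤) hc)
    (isCharacter_linear (l.comp (MonoidHom.snd ℤˣ (C.HP ⊤)) * sg.comp (MonoidHom.fst ℤˣ (C.HP ⊤))))
  refine ⟨a, b, ?_⟩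
  push_cast
  rw [← ha, ← hb, nS, dS, C.chiF_eq hφ]
  simp only [classInner, Fintype.sum_prod_type]
  rw [show (Finset.univ : Finset ℤˣ) = {1, -1} from rfl, Finset.sum_pair (by decide), Finset.sum_pair (by decide)]
  simp only [Function.comp_apply, MonoidHom.comp_apply, MonoidHom.mul_apply, MonoidHom.coe_snd, MonoidHom.coe_fst,
    show ∀ x : C.HP ⊤, C.sHP ⊤ (1, x) = (x : C.S.K) from fun x => by simp [sHP, invHom],
    show ∀ x : C.HP ⊤, C.sHP ⊤ (-1, x) = (C.D.s : C.S.K) * x from fun x => by simp [sHP, invHom],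
    show sg 1 = 1 from rfl, show sg (-1) = -1 from rfl, Units.val_mul, Units.val_one, Units.val_neg, mul_one]
  rw [Nat.card_prod, Nat.card_eq_fintype_card (α := ℤˣ), show Fintype.card ℤˣ = 2 from rfl]
  simp only [map_mul, map_neg, map_one, mul_neg, mul_one, Finset.sum_neg_distrib]
  push_cast
  constructor <;> ring

/-- The parametrised sum over `B Φ`. -/
theorem sum_top (f : C.HP ⊤ → ℂ) :
    ∑ x, f x = ∑ β : C.D.B, ∑ g : C.Phi, f (C.hpE ⊤ (β, ⟨g, mem_top g⟩)) := by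
  rw [← (C.hpE ⊤).sum_comp, Fintype.sum_prod_type]
  refine Finset.sum_congr rfl fun β _ => ?_
  exact Fintype.sum_equiv (Subgroup.topEquiv).toEquiv _ _ fun g => rfl

theorem hpE_bp (β : C.D.B) (g : C.Phi) :
    C.bp (C.hpE ⊤ (β, ⟨g, mem_top g⟩)) = β ∧ C.pr (C.hpE ⊤ (β, ⟨g, mem_top g⟩) : C.S.K) = g :=
  ⟨Subtype.ext (C.lp_mul (β : C.L) g), C.pr_mul (β : C.L) g⟩

/-- The expansion at the generator of a function on `B Φ`. -/
theorem expand_f0 {u : C.HP ⊤ → ℂ} (hu : IsClassFunction (C.HP ⊤) u) :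
    u (C.hpE ⊤ (1, ⟨C.f0, mem_top _⟩)) =
      ∑ φ : C.D.B →* ℂˣ, if C.Inv φ then ∑ μ, classInner u (C.chiF φ μ) * (μ C.f0 : ℂ) else 0 := by
  set w : C.D.B → ℂ := fun β => u (C.hpE ⊤ (β, ⟨C.f0, mem_top _⟩))
  have hb0 := C.b_ne
  have he0 : (C.e : ℂ) ≠ 0 := Nat.cast_ne_zero.2 Nat.card_pos.ne'
  have hhat : ∀ φ : C.D.B →* ℂˣ, ∑ μ, classInner u (C.chiF φ μ) * (μ C.f0 : ℂ) =
      (C.D.b : ℂ)⁻¹ * ∑ β, w β * conj (φ β : ℂ) := by
    intro φ
    simp only [classInner, C.sum_top, Finset.mul_sum, Finset.sum_mul]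
    rw [Finset.sum_comm]
    refine Finset.sum_congr rfl fun β _ => ?_
    rw [Finset.sum_comm, Finset.sum_eq_single C.f0]
    · rw [Finset.sum_congr rfl (g := fun _ : C.Phi →* ℂˣ =>
          (Nat.card (C.HP (⊤ : Subgroup C.Phi)) : ℂ)⁻¹ * (w β * conj (φ β : ℂ))) fun μ _ => ?_,
        Finset.sum_const, Finset.card_univ, nsmul_eq_mul, C.card_HP, Subgroup.card_top,
        show (Fintype.card (C.Phi →* ℂˣ) : ℂ) = C.e by
          have h := sum_hom_apply C.Phi_comm' (1 : C.Phi)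
          simpa using h]
      · push_cast
        field_simp
      · obtain ⟨e1, e2⟩ := C.hpE_bp β C.f0
        rw [chiF, e1, e2, map_mul]
        have h1 : conj (μ C.f0 : ℂ) * (μ C.f0 : ℂ) = 1 := by rw [conj_lin, map_inv]; simp
        linear_combination ((Nat.card (C.HP (⊤ : Subgroup C.Phi)) : ℂ)⁻¹ * (w β * conj (φ β : ℂ))) * h1
    · intro g _ hg
      obtain ⟨e1, e2⟩ := C.hpE_bp β g
      rw [Finset.sum_congr rfl (g := fun μ : C.Phi →* ℂˣ => ((Nat.card (C.HP (⊤ : Subgroup C.Phi)) : ℂ)⁻¹ *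
          (u (C.hpE ⊤ (β, ⟨g, mem_top g⟩)) * conj (φ β : ℂ))) * (μ (g⁻¹ * C.f0) : ℂ)) fun μ _ => by
        rw [chiF, e1, e2, map_mul, conj_lin μ, map_mul, Units.val_mul]; ring,
        ← Finset.mul_sum, sum_hom_apply C.Phi_comm', if_neg (fun h => hg (inv_mul_eq_one.1 h)), mul_zero]
    · intro h; exact absurd (Finset.mem_univ _) h
  have hzero : ∀ φ : C.D.B →* ℂˣ, ¬ C.Inv φ → ∑ β, w β * conj (φ β : ℂ) = 0 := by
    intro φ hφ
    obtain ⟨γ, hγ⟩ : ∃ γ, φ (C.bconj C.f0 γ) ≠ φ γ := by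
      by_contra h
      push Not at h
      have hm : C.f0 ∈ C.stab φ := C.mem_stab.2 (MonoidHom.ext h)
      exact hφ (eq_top_iff.2 fun f _ => zpowers_le.2 hm (C.f0_gen f))
    set δ := γ * (C.bconj C.f0 γ)⁻¹
    have hshift : ∀ β, w (β * δ) = w β := by
      intro β
      refine Eq.trans ?_ (hu (C.hpE ⊤ (β, ⟨C.f0, mem_top _⟩)) ⟨C.bK γ, C.bK_mem ⊤ γ⟩)
      refine congrArg u (Subtype.ext ?_)
      show C.bK (β * δ) * (C.f0 : C.S.K) = C.bK γ * (C.bK β * (C.f0 : C.S.K)) * (C.bK γ)⁻¹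
      rw [← map_inv, mul_assoc, mul_assoc (C.bK β), show (C.f0 : C.S.K) * C.bK γ⁻¹ =
        C.bK (C.bconj C.f0 γ⁻¹) * (C.f0 : C.S.K) by rw [← C.bconj_spec, inv_mul_cancel_right],
        ← mul_assoc (C.bK β), ← map_mul, ← mul_assoc (C.bK γ), ← map_mul, map_inv, ← mul_assoc γ, C.B_comm' γ β]
      simp only [δ, mul_assoc]
    have hδ : conj (φ δ : ℂ) ≠ 1 := by
      intro e
      apply hγ
      have e' : (φ δ : ℂ) = 1 := by simpa using congrArg conj e
      have : φ δ = 1 := Units.ext (by simpa using e')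
      rw [map_mul, map_inv, mul_inv_eq_one] at this
      exact this.symm
    have h := Fintype.sum_equiv (Equiv.mulRight δ) (fun β => w (β * δ) * conj (φ (β * δ) : ℂ))
      (fun β => w β * conj (φ β : ℂ)) fun β => rfl
    simp only [hshift, map_mul, Units.val_mul, ← mul_assoc, ← Finset.sum_mul] at h
    exact (mul_right_eq_self₀.mp h).resolve_left hδ
  calc u (C.hpE ⊤ (1, ⟨C.f0, mem_top _⟩)) = ∑ φ : C.D.B →* ℂˣ, (C.D.b : ℂ)⁻¹ * ∑ β, w β * conj (φ β : ℂ) := by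
        haveI := finite_hom_units C.D.B
        rw [← Finset.mul_sum, Finset.sum_comm,
          Finset.sum_congr rfl (g := fun β => if β = 1 then w β * (C.D.b : ℂ) else 0) fun β _ => by
            rw [← Finset.mul_sum, Finset.sum_congr rfl (g := fun φ : C.D.B →* ℂˣ => ((φ β⁻¹ : ℂˣ) : ℂ)) fun φ _ =>
              conj_lin φ β, sum_hom_apply C.B_comm', C.D.card_B]
            simp only [inv_eq_one, mul_ite, mul_zero],
          Finset.sum_ite_eq', if_pos (Finset.mem_univ _), ← mul_comm (C.D.b : ℂ), ← mul_assoc, inv_mul_cancel₀ hb0,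
          one_mul]
    _ = _ := Finset.sum_congr rfl fun φ _ => by
      split_ifs with h
      · exact (hhat φ).symm
      · rw [hzero φ h, mul_zero]

/-- Outside the block of `μ` the coefficient of the trivial character of `B` on the coset of `s` vanishes. -/
theorem dS_one (hM : IsPModular 2 M) {ξ : IrrCharacter C.S.K} (hne : ∀ i ν, C.ext M i ν ≠ ξ) (μ : C.Phi →* ℂˣ) :
    C.dS (ξ : C.S.K → ℂ) 1 μ = 0 := by
  have hne' : ¬ SameBlock M (ξ : C.S.K → ℂ) (C.lin μ : C.S.K → ℂ) := fun h => by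
    obtain ⟨i, hi⟩ := C.mem_U hM (sameBlock_symm (pmod_prime hM) h)
    exact hne i μ hi
  have hin : classInner (ξ : C.S.K → ℂ) (C.lin μ : C.S.K → ℂ) = 0 := by
    rw [irrC_orth, if_neg fun e => hne 0 μ ((C.ext0 hM μ).trans e.symm)]
  have hein := einner_eq_zero_of_not_sameBlock hM ξ (C.lin μ) hne'
  set f : C.S.K → ℂ := fun z => (ξ : C.S.K → ℂ) z * conj ((C.lin μ : C.S.K → ℂ) z)
  have hf : IsClassFunction C.S.K f := fun a h => by
    simp only [f, isClassFunction_character (irr_isCharacter ξ.2) a h,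
      isClassFunction_character (irr_isCharacter (C.lin μ).2) a h]
  have h0 : ∑ z : C.S.K with 2 ∣ orderOf z, f z = 0 := by
    have hK : (Nat.card C.S.K : ℂ)⁻¹ ≠ 0 := inv_ne_zero (Nat.cast_ne_zero.2 Nat.card_pos.ne')
    rw [classInner, mul_eq_zero, or_iff_right hK] at hin
    rw [einner, classInner, mul_eq_zero, or_iff_right hK] at hein
    rw [Finset.sum_filter]
    calc (∑ z : C.S.K, if 2 ∣ orderOf z then f z else 0) =
        ∑ z : C.S.K, (f z - (ξ : C.S.K → ℂ) z * regInd 2 z * conj ((C.lin μ : C.S.K → ℂ) z)) := by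
          refine Finset.sum_congr rfl fun z _ => ?_
          simp only [regInd, f]
          split_ifs <;> ring
      _ = 0 := by rw [Finset.sum_sub_distrib]; exact sub_eq_zero.2 (hin.trans hein.symm)
  have h := C.sing_sum hf
  rw [h0, mul_zero] at h
  have hs := (mul_eq_zero.1 h.symm).resolve_left (Nat.cast_ne_zero.2 Nat.card_pos.ne')
  rw [dS, classInner]
  refine mul_eq_zero_of_right _ ?_
  rw [← hs]
  refine Finset.sum_congr rfl fun x _ => ?_
  show _ = (ξ : C.S.K → ℂ) _ * conj ((C.lin μ : C.S.K → ℂ) _)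
  rw [C.lin_apply, map_mul C.pr, C.pr_L, one_mul, chiF, MonoidHom.one_apply, Units.val_one, mul_one]

theorem dS_inv {χ : C.S.K → ℂ} (hχ : IsClassFunction C.S.K χ) (φ : C.D.B →* ℂˣ) (μ : C.Phi →* ℂˣ) :
    C.dS χ φ⁻¹ μ = C.dS χ φ μ := by
  simp only [dS, classInner, C.sum_top]
  congr 1
  refine Fintype.sum_equiv (Equiv.inv C.D.B) _ _ fun β => Finset.sum_congr rfl fun g _ => ?_
  obtain ⟨e1, e2⟩ := C.hpE_bp β g
  obtain ⟨e3, e4⟩ := C.hpE_bp β⁻¹ g
  show _ = χ ((C.D.s : C.S.K) * (C.bK β⁻¹ * (g : C.S.K))) * conj (C.chiF φ μ (C.hpE ⊤ (β⁻¹, ⟨g, mem_top g⟩)))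
  rw [chiF, chiF, e1, e2, e3, e4, MonoidHom.inv_apply, ← map_inv φ]
  congr 1
  have hu : (C.uL : C.S.K) * (C.bK β) * (C.uL : C.S.K)⁻¹ = C.bK β⁻¹ :=
    congrArg Subtype.val ((C.D.outside C.uL_spec.1 C.uL_spec.2.2).2 _ β.2)
  have hus : (C.uL : C.S.K) * (C.D.s : C.S.K) * (C.uL : C.S.K)⁻¹ = (C.D.s : C.S.K) := by
    rw [mul_inv_eq_iff_eq_mul]; exact congrArg Subtype.val C.uL_spec.1
  have hug : (C.uL : C.S.K) * (g : C.S.K) * (C.uL : C.S.K)⁻¹ = (g : C.S.K) := by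
    rw [mul_inv_eq_iff_eq_mul]; exact Subtype.ext (C.u0_fix ⟨g, g.2, rfl⟩).symm
  rw [show ((C.hpE ⊤ (β, ⟨g, mem_top g⟩) : C.HP ⊤) : C.S.K) = C.bK β * (g : C.S.K) from rfl,
    ← hχ ((C.D.s : C.S.K) * (C.bK β * (g : C.S.K))) (C.uL : C.S.K)]
  congr 1
  conv_rhs => rw [← hu]
  rw [show (C.uL : C.S.K) * ((C.D.s : C.S.K) * (C.bK β * (g : C.S.K))) * (C.uL : C.S.K)⁻¹ =
    (C.uL : C.S.K) * (C.D.s : C.S.K) * (C.uL : C.S.K)⁻¹ * ((C.uL : C.S.K) * C.bK β * (C.uL : C.S.K)⁻¹ *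
      ((C.uL : C.S.K) * (g : C.S.K) * (C.uL : C.S.K)⁻¹)) by group, hus, hug]

/-- The degree is even. -/
theorem deg_even (hM : IsPModular 2 M) {ξ : IrrCharacter C.S.K} (hne : ∀ i ν, C.ext M i ν ≠ ξ) :
    2 ∣ deg (ξ : C.S.K → ℂ) := by
  have hc := irr_isCharacter ξ.2
  set f : C.D.B → ℂ := fun β => (ξ : C.S.K → ℂ) (C.bK β)
  set c : (C.D.B →* ℂˣ) → ℂ := fun φ => classInner f (fun β => (φ β : ℂ))
  have hb0 := C.b_ne
  haveI := finite_hom_units C.D.B
  letI : Fintype (C.D.B →* ℂˣ) := Fintype.ofFinite _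
  have htot : ∑ φ, c φ = (ξ : C.S.K → ℂ) 1 := by
    simp only [c, classInner, ← Finset.mul_sum]
    rw [Finset.sum_comm, Finset.sum_congr rfl (g := fun β => if β = 1 then f β * (C.D.b : ℂ) else 0) fun β _ => by
      rw [← Finset.mul_sum, Finset.sum_congr rfl (g := fun φ : C.D.B →* ℂˣ => ((φ β⁻¹ : ℂˣ) : ℂ)) fun φ _ =>
        conj_lin φ β, sum_hom_apply C.B_comm', C.D.card_B]
      simp only [inv_eq_one, mul_ite, mul_zero], Finset.sum_ite_eq', if_pos (Finset.mem_univ _), C.D.card_B]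
    simp only [f, map_one]
    field_simp
  have hsym : ∀ φ, c φ⁻¹ = c φ := by
    intro φ
    simp only [c, classInner]
    congr 1
    refine Fintype.sum_equiv (Equiv.inv C.D.B) _ _ fun β => ?_
    show _ = f β⁻¹ * conj (φ β⁻¹ : ℂ)
    rw [MonoidHom.inv_apply, ← map_inv φ]
    congr 1
    have h := isClassFunction_character hc (C.bK β) (C.uL : C.S.K)
    have hu : (C.uL : C.S.K) * (C.bK β) * (C.uL : C.S.K)⁻¹ = C.bK β⁻¹ :=
      congrArg Subtype.val ((C.D.outside C.uL_spec.1 C.uL_spec.2.2).2 _ β.2)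
    rw [hu] at h
    exact h.symm
  have hone : ∃ n : ℤ, c 1 = 2 * n := by
    have hev : ∀ μ, ∃ n : ℤ, C.nS (ξ : C.S.K → ℂ) 1 μ = 2 * n := fun μ => by
      obtain ⟨a, b, hn, hd⟩ := C.dS_nS hc C.inv_one μ
      rw [C.dS_one hM hne μ, eq_comm, sub_eq_zero] at hd
      exact ⟨a, by rw [hn, ← hd]; ring⟩
    choose n hn using hev
    refine ⟨∑ μ, n μ, ?_⟩
    push_cast
    rw [Finset.mul_sum, ← Finset.sum_congr rfl fun μ _ => hn μ]
    show c 1 = ∑ μ, classInner (fun x : C.HP ⊤ => (ξ : C.S.K → ℂ) x) (C.chiF 1 μ)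
    simp only [c, classInner, C.sum_top, ← Finset.mul_sum]
    symm
    rw [Finset.sum_comm, Finset.sum_congr rfl (g := fun β : C.D.B => (C.e : ℂ) * f β) fun β _ => ?_, ← Finset.mul_sum]
    · rw [C.card_HP, Subgroup.card_top, C.D.card_B]
      have he0 : (C.e : ℂ) ≠ 0 := Nat.cast_ne_zero.2 Nat.card_pos.ne'
      simp only [MonoidHom.one_apply, Units.val_one, map_one, mul_one]
      push_cast
      field_simp
    · rw [Finset.sum_comm, Finset.sum_eq_single (1 : C.Phi)]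
      · obtain ⟨e1, e2⟩ := C.hpE_bp β 1
        rw [Finset.sum_congr rfl (g := fun _ => f β) fun μ _ => by
          rw [chiF, e1, e2]; simp [f, hpE], Finset.sum_const, Finset.card_univ, nsmul_eq_mul]
        have h := sum_hom_apply C.Phi_comm' (1 : C.Phi)
        rw [show (Fintype.card (C.Phi →* ℂˣ) : ℂ) = C.e by simpa using h]
      · intro g _ hg
        obtain ⟨e1, e2⟩ := C.hpE_bp β g
        rw [Finset.sum_congr rfl (g := fun μ : C.Phi →* ℂˣ => (ξ : C.S.K → ℂ) (C.hpE ⊤ (β, ⟨g, mem_top g⟩) : C.S.K) *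
          ((μ g⁻¹ : ℂˣ) : ℂ)) fun μ _ => by
            rw [chiF, e1, e2, MonoidHom.one_apply, Units.val_one, mul_one, conj_lin],
          ← Finset.mul_sum, sum_hom_apply C.Phi_comm', if_neg (by simpa using hg), mul_zero]
      · intro h; exact absurd (Finset.mem_univ _) h
  obtain ⟨n, hn⟩ := hone
  have hint : ∀ φ, ∃ m : ℤ, c φ = m := fun φ => by
    obtain ⟨m, hm⟩ := classInner_natCast (isCharacter_comp C.bK hc) (isCharacter_linear φ)
    exact ⟨m, by exact_mod_cast hm⟩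
  choose m hm using hint
  have h := C.D.sum_hB c
  rw [htot, char_one_eq_deg hc, hn, Finset.sum_congr rfl fun φ _ => hsym φ,
    Finset.sum_congr rfl fun φ _ => hm φ] at h
  have h' : (deg (ξ : C.S.K → ℂ) : ℤ) = 2 * (n + ∑ φ ∈ C.D.hB, m φ) := by
    apply Int.cast_injective (α := ℂ)
    push_cast
    rw [h]; ring
  exact Int.natCast_dvd_natCast.1 ⟨_, h'⟩

theorem psi_sub (φ : C.D.B →* ℂˣ) (μ : C.Phi →* ℂˣ) : C.psi φ ⊤ μ = C.chiF 1 μ - C.chiF φ μ := by
  funext x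
  simp [psi, chiF, mul_sub]

/-- The parities of the coefficients on the coset of `s`. -/
theorem dS_parity (hM : IsPModular 2 M) (hco : C.e.Coprime C.D.b) {θ φ : C.D.B →* ℂˣ} (hθ : θ ≠ 1) (hφ : φ ≠ 1)
    (hθi : C.Inv θ) (hφi : C.Inv φ) (μ μ' : C.Phi →* ℂˣ) {ξ : IrrCharacter C.S.K}
    (hξ : classInner (C.Yt M θ μ) (ξ : C.S.K → ℂ) ≠ 0) :
    ∃ j : ℤ, C.dS (ξ : C.S.K → ℂ) φ μ' = (if μ = μ' then delta2 θ φ else 0) + 2 * j := by
  have hne : ∀ i ν, C.ext M i ν ≠ ξ := fun i ν e => hξ (e ▸ C.Yt_ext hθ hM hco μ i ν)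
  have hc := irr_isCharacter ξ.2
  obtain ⟨a, b, hn, hd⟩ := C.dS_nS hc hφi μ'
  obtain ⟨a1, b1, hn1, hd1⟩ := C.dS_nS hc C.inv_one μ'
  rw [C.dS_one hM hne μ', eq_comm, sub_eq_zero] at hd1
  have hY : classInner (C.Yt M φ μ') (ξ : C.S.K → ℂ) = conj (C.nS (ξ : C.S.K → ℂ) 1 μ' - C.nS (ξ : C.S.K → ℂ) φ μ') := by
    rw [Yt, classInner_add_left, classInner_sum_left, Finset.sum_eq_zero fun ν _ => ?_, add_zero]
    · rw [Df, show C.stab φ = ⊤ from hφi, Cfsg.Agent.Char.frobenius _ _ (isClassFunction_character hc), C.psi_sub,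
        classInner_sub_left, map_sub, nS, nS, classInner_symm, classInner_symm]
    · rw [classInner_smul_left, C.Yone_eq, classInner_sum_left, Finset.sum_eq_zero fun i _ => ?_, mul_zero]
      rw [classInner_smul_left, irrC_orth, if_neg (hne i ν), mul_zero]
  rw [hn, hn1, hd1] at hY
  simp only [map_sub, map_add, map_intCast] at hY
  have hpm := (C.exists_pair hθ hM hco μ hξ).1
  by_cases hcase : μ = μ' ∧ delta2 θ φ ≠ 0
  · obtain ⟨rfl, hd2⟩ := hcase
    have hd2' : delta2 θ φ = 1 := by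
      have hsq : θ * θ ≠ 1 := fun e => hθ (hom_eq_one_of_sq (C.D.card_B.symm ▸ C.D.b_odd) e)
      simp only [delta2] at hd2 ⊢
      by_cases e1 : θ = φ
      · subst e1; simp [hsq]
      · by_cases e2 : θ * φ = 1 <;> simp [e1, e2] at hd2 ⊢
    rw [← C.Yt_of_delta hθ hφ hθi hφi hM hco hd2' μ] at hY
    rw [if_pos rfl, hd2', hd]
    rcases hpm with e | e <;> rw [e] at hY
    · have h : (1 : ℤ) = b1 + b1 - (a + b) := by exact_mod_cast hY
      refine ⟨-b + b1 - 1, ?_⟩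
      rw [show a = b1 + b1 - b - 1 by omega]
      push_cast; ring
    · have h : (-1 : ℤ) = b1 + b1 - (a + b) := by exact_mod_cast hY
      refine ⟨-b + b1, ?_⟩
      rw [show a = b1 + b1 - b + 1 by omega]
      push_cast; ring
  · have hzero : classInner (C.Yt M φ μ') (ξ : C.S.K → ℂ) = 0 := by
      by_contra hne'
      have hfg : classInner (C.Yt M θ μ) (C.Yt M φ μ') = 0 := by
        rw [C.inner_Yt_inv hθ hφ hφi hM hco, C.selZ_inv hθi]
        by_cases h1 : μ = μ'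
        · rw [if_pos h1, not_ne_iff.1 fun h => hcase ⟨h1, h⟩]; simp
        · rw [if_neg h1]; simp
      exact (C.exists_pair hθ hM hco μ hξ).2.1 (C.share (C.gen_Yt θ μ) (C.gen_Yt φ μ') (C.inner_Yt_self hθ hM hco μ)
        (C.inner_Yt_self hφ hM hco μ') hfg (fun z hz => C.Yt_even hM θ μ hz) (fun z hz => C.Yt_even hM φ μ' hz) hξ hne')
    rw [hzero] at hY
    have h : (0 : ℤ) = b1 + b1 - (a + b) := by exact_mod_cast hY
    refine ⟨b1 - b, ?_⟩
    rw [hd, show a = b1 + b1 - b by omega]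
    by_cases h1 : μ = μ'
    · rw [if_pos h1, not_ne_iff.1 fun h => hcase ⟨h1, h⟩]; push_cast; ring
    · rw [if_neg h1]; push_cast; ring

/-- The values at `f₀` and `s f₀` agree modulo four. -/
theorem f0_s {χ : C.S.K → ℂ} (hc : IsCharacter C.S.K χ) :
    ∃ z : ℂ, IsIntegral ℤ z ∧ χ (C.f0 : C.S.K) + 3 * χ ((C.D.s : C.S.K) * (C.f0 : C.S.K)) = 4 * z := by
  let φ : (ℤˣ × ℤˣ) × C.Phi →* C.S.K := MonoidHom.noncommCoprod C.vK C.Phi.subtype fun p g => (C.vK_Phi p g).symm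
  have hn : ∀ μ : C.Phi →* ℂˣ, ∃ m : ℕ, classInner (χ ∘ φ) (fun x => ((μ.comp (MonoidHom.snd (ℤˣ × ℤˣ) C.Phi)) x : ℂ)) = m :=
    fun μ => classInner_natCast (isCharacter_comp φ hc) (isCharacter_linear _)
  choose m hm using hn
  refine ⟨∑ μ, (m μ : ℂ) * (μ C.f0 : ℂ), IsIntegral.sum _ fun μ _ => ?_, ?_⟩
  · refine IsIntegral.mul ?_ ?_
    · have h := char_isIntegral (isCharacter_linear (1 : C.Phi →* ℂˣ)) C.f0
      induction m μ with
      | zero => simpa using isIntegral_zero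
      | succ k ih => rw [Nat.cast_succ]; exact ih.add isIntegral_one
    · exact char_isIntegral (isCharacter_linear μ) C.f0
  · simp only [← hm, classInner, Function.comp_apply, Finset.mul_sum, Finset.sum_mul]
    rw [Finset.sum_comm, Fintype.sum_prod_type]
    have e1 : ∀ p g, φ (p, g) = C.vK p * (g : C.S.K) := fun p g => rfl
    have e2 : ∀ p : ℤˣ × ℤˣ, ∀ g : C.Phi, ∑ μ : C.Phi →* ℂˣ, 4 * ((Nat.card ((ℤˣ × ℤˣ) × C.Phi) : ℂ)⁻¹ *
        (χ (φ (p, g)) * conj (((μ.comp (MonoidHom.snd (ℤˣ × ℤˣ) C.Phi)) (p, g) : ℂˣ) : ℂ)) * (μ C.f0 : ℂ)) =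
        if g = C.f0 then χ (C.vK p * (C.f0 : C.S.K)) else 0 := by
      intro p g
      rw [Finset.sum_congr rfl (g := fun μ : C.Phi →* ℂˣ => 4 * (Nat.card ((ℤˣ × ℤˣ) × C.Phi) : ℂ)⁻¹ *
        χ (φ (p, g)) * ((μ (g⁻¹ * C.f0) : ℂˣ) : ℂ)) fun μ _ => by
          rw [map_mul μ, Units.val_mul, ← conj_lin μ g]
          simp only [MonoidHom.comp_apply, MonoidHom.coe_snd]
          ring, ← Finset.mul_sum, sum_hom_apply C.Phi_comm', e1]
      by_cases hg : g = C.f0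
      · subst hg
        rw [if_pos rfl, if_pos (inv_mul_cancel _), Nat.card_prod, Nat.card_eq_fintype_card (α := ℤˣ × ℤˣ),
          show Fintype.card (ℤˣ × ℤˣ) = 4 from rfl]
        have he0 : (C.e : ℂ) ≠ 0 := Nat.cast_ne_zero.2 Nat.card_pos.ne'
        push_cast
        field_simp
      · rw [if_neg hg, if_neg fun h => hg (inv_mul_eq_one.1 h), mul_zero]
    rw [Finset.sum_congr rfl fun p _ => Finset.sum_congr rfl fun g _ => e2 p g]
    simp only [Finset.sum_ite_eq', Finset.mem_univ, if_true, Fintype.sum_prod_type]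
    have hcl := isClassFunction_character hc
    have ht1 : χ ((C.uL : C.S.K) * (C.f0 : C.S.K)) = χ ((C.D.s : C.S.K) * (C.f0 : C.S.K)) := by
      rw [← hcl ((C.D.s : C.S.K) * (C.f0 : C.S.K)) C.thK]
      congr 1
      rw [← C.thK_s]
      conv_lhs => arg 2; rw [← C.thK_f0]
      group
    have ht2 : χ ((C.D.s : C.S.K) * (C.uL : C.S.K) * (C.f0 : C.S.K)) = χ ((C.D.s : C.S.K) * (C.f0 : C.S.K)) := by
      rw [← ht1, ← hcl ((C.uL : C.S.K) * (C.f0 : C.S.K)) C.thK]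
      congr 1
      rw [← C.thK_u]
      conv_lhs => arg 2; rw [← C.thK_f0]
      group
    simp only [show (Finset.univ : Finset ℤˣ) = {1, -1} from rfl,
      Finset.sum_pair (show (1 : ℤˣ) ≠ -1 by decide), vK, MonoidHom.noncommCoprod_apply, invHom,
      MonoidHom.coe_mk, OneHom.coe_mk, if_pos, if_neg (show (-1 : ℤˣ) ≠ 1 by decide), one_mul, mul_one, ht1, ht2]
    ring

theorem tag_Yt (hM : IsPModular 2 M) (hco : C.e.Coprime C.D.b) {θ : C.D.B →* ℂˣ} (hθ : θ ≠ 1) (μ : C.Phi →* ℂˣ)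
    {ξ : IrrCharacter C.S.K} (hξ : classInner (C.Yt M θ μ) (ξ : C.S.K → ℂ) ≠ 0) :
    MemLocalIdeal M (C.tag (ξ : C.S.K → ℂ) - if C.Inv θ then (μ C.f0 : ℂ) else 0) := by
  have hP := pmod_prime hM
  obtain ⟨-, h4, hvan⟩ := C.exists_pair hθ hM hco μ hξ
  have hc := irr_isCharacter ξ.2
  obtain ⟨z, k, hz, hk, e⟩ := C.sum_Tset hco hc
  have hd0 : (deg (ξ : C.S.K → ℂ) : ℂ) ≠ 0 := Nat.cast_ne_zero.2 (deg_pos ξ.2).ne'
  rw [tag, e, char_one_eq_deg hc]
  by_cases hθi : C.Inv θ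
  swap
  · rw [if_neg hθi, sub_zero]
    have hf0 : C.pr (C.f0 : C.S.K) ∉ C.stab θ := by
      rw [C.pr_Phi]
      exact fun h => hθi (eq_top_iff.2 fun f _ => zpowers_le.2 h (C.f0_gen f))
    rw [hvan _ hf0, mul_zero, add_zero]
    obtain ⟨c, hc'⟩ : ∃ c, deg (ξ : C.S.K → ℂ) = c ∧ ¬ 2 ∣ c ∨ deg (ξ : C.S.K → ℂ) = 2 * c ∧ ¬ 2 ∣ c := by
      by_cases h2 : 2 ∣ deg (ξ : C.S.K → ℂ)
      · obtain ⟨c, hc'⟩ := h2
        exact ⟨c, Or.inr ⟨hc', fun h => h4 (by rw [hc']; exact Nat.mul_dvd_mul_left 2 h)⟩⟩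
      · exact ⟨_, Or.inl ⟨rfl, h2⟩⟩
    rcases hc' with ⟨h, hc2⟩ | ⟨h, hc2⟩ <;> rw [h]
    · rw [show 4 * z / (c : ℂ) = 2 * (2 * ((c : ℂ)⁻¹ * z)) by ring]
      exact memLI_two_mul hM (memLR_mul hP (by simpa using memLR_natCast hP 2)
        (memLR_mul hP (memLR_inv_natCast hM hc2) (memLR_alg hM hz)))
    · push_cast
      rw [show 4 * z / (2 * (c : ℂ)) = 2 * ((c : ℂ)⁻¹ * z) by ring]
      exact memLI_two_mul hM (memLR_mul hP (memLR_inv_natCast hM hc2) (memLR_alg hM hz))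
  · rw [if_pos hθi]
    have hne : ∀ i ν, C.ext M i ν ≠ ξ := fun i ν e' => hξ (e' ▸ C.Yt_ext hθ hM hco μ i ν)
    obtain ⟨m, hm⟩ := C.deg_even hM hne
    have hm2 : ¬ 2 ∣ m := fun h => h4 (by rw [hm]; exact Nat.mul_dvd_mul_left 2 h)
    obtain ⟨z', hz', ez'⟩ := C.f0_s hc
    have hu : IsClassFunction (C.HP ⊤) fun x : C.HP ⊤ => (ξ : C.S.K → ℂ) ((C.D.s : C.S.K) * x) := fun a h => by
      show (ξ : C.S.K → ℂ) ((C.D.s : C.S.K) * ((h : C.S.K) * a * (h : C.S.K)⁻¹)) = _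
      rw [show (C.D.s : C.S.K) * ((h : C.S.K) * a * (h : C.S.K)⁻¹) =
        (C.D.s : C.S.K) * (h : C.S.K) * a * (h : C.S.K)⁻¹ by group, (C.HP_s h).eq,
        show (h : C.S.K) * (C.D.s : C.S.K) * a * (h : C.S.K)⁻¹ =
          (h : C.S.K) * ((C.D.s : C.S.K) * a) * (h : C.S.K)⁻¹ by group, isClassFunction_character hc]
    have hexp := C.expand_f0 hu
    rw [show ((C.hpE ⊤ (1, ⟨C.f0, mem_top _⟩) : C.HP ⊤) : C.S.K) = (C.f0 : C.S.K) by simp [hpE]] at hexp
    set W : (C.D.B →* ℂˣ) → ℂ := fun φ =>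
      if C.Inv φ then ∑ ν, C.dS (ξ : C.S.K → ℂ) φ ν * (ν C.f0 : ℂ) else 0
    have hW : ∀ φ, W φ⁻¹ = W φ := fun φ => by
      refine if_congr ?_ (Finset.sum_congr rfl fun ν _ => by rw [C.dS_inv (isClassFunction_character hc)]) rfl
      have key : ∀ φ : C.D.B →* ℂˣ, C.Inv φ → C.Inv φ⁻¹ := fun φ h => eq_top_iff.2 fun f _ =>
        C.mem_stab.2 (MonoidHom.ext fun β => by
          show (φ (C.bconj f β))⁻¹ = (φ β)⁻¹
          rw [show φ (C.bconj f β) = φ β from DFunLike.congr_fun (C.inv_cj h f) β])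
      exact ⟨fun h => inv_inv φ ▸ key _ h, key φ⟩
    have hW1 : W 1 = 0 := by
      simp only [W, if_pos C.inv_one]
      exact Finset.sum_eq_zero fun ν _ => by rw [C.dS_one hM hne, zero_mul]
    have hsum : ∑ φ, W φ = 2 * ∑ φ ∈ C.D.hB, W φ := by
      rw [show ∑ φ, W φ = W 1 + (∑ φ ∈ C.D.hB, W φ + ∑ φ ∈ C.D.hB, W φ⁻¹) by
          convert C.D.sum_hB W using 2
          ext; simp,
        hW1, Finset.sum_congr rfl fun φ _ => hW φ]
      ring
    have hS : MemLocalIdeal M ((∑ φ ∈ C.D.hB, W φ) - (μ C.f0 : ℂ)) := by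
      have hone : (μ C.f0 : ℂ) = ∑ φ ∈ C.D.hB, delta2 θ φ * (μ C.f0 : ℂ) := by
        haveI := finite_hom_units C.D.B
        letI : Fintype (C.D.B →* ℂˣ) := Fintype.ofFinite _
        rw [← Finset.sum_mul, Finset.sum_congr rfl (g := fun φ => delta2 φ θ) fun φ _ => delta2_comm _ _,
          KD.sum_delta2 (X := C.D.B →* ℂˣ) C.D.hB_spec.1 C.D.hB_spec.2, if_neg hθ, one_mul]
      rw [hone, ← Finset.sum_sub_distrib]
      refine memLI_sum hP _ _ fun φ hφ => ?_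
      have hφ1 := C.D.hB_spec.1 φ hφ
      simp only [W]
      by_cases hφi : C.Inv φ
      · rw [if_pos hφi, show delta2 θ φ * (μ C.f0 : ℂ) =
          ∑ ν, (if μ = ν then delta2 θ φ else 0) * (ν C.f0 : ℂ) by simp, ← Finset.sum_sub_distrib]
        refine memLI_sum hP _ _ fun ν _ => ?_
        obtain ⟨j, hj⟩ := C.dS_parity hM hco hθ hφ1 hθi hφi μ ν hξ
        rw [hj, show ((if μ = ν then delta2 θ φ else 0) + 2 * (j : ℂ)) * (ν C.f0 : ℂ) -
          (if μ = ν then delta2 θ φ else 0) * (ν C.f0 : ℂ) = 2 * ((j : ℂ) * (ν C.f0 : ℂ)) by ring]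
        refine memLI_two_mul hM (memLR_mul hP (memLR_intCast hP j) ?_)
        exact memLR_char hP (isCharacter_linear ν) C.f0
      · have : delta2 θ φ = 0 := by
          rw [delta2_comm]
          exact C.delta2_inv_zero hφi hθi
        rw [if_neg hφi, this, zero_mul, sub_zero]
        exact memLI_zero hP
    have hs : (ξ : C.S.K → ℂ) ((C.D.s : C.S.K) * (C.f0 : C.S.K)) = 2 * ∑ φ ∈ C.D.hB, W φ := by
      rw [← hsum, hexp]
      exact Finset.sum_congr rfl fun φ _ => rfl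
    set S := ∑ φ ∈ C.D.hB, W φ
    have hm0 : (m : ℂ) ≠ 0 := Nat.cast_ne_zero.2 fun h => hm2 (h ▸ dvd_zero 2)
    rw [hs] at ez'
    rw [hm, show (ξ : C.S.K → ℂ) (C.f0 : C.S.K) = 4 * z' - 6 * S by linear_combination ez',
      show (4 * z + (k : ℂ) * (4 * z' - 6 * S)) / ((2 * m : ℕ) : ℂ) - (μ C.f0 : ℂ) =
        2 * ((m : ℂ)⁻¹ * (z + (k : ℂ) * z')) + ((m : ℂ)⁻¹ * (-3 * (k : ℂ) - (m : ℂ))) * S + (S - (μ C.f0 : ℂ)) by
        push_cast; field_simp; ring]
    refine memLI_add hP (memLI_add hP (memLI_two_mul hM (memLR_mul hP (memLR_inv_natCast hM hm2)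
      (memLR_add hP (memLR_alg hM hz) (memLR_mul hP (memLR_intCast hP k) (memLR_alg hM hz')))))
      (memLI_mul_right hP (memLI_mul_left hP (memLR_inv_natCast hM hm2) ?_) ?_)) hS
    · obtain ⟨j, rfl⟩ := hk
      obtain ⟨i, hi⟩ := Nat.odd_iff.2 (Nat.two_dvd_ne_zero.1 hm2)
      rw [hi, show -3 * (((2 * j + 1 : ℤ) : ℂ)) - ((2 * i + 1 : ℕ) : ℂ) = 2 * ((-3 * j - 2 - (i : ℤ) : ℤ) : ℂ) by
        push_cast; ring]
      exact memLI_two_mul hM (memLR_intCast hP _)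
    · have hμ := memLR_char (M := M) hP (isCharacter_linear μ) C.f0
      have := memLR_add hP (memLI_memLR hS) hμ
      simpa using this

end Frame

end Cfsg.Agent.Walter.JR
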