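import Cfsg.Agent.Lib.Walter.Defs
import Cfsg.Agent.Lib.Char.ReeOrder.KData
import Cfsg.Agent.Lib.Char.ReeThree.TSection
import Cfsg.Agent.Lib.Classical.CyclicNormalizer.OuterOdd
import Cfsg.Agent.Lib.Solv.Partition.AutPSL

/-!
# The setting of part (C): `C(t) = ⟨t⟩ × E`, `L ≅ PSL₂(q)` normal in `E`, `E = L Φ`, `Φ` field automorphisms

`Frame` fixes coordinates in which `Φ` acts by field automorphisms and in which the distinguished involution `s` of
`L` is the image of the Weyl element, so that `Φ` centralises `s` and normalises `B`.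

The statements `LocalStatement` and `MainStatement` are what the group-theoretical and the character-theoretical
halves have to prove; see `notes/walter_C_helper7.md`.
-/

set_option autoImplicit false
set_option linter.unusedSectionVars false
set_option linter.style.haveILetI false

namespace Cfsg.Agent.Walter.JR

open Subgroup Cfsg.Agent.Char.ReeThree Cfsg.Agent.Char.ReeOrder Cfsg.Agent.Small Cfsg.Agent.Solv.AbelianTwo

universe u

/-- Coordinates for `C(t) = ⟨t⟩ × (L ⋊ Φ)`. -/
structure Frame (G : Type u) [Group G] (F : Type) [Field F] [Fintype F] where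
  S : Split G
  L : Subgroup S.K
  Phi : Subgroup S.K
  alpha : Phi →* (F ≃+* F)
  iso : L ≃* Matrix.ProjectiveSpecialLinearGroup (Fin 2) F
  D : KD L F
  hL : L.Normal
  compl : L.IsComplement' Phi
  odd : Odd (Nat.card Phi)
  alpha_inj : Function.Injective alpha
  equiv : ∀ (f : Phi) (x : L),
    iso ⟨(f : S.K) * (x : S.K) * (f : S.K)⁻¹, hL.conj_mem x x.2 f⟩ = PSL2.fieldP (alpha f) (iso x)
  D_s : iso D.s = PSL2.pr PSL2.wS
  hconj : ∀ x : G, orderOf x = 2 → IsConj S.t x
  hab : Ab2 G

namespace Frame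

variable {G : Type u} [Group G] {F : Type} [Field F] [Fintype F] (C : Frame G F)

/-- `q`. -/
abbrev q : ℕ := Fintype.card F

/-- `e = |E : L|`. -/
noncomputable abbrev e : ℕ := Nat.card C.Phi

/-- The second involution. -/
abbrev s : G := ((C.D.s : C.L) : C.S.K)

/-- The embedding of `L` in `G`. -/
abbrev embL : C.L →* G := C.S.K.subtype.comp C.L.subtype

/-- `B` in `G`. -/
abbrev emb : C.D.B →* G := C.embL.comp C.D.B.subtype

/-- `B` as a subgroup of `G`. -/
abbrev BG : Subgroup G := C.D.B.map C.embL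

/-- `Φ` in `G`. -/
abbrev PhiG : Subgroup G := C.Phi.map C.S.K.subtype

/-- The four group `⟨t, s⟩`. -/
abbrev V : Subgroup G := zpowers C.S.t ⊔ zpowers C.s

/-- The elements of `B` fixed by all of `Φ`. -/
abbrev B0 : Subgroup G := C.BG ⊓ centralizer (C.PhiG : Set G)

end Frame

/-- The group-theoretical half, when `Φ` fixes a non-identity element of `B`: for `1 ≠ y ∈ B` the centraliser
normalises `V`, for `1 ≠ y ∈ B0` it centralises `V` (so every rotation of `V` moves `y`), and in a simple group `e` is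
prime to `b`. -/
def LocalStatement : Prop :=
  ∀ (G : Type u) [Group G] [Finite G] (F : Type) [Field F] [Fintype F] (C : Frame G F), C.B0 ≠ ⊥ →
    (∀ y ∈ C.BG, y ≠ 1 → centralizer ({y} : Set G) ≤ normalizer (C.V : Set G)) ∧
    (∀ y ∈ C.B0, y ≠ 1 → centralizer ({y} : Set G) ≤ centralizer (C.V : Set G)) ∧
    (IsSimpleGroup G → Nat.Coprime C.e C.D.b)

/-- The character-theoretical half. -/
def MainStatement : Prop :=
  ∀ (G : Type u) [Group G] [Finite G] [IsSimpleGroup G] (F : Type) [Field F] [Fintype F] (C : Frame G F),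
    C.B0 ≠ ⊥ → C.e = 1

/-- `E = L` in the simple groups of order below `n`: the hypothesis of the induction. -/
def Smaller (n : ℕ) : Prop :=
  ∀ (M : Type u) [Group M] [Finite M] [IsSimpleGroup M], Nat.card M < n →
    ∀ (F : Type) [Field F] [Fintype F] (C : Frame M F), C.e = 1

/-- The residual fields, where `Φ` fixes no element of `B` but the identity. -/
def ResidualStatement : Prop :=
  ∀ (G : Type u) [Group G] [Finite G] [IsSimpleGroup G] (F : Type) [Field F] [Fintype F] (C : Frame G F),
    Below.{u} (Nat.card G) → Smaller.{u} (Nat.card G) → C.B0 = ⊥ → C.e = 1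

/-- Part (C): `E = L`. -/
def Statement : Prop :=
  ∀ (G : Type u) [Group G] [Finite G] [IsSimpleGroup G] (F : Type) [Field F] [Fintype F] (C : Frame G F),
    Below.{u} (Nat.card G) → C.e = 1

theorem statement_of (hm : MainStatement.{u}) (hr : ResidualStatement.{u}) : Statement.{u} := by
  suffices h : ∀ (n : ℕ) (G : Type u) [Group G] [Finite G] [IsSimpleGroup G], Nat.card G = n →
      ∀ (F : Type) [Field F] [Fintype F] (C : Frame G F), Below.{u} (Nat.card G) → C.e = 1 by
    intro G _ _ _ F _ _ C hb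
    exact h _ G rfl F C hb
  intro n
  induction n using Nat.strong_induction_on with
  | _ n ih =>
    intro G _ _ _ hn F _ _ C hb
    by_cases h : C.B0 = ⊥
    · exact hr G F C hb (fun M _ _ _ hM F' _ _ C' =>
        ih _ (hn ▸ hM) M rfl F' C' fun L _ _ _ h1 h2 h3 => hb L h1 h2 (h3.trans hM)) h
    · exact hm G F C h

section Exists

open Cfsg.Agent.Classical.CyclicNormalizer Cfsg.Agent.Solv.Partition

variable {E : Type u} [Group E] [Finite E] {F : Type} [Field F] [Fintype F]

local notation "P2" => Matrix.ProjectiveSpecialLinearGroup (Fin 2) F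
local notation "SL2" => Matrix.SpecialLinearGroup (Fin 2) F
local notation "toGL" => (Matrix.SpecialLinearGroup.toGL :
  Matrix.SpecialLinearGroup (Fin 2) F → GL (Fin 2) F)

theorem nonsquare_mul (h2 : (2 : F) ≠ 0) {a b : F} (ha : ¬ IsSquare a) (hb : ¬ IsSquare b) : IsSquare (a * b) := by
  have hF : ringChar F ≠ 2 := fun h => h2 (by
    have h0 : ((ringChar F : ℕ) : F) = 0 := CharP.cast_eq_zero F (ringChar F)
    rw [h] at h0
    exact_mod_cast h0)
  have ha0 : a ≠ 0 := fun h => ha (h ▸ IsSquare.zero)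
  have hb0 : b ≠ 0 := fun h => hb (h ▸ IsSquare.zero)
  rw [FiniteField.isSquare_iff hF (mul_ne_zero ha0 hb0), mul_pow]
  rw [(FiniteField.pow_dichotomy hF ha0).resolve_left fun h => ha ((FiniteField.isSquare_iff hF ha0).2 h),
    (FiniteField.pow_dichotomy hF hb0).resolve_left fun h => hb ((FiniteField.isSquare_iff hF hb0).2 h)]
  norm_num

/-- In an extension of odd index every element acts as an inner automorphism times a field automorphism. -/
theorem exists_pure (h2 : (2 : F) ≠ 0) (L : Subgroup E) [L.Normal] (i : L ≃* P2) (hodd : Odd L.index) (g : E) :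
    ∃ (A : SL2) (σ : F ≃+* F), act L i g = PSL2.conjP (toGL A) * PSL2.fieldP σ := by
  let good : MulAut P2 → Prop := fun β => ∃ (A : SL2) (σ : F ≃+* F), β = PSL2.conjP (toGL A) * PSL2.fieldP σ
  have mul_good : ∀ β γ, good β → good γ → good (β * γ) := by
    rintro _ _ ⟨A, σ, rfl⟩ ⟨B, τ, rfl⟩
    refine ⟨A * PSL2.fieldSL σ B, σ * τ, ?_⟩
    have hB : toGL (PSL2.fieldSL σ B) = PSL2.glField σ (toGL B) := Units.ext rfl
    rw [map_mul (Matrix.SpecialLinearGroup.toGL), map_mul PSL2.conjP, map_mul PSL2.fieldP, hB,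
      mul_assoc (PSL2.conjP (toGL A)), mul_assoc (PSL2.conjP (toGL A)), ← mul_assoc (PSL2.fieldP σ),
      PSL2.fieldP_conjP]
    group
  have emb_good : ∀ p : P2, good (MulAut.conj p) := fun p => by
    obtain ⟨A, rfl⟩ := PSL2.pr_surjective p
    exact ⟨A, 1, by rw [PSL2.conjP_toGL, map_one, mul_one]⟩
  have pow_good : ∀ β, good β → ∀ n : ℕ, good (β ^ n) := by
    intro β hβ n
    induction n with
    | zero => exact ⟨1, 1, by simp⟩
    | succ n ih => rw [pow_succ]; exact mul_good _ _ ih hβ
  -- the square of every element is good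
  have sq_good : good (act L i g ^ 2) := by
    obtain ⟨σ, h, hh⟩ := exists_comp L i g
    obtain ⟨t, a, ha⟩ := AutPSL.exists_dGL h
    obtain ⟨A, rfl⟩ := PSL2.pr_surjective a
    rw [ha] at hh
    by_cases ht : IsSquare (t : F)
    · obtain ⟨c, hc⟩ := ht
      have hc0 : c ≠ 0 := fun e => t.ne_zero (by rw [hc, e, mul_zero])
      refine pow_good _ ?_ 2
      rw [hh, show t = Units.mk0 c hc0 * Units.mk0 c hc0 from Units.ext hc, AutPSL.conjP_dGL_sq]
      exact mul_good _ _ (mul_good _ _ (emb_good _) (emb_good _)) ⟨1, σ, by simp⟩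
    · have hσt : ¬ IsSquare (σ (t : F)) := fun ⟨c, hc⟩ => ht ⟨σ.symm c, by rw [← map_mul, ← hc, σ.symm_apply_apply]⟩
      obtain ⟨c, hc⟩ := nonsquare_mul h2 ht hσt
      have hc0 : c ≠ 0 := fun e => by
        rw [e, mul_zero] at hc
        rcases mul_eq_zero.1 hc with h0 | h0
        · exact t.ne_zero h0
        · exact t.ne_zero (σ.injective (h0.trans (map_zero σ).symm))
      set B : P2 := PSL2.pr A with hB
      set D := PSL2.conjP (PSL2.dGL t) with hD
      set D' := PSL2.conjP (PSL2.dGL (Units.map (σ : F →* F) t)) with hD'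
      have hmove : D * MulAut.conj B * PSL2.fieldP σ = MulAut.conj (D B) * (D * PSL2.fieldP σ) := by
        rw [← AutPSL.mul_conj_mul_inv]; group
      have hsw : D * PSL2.fieldP σ * (D * PSL2.fieldP σ) = D * D' * (PSL2.fieldP σ * PSL2.fieldP σ) := by
        rw [hD, hD', ← AutPSL.glField_dGL, mul_assoc (PSL2.conjP _) _ (PSL2.fieldP σ * _), mul_assoc (PSL2.conjP _)]
        congr 1
        rw [← mul_assoc, PSL2.fieldP_conjP]; group
      have hDD : good (D * D') := by
        rw [hD, hD', ← map_mul, ← map_mul, show t * Units.map (σ : F →* F) t = Units.mk0 c hc0 * Units.mk0 c hc0 from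
          Units.ext hc, AutPSL.conjP_dGL_sq]
        exact emb_good _
      have hconjσ : ∀ (β : MulAut P2) (p : P2), β * MulAut.conj p = MulAut.conj (β p) * β := fun β p => by
        rw [← AutPSL.mul_conj_mul_inv]; group
      rw [hh, hmove, pow_two]
      set w := D * PSL2.fieldP σ with hw
      rw [show MulAut.conj (D B) * w * (MulAut.conj (D B) * w) =
        MulAut.conj (D B) * (w * MulAut.conj (D B)) * w by group, hconjσ,
        show MulAut.conj (D B) * (MulAut.conj (w (D B)) * w) * w =
          MulAut.conj (D B) * MulAut.conj (w (D B)) * (w * w) by group, hsw]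
      exact mul_good _ _ (mul_good _ _ (emb_good _) (emb_good _))
        (mul_good _ _ hDD ⟨1, σ * σ, by simp [map_mul]⟩)
  obtain ⟨k, hk⟩ := hodd
  have hn : g ^ (2 * k + 1) ∈ L := hk ▸ Subgroup.pow_index_mem L g
  have hn' : good (act L i (g ^ (2 * k + 1))) := by
    have : g ^ (2 * k + 1) = emb L i (i ⟨_, hn⟩) := by simp [emb]
    rw [this, act_emb]; exact emb_good _
  have hg : g = g ^ (2 * k + 1) * (g ^ 2) ^ (k * orderOf g - k) := by
    rw [← pow_mul, ← pow_add]
    have hle : k ≤ k * orderOf g := Nat.le_mul_of_pos_right k (orderOf_pos g)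
    rw [show 2 * k + 1 + 2 * (k * orderOf g - k) = 1 + orderOf g * (2 * k) by
      zify [hle]; ring, pow_add, pow_mul, pow_orderOf_eq_one, one_pow, mul_one, pow_one]
  show good (act L i g)
  rw [hg, map_mul, map_pow _ (g ^ 2), map_pow _ g 2]
  exact mul_good _ _ hn' (pow_good _ sq_good _)

end Exists

/-- Existence of coordinates. -/
theorem exists_frame {G : Type u} [Group G] [Finite G] {F : Type} [Field F] [Fintype F] (S : Split G)
    (L : Subgroup S.K) [L.Normal] (i : L ≃* Matrix.ProjectiveSpecialLinearGroup (Fin 2) F)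
    (hodd : Odd L.index) (hC : ∀ g : S.K, (∀ m ∈ L, Commute g m) → g = 1)
    (hq8 : Fintype.card F % 8 = 3 ∨ Fintype.card F % 8 = 5) (hq5 : 5 < Fintype.card F)
    (hconj : ∀ x : G, orderOf x = 2 → IsConj S.t x) (hab : Ab2 G) :
    ∃ C : Frame G F, C.S = S ∧ C.e = L.index := by
  classical
  have h2 : (2 : F) ≠ 0 := SL2C.not_two_dvd_iff.1 (by omega)
  let a := Cfsg.Agent.Classical.CyclicNormalizer.act L i
  have hinj : Function.Injective a := Cfsg.Agent.Classical.CyclicNormalizer.act_inj L i hC
  let Phi : Subgroup S.K := (PSL2.fieldP (F := F)).range.comap a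
  have hfl : Function.Injective (PSL2.fieldP (F := F)) := Cfsg.Agent.Solv.Partition.AutPSL.fieldP_injective
  let alpha : Phi →* (F ≃+* F) :=
    (MonoidHom.ofInjective hfl).symm.toMonoidHom.comp
      ((a.comp Phi.subtype).codRestrict (PSL2.fieldP (F := F)).range fun x => x.2)
  have halpha : ∀ f : Phi, PSL2.fieldP (alpha f) = a f := fun f => by
    have := MonoidHom.apply_ofInjective_symm hfl ⟨a f, f.2⟩
    exact this
  have ainj : Function.Injective alpha := fun x y h => Subtype.ext (hinj (by rw [← halpha, ← halpha, h]))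
  have hmeet : ∀ x, x ∈ L → x ∈ Phi → x = 1 := by
    rintro x hx ⟨σ, hσ⟩
    refine hinj (by
      obtain ⟨A, hA⟩ := PSL2.pr_surjective (i ⟨x, hx⟩)
      have hx' : x = Cfsg.Agent.Classical.CyclicNormalizer.emb L i (PSL2.pr A) := by
        rw [hA]; simp [Cfsg.Agent.Classical.CyclicNormalizer.emb]
      have h1 : a x = PSL2.conjP (Matrix.SpecialLinearGroup.toGL A) := by
        rw [hx', PSL2.conjP_toGL]; exact Cfsg.Agent.Classical.CyclicNormalizer.act_emb L i _
      rw [map_one, ← hσ, (PSL2.field_eq_one (h1.symm.trans hσ.symm)).1, map_one])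
  have hprod : ∀ g : S.K, ∃ l ∈ L, ∃ f ∈ Phi, g = l * f := by
    intro g
    obtain ⟨A, σ, hg⟩ := exists_pure h2 L i hodd g
    refine ⟨_, Cfsg.Agent.Classical.CyclicNormalizer.emb_mem L i (PSL2.pr A),
      (Cfsg.Agent.Classical.CyclicNormalizer.emb L i (PSL2.pr A))⁻¹ * g, ⟨σ, ?_⟩, by group⟩
    show PSL2.fieldP σ = a _
    rw [map_mul, map_inv, eq_inv_mul_iff_mul_eq]
    exact ((congrArg (· * _) ((Cfsg.Agent.Classical.CyclicNormalizer.act_emb L i _).trans
      (PSL2.conjP_toGL A).symm)).trans hg.symm)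
  have compl : L.IsComplement' Phi := by
    refine Subgroup.isComplement'_of_disjoint_and_mul_eq_univ
      (Subgroup.disjoint_def.2 fun hx hx' => hmeet _ hx hx') (Set.eq_univ_of_forall fun g => ?_)
    obtain ⟨l, hl, f, hf, rfl⟩ := hprod g
    exact Set.mul_mem_mul hl hf
  have hidx : L.index = Nat.card Phi := compl.symm.index_eq_card
  obtain ⟨D0, hD0⟩ := Psl.exists_kd_s hq8 hq5
  obtain ⟨D, hD⟩ := exists_kd_map i D0
  exact ⟨{
    S := S, L := L, Phi := Phi, alpha := alpha, iso := i, D := D
    hL := inferInstance, compl := compl, odd := hidx ▸ hodd, alpha_inj := ainj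
    equiv := fun f x => by
      rw [halpha]
      have he : i.symm (i x) = x := i.symm_apply_apply x
      simp only [a, Cfsg.Agent.Classical.CyclicNormalizer.act, MonoidHom.mk'_apply, MulEquiv.trans_apply, he]
      exact congrArg i (Subtype.ext rfl)
    D_s := hD.trans hD0, hconj := hconj, hab := hab }, rfl, hidx.symm⟩

end Cfsg.Agent.Walter.JR
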