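import Cfsg.Agent.Lib.Walter.JR.Equations

/-!
# The characters belonging to one `μ`

`InJ μ χ` says that `χ` is missed by every function belonging to another `μ` or to a character of `B` which `Φ`
moves. The functions of `μ` are supported there, and so is every short vector meeting the set and orthogonal to those
functions.
-/

set_option autoImplicit false
set_option linter.unusedSectionVars false
set_option linter.unusedSimpArgs false
set_option linter.style.haveILetI false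
set_option maxHeartbeats 800000

open Cfsg
open scoped ComplexConjugate Classical

namespace Cfsg.Agent.Walter.JR

open Subgroup Cfsg.Agent.Char Cfsg.Agent.Char.ReeThree Cfsg.Agent.Char.ReeOrder

universe u

namespace Frame

variable {G : Type u} [Group G] [Finite G] {F : Type} [Field F] [Fintype F] (C : Frame G F) [Fintype G]

/-- The standing hypotheses. -/
structure Dat where
  R : C.Rot
  M : Ideal AlgInt
  hM : IsPModular 2 M
  hco : C.e.Coprime C.D.b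
  h0 : C.B0 ≠ ⊥

namespace Dat

variable {C}

/-- The coordinates of `Ψ` of `μ`. -/
noncomputable def fc (_ : C.Dat) (μ : C.Phi →* ℂˣ) (θ : C.D.B →* ℂˣ) : IrrCharacter G → ℤ := C.cPs θ μ

variable (d : C.Dat) (μ : C.Phi →* ℂˣ)

/-- The coordinates of `F_k` of `μ`. -/
noncomputable def fF (k : Fin 3) : IrrCharacter G → ℤ := C.LL (C.Fmu d.M k μ)

/-- The coordinates of `Y_θ` of `μ`. -/
noncomputable def fY (θ : C.D.B →* ℂˣ) : IrrCharacter G → ℤ := C.LL (C.Yt d.M θ μ)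

/-- The functions not belonging to `μ`. -/
def Foreign (Φ : C.S.K → ℂ) : Prop :=
  (∃ k ν, ν ≠ μ ∧ Φ = C.Fmu d.M k ν) ∨ ∃ θ ν, θ ≠ 1 ∧ (C.Inv θ → ν ≠ μ) ∧ Φ = C.Yt d.M θ ν

/-- The characters missed by the functions not belonging to `μ`. -/
def InJ (χ : IrrCharacter G) : Prop := ∀ Φ, d.Foreign μ Φ → C.LL Φ χ = 0

/-- The degree inside, eight outside. -/
noncomputable def dJ (χ : IrrCharacter G) : ℕ := if d.InJ μ χ then deg (χ : G → ℂ) else 8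

theorem dJ_pos (χ : IrrCharacter G) : 0 < d.dJ μ χ := by
  unfold dJ
  split_ifs
  · exact deg_pos χ.2
  · norm_num

theorem fF_inJ {k : Fin 3} {χ : IrrCharacter G} (h : d.fF μ k χ ≠ 0) : d.InJ μ χ := by
  rintro Φ (⟨l, ν, hν, rfl⟩ | ⟨θ, ν, hθ, hν, rfl⟩)
  · exact C.sep_F_F d.hM d.hco (Ne.symm hν) k l h
  · exact C.sep_F_Y d.hM d.hco hθ (fun hi => Ne.symm (hν hi)) k h

theorem fY_inJ {θ : C.D.B →* ℂˣ} (hθ : θ ≠ 1) (hθi : C.Inv θ) {χ : IrrCharacter G} (h : d.fY μ θ χ ≠ 0) :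
    d.InJ μ χ := by
  rintro Φ (⟨l, ν, hν, rfl⟩ | ⟨φ, ν, hφ, hν, rfl⟩)
  · by_contra hne
    exact h (C.sep_F_Y d.hM d.hco hθ (fun _ => hν) l hne)
  · exact C.sep_Y_Y d.hM d.hco hθ hθi hφ (fun hi => Ne.symm (hν hi)) h

/-- A vector with little room outside and orthogonal to the functions of the others lies inside. -/
theorem supp_inJ (f : IrrCharacter G → ℤ) (hort : ∀ Φ, d.Foreign μ Φ → ∑ χ, f χ * C.LL Φ χ = 0)
    (hn : ∑ χ ∈ Finset.univ.filter (fun χ => ¬ d.InJ μ χ), f χ * f χ ≤ 1) {χ : IrrCharacter G}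
    (hχ : f χ ≠ 0) : d.InJ μ χ := by
  intro Φ hΦ
  by_contra hne
  have hout : ¬ d.InJ μ χ := fun h => hne (h Φ hΦ)
  set S := Finset.univ.filter fun χ => ¬ d.InJ μ χ
  have hmem : χ ∈ S := Finset.mem_filter.2 ⟨Finset.mem_univ _, hout⟩
  have hzero : ∀ ψ ∈ S, ψ ≠ χ → f ψ = 0 := by
    intro ψ hψ hψχ
    by_contra h
    have hle := Finset.sum_le_sum_of_subset_of_nonneg (s := {χ, ψ}) (t := S)
      (Finset.insert_subset hmem (Finset.singleton_subset_iff.2 hψ)) fun j _ _ => mul_self_nonneg (f j)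
    rw [Finset.sum_pair (Ne.symm hψχ)] at hle
    have a := mul_self_pos.2 hχ
    have b := mul_self_pos.2 h
    omega
  have h := hort Φ hΦ
  rw [Finset.sum_eq_single χ (fun ψ _ hψ => ?_) (fun h => absurd (Finset.mem_univ χ) h)] at h
  · exact hne ((mul_eq_zero.1 h).resolve_left hχ)
  · by_cases hJ : d.InJ μ ψ
    · rw [hJ Φ hΦ, mul_zero]
    · rw [hzero ψ (Finset.mem_filter.2 ⟨Finset.mem_univ _, hJ⟩) hψ, zero_mul]

theorem out_le {f : IrrCharacter G → ℤ} {n : ℤ} (hn : ∑ χ, f χ * f χ = n) (S : Finset (IrrCharacter G))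
    (hS : ∀ χ ∈ S, d.InJ μ χ ∧ f χ ≠ 0) :
    ∑ χ ∈ Finset.univ.filter (fun χ => ¬ d.InJ μ χ), f χ * f χ ≤ n - (S.card : ℤ) := by
  have h1 : (S.card : ℤ) ≤ ∑ χ ∈ Finset.univ.filter (fun χ => d.InJ μ χ), f χ * f χ := by
    refine le_trans ?_ (Finset.sum_le_sum_of_subset_of_nonneg (s := S)
      (fun χ hχ => Finset.mem_filter.2 ⟨Finset.mem_univ _, (hS χ hχ).1⟩) fun j _ _ => mul_self_nonneg (f j))
    have := Finset.card_nsmul_le_sum S (fun χ => f χ * f χ) 1 fun χ hχ => mul_self_pos.2 (hS χ hχ).2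
    simpa using this
  have h2 := Finset.sum_filter_add_sum_filter_not Finset.univ (fun χ => d.InJ μ χ) fun χ => f χ * f χ
  rw [hn] at h2
  omega

theorem sum_dJ {f : IrrCharacter G → ℤ} (hf : ∀ χ, f χ ≠ 0 → d.InJ μ χ) :
    ∑ χ, f χ * (d.dJ μ χ : ℤ) = ∑ χ, f χ * (deg (χ : G → ℂ) : ℤ) := by
  refine Finset.sum_congr rfl fun χ _ => ?_
  by_cases h : f χ = 0
  · rw [h, zero_mul, zero_mul]
  · rw [dJ, if_pos (hf χ h)]

theorem fF_gram (k l : Fin 3) : ∑ χ, d.fF μ k χ * d.fF μ l χ = if k = l then 4 else 2 := C.gram_FF' d.hM μ k l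

theorem fF_deg (k : Fin 3) : ∑ χ, d.fF μ k χ * (d.dJ μ χ : ℤ) = 0 := by
  rw [d.sum_dJ μ fun χ h => d.fF_inJ μ h]
  exact C.LL_deg (C.gen_Fmu k μ)

theorem fY_gram {θ φ : C.D.B →* ℂˣ} (hθ : θ ≠ 1) (hθi : C.Inv θ) (hφ : φ ≠ 1) (hφi : C.Inv φ) :
    ∑ χ, d.fY μ θ χ * d.fY μ φ χ = 4 * dd θ φ := by
  rw [fY, fY, C.gram_YY' d.hM d.hco hθ hφ hφi, C.selZ_inv hθi, if_pos rfl, one_mul]

theorem fY_deg {θ : C.D.B →* ℂˣ} (hθ : θ ≠ 1) (hθi : C.Inv θ) : ∑ χ, d.fY μ θ χ * (d.dJ μ χ : ℤ) = 0 := by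
  rw [d.sum_dJ μ fun χ h => d.fY_inJ μ hθ hθi h]
  exact C.LL_deg (C.gen_Yt θ μ)

theorem fFY (k : Fin 3) {θ : C.D.B →* ℂˣ} (hθ : θ ≠ 1) : ∑ χ, d.fF μ k χ * d.fY μ θ χ = 0 :=
  C.gram_FY' d.hM d.hco hθ k μ μ

/-- The three vectors of an orbit. -/
theorem triple {θ : C.D.B →* ℂˣ} (hθ : θ ≠ 1) (hθi : C.Inv θ) :
    Triple (d.dJ μ) (fun k => d.fY μ (d.R.orb θ k)) where
  pos := d.dJ_pos μ
  norm := fun k => by
    simp only [pow_two, d.fY_gram μ (d.R.orb_ne hθ k) (d.R.orb_inv hθi k) (d.R.orb_ne hθ k) (d.R.orb_inv hθi k),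
      d.R.dd_orb d.hco hθ hθi]
    simp
  degree := fun k => d.fY_deg μ (d.R.orb_ne hθ k) (d.R.orb_inv hθi k)
  orth := fun k l h => by
    simp [d.fY_gram μ (d.R.orb_ne hθ k) (d.R.orb_inv hθi k) (d.R.orb_ne hθ l) (d.R.orb_inv hθi l),
      d.R.dd_orb d.hco hθ hθi, h]
  parity := fun k χ => by
    have p0 := d.R.parity_Yt (M := d.M) (θ := θ) μ χ
    have p1 := d.R.parity_Yt (M := d.M) (θ := θ.comp d.R.rB) μ χ
    fin_cases k
    · simp
    · simpa [Rot.orb, fY] using p0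
    · simpa [Rot.orb, fY] using Int.dvd_add p1 p0

theorem F_off_T {θ : C.D.B →* ℂˣ} (hθ : θ ≠ 1) (hθi : C.Inv θ) (k : Fin 3) {χ : IrrCharacter G}
    (hχ : d.fY μ θ χ ≠ 0) : d.fF μ k χ = 0 := by
  refine (d.triple μ hθ hθi).supp_zero _ ?_ (d.fF_deg μ k) (fun l => ?_) (by simpa [Rot.orb] using hχ)
  · simp [pow_two, d.fF_gram μ]
  · rw [← d.fFY μ k (d.R.orb_ne hθ l)]
    exact Finset.sum_congr rfl fun χ _ => mul_comm _ _

/-! ### `Ψ` -/

theorem fc_gram {θ φ : C.D.B →* ℂˣ} (hθ : θ ≠ 1) (hθi : C.Inv θ) (hφ : φ ≠ 1) (hφi : C.Inv φ) :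
    ∑ χ, d.fc μ θ χ * d.fc μ φ χ = 2 + dd θ φ := by
  rw [fc, fc, d.R.cPs_gram d.h0 d.hco hθ hφ hφi, C.selZ_inv hθi, if_pos rfl, one_mul]

theorem fc_F {θ : C.D.B →* ℂˣ} (hθ : θ ≠ 1) (hθi : C.Inv θ) (k : Fin 3) :
    ∑ χ, d.fc μ θ χ * d.fF μ k χ = if k = 0 then 0 else 1 := by
  rw [fc, fF, d.R.cPs_F d.hM d.hco hθ, C.selZ_inv hθi, if_pos rfl]

theorem fc_Y {θ φ : C.D.B →* ℂˣ} (hθ : θ ≠ 1) (hθi : C.Inv θ) (hφ : φ ≠ 1) (hφi : C.Inv φ) :
    ∑ χ, d.fc μ θ χ * d.fY μ φ χ =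
      dd θ φ - dd (θ.comp d.R.rB) φ - dd ((θ.comp d.R.rB).comp d.R.rB) φ := by
  rw [fc, fY, d.R.cPs_Y d.hM d.hco hθ hφ hφi, C.selZ_inv hθi, if_pos rfl, one_mul]

theorem fc_inJ {θ : C.D.B →* ℂˣ} (hθ : θ ≠ 1) (hθi : C.Inv θ) {χ : IrrCharacter G} (h : d.fc μ θ χ ≠ 0) :
    d.InJ μ χ := by
  have hn : ∑ χ, d.fc μ θ χ * d.fc μ θ χ = 3 := by
    rw [d.fc_gram μ hθ hθi hθ hθi, C.dd_self' hθ]; norm_num
  obtain ⟨x1, -, hx1⟩ : ∃ x ∈ Finset.univ, d.fc μ θ x * d.fY μ θ x ≠ 0 := by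
    refine Finset.exists_ne_zero_of_sum_ne_zero ?_
    rw [d.fc_Y μ hθ hθi hθ hθi]
    have e1 : dd (θ.comp d.R.rB) θ = 0 := by simpa [Rot.orb] using d.R.dd_orb d.hco hθ hθi 1 0
    have e2 : dd ((θ.comp d.R.rB).comp d.R.rB) θ = 0 := by simpa [Rot.orb] using d.R.dd_orb d.hco hθ hθi 2 0
    rw [C.dd_self' hθ, e1, e2]; norm_num
  obtain ⟨x2, -, hx2⟩ : ∃ x ∈ Finset.univ, d.fc μ θ x * d.fF μ 1 x ≠ 0 := by
    refine Finset.exists_ne_zero_of_sum_ne_zero ?_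
    rw [d.fc_F μ hθ hθi, if_neg (by decide)]; norm_num
  have hne : x1 ≠ x2 := fun e =>
    right_ne_zero_of_mul hx2 (e ▸ d.F_off_T μ hθ hθi 1 (right_ne_zero_of_mul hx1))
  refine d.supp_inJ μ _ ?_ ?_ h
  · rintro Φ (⟨k, ν, hν, rfl⟩ | ⟨φ, ν, hφ, hν, rfl⟩)
    · rw [fc, d.R.cPs_F d.hM d.hco hθ, C.selZ_inv hθi, if_neg (Ne.symm hν)]
      simp
    · by_cases hi : C.Inv φ
      · rw [fc, d.R.cPs_Y d.hM d.hco hθ hφ hi, C.selZ_inv hθi, if_neg (Ne.symm (hν hi)), zero_mul]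
      · rw [fc, d.R.cPs_Y_outside d.hM d.hco hθ hθi hφ hi]
  · refine le_trans (d.out_le μ hn {x1, x2} ?_) ?_
    · intro x hx
      rcases Finset.mem_insert.1 hx with rfl | hx
      · exact ⟨d.fY_inJ μ hθ hθi (right_ne_zero_of_mul hx1), left_ne_zero_of_mul hx1⟩
      · rw [Finset.mem_singleton.1 hx]
        exact ⟨d.fF_inJ μ (right_ne_zero_of_mul hx2), left_ne_zero_of_mul hx2⟩
    · rw [Finset.card_pair hne]; norm_num

theorem fc_deg {θ : C.D.B →* ℂˣ} (hθ : θ ≠ 1) (hθi : C.Inv θ) : ∑ χ, d.fc μ θ χ * (d.dJ μ χ : ℤ) = 0 := by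
  rw [d.sum_dJ μ fun χ h => d.fc_inJ μ hθ hθi h]
  exact C.cPs_deg θ μ

/-- Every `Ψ` agrees on the rows of `μ` with the sum of the selected invariant ones. -/
theorem cPs_row {θ θ0 : C.D.B →* ℂˣ} (hθ : θ ≠ 1) (hθn : ¬ C.Inv θ) (h01 : θ0 ≠ 1) (h0i : C.Inv θ0)
    (ν : C.Phi →* ℂˣ) {k : Fin 3} {χ : IrrCharacter G} (hχ : d.fF μ k χ ≠ 0) :
    C.cPs θ ν χ = ∑ ν', C.selZ θ ν ν' * C.cPs θ0 ν' χ := by
  set W : IrrCharacter G → ℤ := fun ψ => C.cPs θ ν ψ - ∑ ν', C.selZ θ ν ν' * C.cPs θ0 ν' ψ with hW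
  suffices hz : W χ = 0 from sub_eq_zero.1 hz
  by_contra hne
  set m : ℤ := ((C.stab θ).index : ℤ) with hm
  have hsq : ∀ ν', C.selZ θ ν ν' * C.selZ θ ν ν' = C.selZ θ ν ν' := fun ν' => by
    simp only [selZ]; split_ifs <;> simp
  have hd0 : dd θ θ0 = 0 := C.dd_inv_zero hθn h0i
  have hd1 : dd (θ.comp d.R.rB) θ0 = 0 := C.dd_inv_zero (by
    show ¬ C.stab (θ.comp d.R.rB) = ⊤
    rw [d.R.stab_comp]; exact hθn) h0i
  have hd2 : dd ((θ.comp d.R.rB).comp d.R.rB) θ0 = 0 := C.dd_inv_zero (by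
    show ¬ C.stab ((θ.comp d.R.rB).comp d.R.rB) = ⊤
    rw [d.R.stab_comp, d.R.stab_comp]; exact hθn) h0i
  have hWdot : ∀ g : IrrCharacter G → ℤ, ∑ ψ, W ψ * g ψ = ∑ ψ, C.cPs θ ν ψ * g ψ -
      ∑ ν', C.selZ θ ν ν' * ∑ ψ, C.cPs θ0 ν' ψ * g ψ := fun g => by
    simp only [hW, sub_mul, Finset.sum_sub_distrib, Finset.sum_mul, Finset.mul_sum, mul_assoc]
    rw [Finset.sum_comm]
  -- the norm
  have hnorm : ∑ ψ, W ψ * W ψ = m + 1 := by
    have hA : ∀ ν', ∑ ψ, C.cPs θ0 ν' ψ * W ψ = C.selZ θ ν ν' * 2 - C.selZ θ ν ν' * 3 := by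
      intro ν'
      have e : ∑ ψ, C.cPs θ0 ν' ψ * W ψ = ∑ ψ, W ψ * C.cPs θ0 ν' ψ := Finset.sum_congr rfl fun ψ _ => mul_comm _ _
      rw [e, hWdot, d.R.cPs_gram d.h0 d.hco hθ h01 h0i, hd0, Finset.sum_congr rfl (g := fun ν'' =>
        if ν'' = ν' then C.selZ θ ν ν' * 3 else 0) fun ν'' _ => ?_, Finset.sum_ite_eq', if_pos (Finset.mem_univ _)]
      · ring
      · rw [d.R.cPs_gram d.h0 d.hco h01 h01 h0i, C.selZ_inv h0i, C.dd_self' h01]
        by_cases hv : ν'' = ν'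
        · subst hv; simp
        · simp [hv]
    have hB : ∀ ν', ∑ ψ, C.cPs θ0 ν' ψ * C.cPs θ ν ψ = C.selZ θ ν ν' * 2 := fun ν' => by
      rw [show ∑ ψ, C.cPs θ0 ν' ψ * C.cPs θ ν ψ = ∑ ψ, C.cPs θ ν ψ * C.cPs θ0 ν' ψ from
        Finset.sum_congr rfl fun ψ _ => mul_comm _ _, d.R.cPs_gram d.h0 d.hco hθ h01 h0i, hd0, add_zero]
    have hc : ∑ ψ, C.cPs θ ν ψ * W ψ = 1 := by
      have e : ∑ ψ, C.cPs θ ν ψ * W ψ = ∑ ψ, W ψ * C.cPs θ ν ψ :=
        Finset.sum_congr rfl fun ψ _ => mul_comm _ _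
      rw [e, hWdot, d.R.cPs_norm d.h0 d.hco hθ]
      simp only [hB, ← mul_assoc, hsq]
      rw [← Finset.sum_mul, C.sum_selZ, ← hm]
      ring
    rw [hWdot, hc]
    simp only [hA, mul_sub, ← mul_assoc, hsq, Finset.sum_sub_distrib]
    rw [← Finset.sum_mul, ← Finset.sum_mul, C.sum_selZ, ← hm]
    ring
  -- one position in each selected orbit
  have hT : ∀ ν', C.selZ θ ν ν' ≠ 0 → ∃ ψ, W ψ ≠ 0 ∧ C.LL (C.Yt d.M θ0 ν') ψ ≠ 0 := by
    intro ν' hs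
    have h : ∑ ψ, W ψ * C.LL (C.Yt d.M θ0 ν') ψ = - C.selZ θ ν ν' := by
      rw [hWdot, d.R.cPs_Y d.hM d.hco hθ h01 h0i, hd0, hd1, hd2, Finset.sum_congr rfl (g := fun ν'' =>
        if ν'' = ν' then C.selZ θ ν ν' else 0) fun ν'' _ => ?_, Finset.sum_ite_eq', if_pos (Finset.mem_univ _)]
      · ring
      · have e1 : dd (θ0.comp d.R.rB) θ0 = 0 := by simpa [Rot.orb] using d.R.dd_orb d.hco h01 h0i 1 0
        have e2 : dd ((θ0.comp d.R.rB).comp d.R.rB) θ0 = 0 := by simpa [Rot.orb] using d.R.dd_orb d.hco h01 h0i 2 0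
        rw [d.R.cPs_Y d.hM d.hco h01 h01 h0i, C.selZ_inv h0i, C.dd_self' h01, e1, e2]
        by_cases hv : ν'' = ν'
        · subst hv; simp
        · simp [hv]
    obtain ⟨ψ, -, hψ⟩ := Finset.exists_ne_zero_of_sum_ne_zero (h.trans_ne (neg_ne_zero.2 hs))
    exact ⟨ψ, left_ne_zero_of_mul hψ, right_ne_zero_of_mul hψ⟩
  choose x hx using hT
  set N := Finset.univ.filter fun ν' => C.selZ θ ν ν' ≠ 0
  have hNcard : (N.card : ℤ) = m := by
    rw [hm, ← C.sum_selZ θ ν, ← Finset.sum_boole]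
    refine Finset.sum_congr rfl fun ν' _ => ?_
    simp only [selZ]; split_ifs <;> simp_all
  have hN : ∀ a : N, C.selZ θ ν a.1 ≠ 0 := fun a => by
    have h := a.2
    simp only [N, Finset.mem_filter] at h
    exact h.2
  let S := N.attach.image fun ν' => x ν'.1 (hN ν')
  have hScard : S.card = N.card := by
    rw [Finset.card_image_of_injective, Finset.card_attach]
    intro a b hab
    by_contra hne'
    have hab' : x a.1 (hN a) = x b.1 (hN b) := hab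
    exact (hx b.1 (hN b)).2
      (hab' ▸ C.sep_Y_Y d.hM d.hco h01 h0i h01 (fun _ e => hne' (Subtype.ext e))
        (hx a.1 (hN a)).2)
  have hS : ∀ ψ ∈ S, W ψ ≠ 0 ∧ d.fF μ k ψ = 0 := by
    intro ψ hψ
    obtain ⟨a, -, rfl⟩ := Finset.mem_image.1 hψ
    obtain ⟨h1, h2⟩ := hx a.1 (hN a)
    refine ⟨h1, ?_⟩
    by_cases ha : (a.1 : C.Phi →* ℂˣ) = μ
    · exact d.F_off_T μ h01 h0i k (by rw [fY, ← ha]; exact h2)
    · by_contra hk
      exact h2 (C.sep_F_Y d.hM d.hco h01 (fun _ => Ne.symm ha) k hk)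
  have hsum : ∑ ψ, W ψ * d.fF μ k ψ = 0 := by
    rw [hWdot, fF, d.R.cPs_F d.hM d.hco hθ, Finset.sum_congr rfl (g := fun ν' =>
      if ν' = μ then (if k = 0 then 0 else C.selZ θ ν μ) else 0) fun ν' _ => ?_, Finset.sum_ite_eq',
      if_pos (Finset.mem_univ _), sub_self]
    rw [d.R.cPs_F d.hM d.hco h01, C.selZ_inv h0i]
    by_cases hv : ν' = μ
    · subst hv; by_cases hk : k = 0 <;> simp [hk]
    · simp [hv]
  rw [Finset.sum_eq_single χ (fun ψ _ hψ => ?_) (fun h => absurd (Finset.mem_univ χ) h)] at hsum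
  · exact hne ((mul_eq_zero.1 hsum).resolve_right hχ)
  · by_cases hk : d.fF μ k ψ = 0
    · rw [hk, mul_zero]
    · by_cases hw : W ψ = 0
      · rw [hw, zero_mul]
      · exfalso
        have hχS : χ ∉ S := fun h => hχ (hS χ h).2
        have hψS : ψ ∉ insert χ S := fun h => by
          rcases Finset.mem_insert.1 h with h | h
          · exact hψ h
          · exact hk (hS ψ h).2
        have hle := Finset.sum_le_sum_of_subset_of_nonneg (Finset.subset_univ (insert ψ (insert χ S)))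
          fun j _ _ => mul_self_nonneg (W j)
        rw [hnorm, Finset.sum_insert hψS, Finset.sum_insert hχS] at hle
        have h3 : (S.card : ℤ) ≤ ∑ j ∈ S, W j * W j := by
          simpa using Finset.card_nsmul_le_sum S (fun j => W j * W j) 1 fun j hj => mul_self_pos.2 (hS j hj).1
        have a := mul_self_pos.2 hw
        have b := mul_self_pos.2 hne
        rw [hScard, hNcard] at h3
        omega

/-- The congruence modulo `b` on the rows. -/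
theorem cong_b' {θ0 : C.D.B →* ℂˣ} (h01 : θ0 ≠ 1) (h0i : C.Inv θ0) {k : Fin 3} {χ : IrrCharacter G}
    (hχ : d.fF μ k χ ≠ 0) {x c0 : ℤ} (hx : (χ : G → ℂ) C.S.t = (x : ℂ))
    (hc : ∀ θ : C.D.B →* ℂˣ, θ ≠ 1 → C.Inv θ → d.fc μ θ χ = c0) :
    (C.D.b : ℤ) ∣ (deg (χ : G → ℂ) : ℤ) - x - 4 * c0 := by
  have hinv : ∀ (θ : C.D.B →* ℂˣ), θ ≠ 1 → C.Inv θ → ∀ ν, C.cPs θ ν χ = if ν = μ then c0 else 0 := by
    intro θ h1 h2 ν
    split_ifs with hv
    · subst hv; exact hc θ h1 h2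
    · by_contra hne
      have h := d.fc_inJ ν h1 h2 (χ := χ) hne (C.Fmu d.M k μ) (Or.inl ⟨k, μ, Ne.symm hv, rfl⟩)
      exact hχ h
  have hall : ∀ (θ : C.D.B →* ℂˣ), θ ≠ 1 → ∀ ν, C.cPs θ ν χ = C.selZ θ ν μ * c0 := by
    intro θ hθ ν
    by_cases hi : C.Inv θ
    · rw [hinv θ hθ hi ν, C.selZ_inv hi]; split_ifs <;> simp
    · rw [d.cPs_row μ hθ hi h01 h0i ν hχ, Finset.sum_congr rfl (g := fun ν' =>
        if ν' = μ then C.selZ θ ν μ * c0 else 0) fun ν' _ => ?_, Finset.sum_ite_eq', if_pos (Finset.mem_univ _)]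
      rw [hinv θ0 h01 h0i ν']
      split_ifs with hv
      · subst hv; rfl
      · rw [mul_zero]
  obtain ⟨m, hm⟩ := d.R.Ps_coeff (irr_isCharacter χ.2) (c := c0) fun θ hθ => by
    simp only [C.cPs_spec, hall θ hθ]
    push_cast
    rw [← Finset.sum_mul]
    congr 1
    have h := congrArg (fun x : ℤ => (x : ℂ)) (C.sum_selZ θ μ)
    push_cast at h
    rw [← h]
    exact Finset.sum_congr rfl fun ν _ => by rw [C.selZ_comm]
  rw [char_one_eq_deg (irr_isCharacter χ.2), hx, map_intCast] at hm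
  refine ⟨4 * m, ?_⟩
  apply Int.cast_injective (α := ℂ)
  push_cast
  linear_combination hm

end Dat

end Frame

end Cfsg.Agent.Walter.JR
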